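import Cfsg.Agent.KantorSeitz.LineGroup

/-!
# Auxiliary facts: coprime action on a `p`-group, dilatations
-/

set_option autoImplicit false
set_option linter.unusedSectionVars false
set_option linter.style.haveILetI false

namespace Cfsg.Agent.KantorSeitz

open Subgroup MulAction
open scoped commutatorElement

section Aux

variable {G : Type*} [Group G]

/-- a step in the upper central series -/
theorem exists_step {P A : Subgroup G} (hP : Group.IsNilpotent P) (hne : ¬ P ≤ A) :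
    ∃ y ∈ P, y ∉ A ∧ ∀ u ∈ P, y * u * y⁻¹ * u⁻¹ ∈ A := by
  obtain ⟨n, hn⟩ := hP.nilpotent'
  have hex : ∃ n, ¬ Subgroup.upperCentralSeries P n ≤ A.subgroupOf P := by
    refine ⟨n, fun hle => hne ?_⟩
    rw [hn] at hle
    intro x hx
    exact hle (mem_top (⟨x, hx⟩ : P))
  classical
  obtain ⟨m, hm, hmin⟩ : ∃ m, ¬ Subgroup.upperCentralSeries P m ≤ A.subgroupOf P ∧
      ∀ k < m, Subgroup.upperCentralSeries P k ≤ A.subgroupOf P :=
    ⟨Nat.find hex, Nat.find_spec hex, fun k hk => not_not.1 (Nat.find_min hex hk)⟩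
  cases m with
  | zero =>
    exfalso
    apply hm
    rw [Subgroup.upperCentralSeries_zero]
    exact bot_le
  | succ k =>
    obtain ⟨y, hy, hyA⟩ := SetLike.not_le_iff_exists.1 hm
    refine ⟨y.1, y.2, hyA, fun u hu => ?_⟩
    have h1 := (Subgroup.mem_upperCentralSeries_succ_iff.1 hy) ⟨u, hu⟩
    exact hmin k (Nat.lt_succ_self k) h1

/-- an element of the second centre commutes with the derived subgroup -/
theorem comm_of_second {P : Subgroup G} {y : G} (hy : y ∈ P)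
    (hyc : ∀ u ∈ P, ∀ v ∈ P, y * u * y⁻¹ * u⁻¹ * v = v * (y * u * y⁻¹ * u⁻¹)) :
    ∀ c ∈ (⁅P, P⁆ : Subgroup G), c * y = y * c := by
  have : (⁅P, P⁆ : Subgroup G) ≤ centralizer ({y} : Set G) := by
    rw [Subgroup.commutator_le]
    intro u hu v hv
    rw [mem_centralizer_iff]
    intro y' hy'
    rw [Set.mem_singleton_iff] at hy'
    rw [hy']
    set z1 := y * u * y⁻¹ * u⁻¹ with hz1
    set z2 := y * v * y⁻¹ * v⁻¹ with hz2
    have hz1P : z1 ∈ P := mul_mem (mul_mem (mul_mem hy hu) (inv_mem hy)) (inv_mem hu)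
    have hz2P : z2 ∈ P := mul_mem (mul_mem (mul_mem hy hv) (inv_mem hy)) (inv_mem hv)
    have c1 : ∀ w ∈ P, z1 * w = w * z1 := fun w hw => hyc u hu w hw
    have c2 : ∀ w ∈ P, z2 * w = w * z2 := fun w hw => hyc v hv w hw
    have e1 : y * u * y⁻¹ = z1 * u := by rw [hz1]; group
    have e2 : y * v * y⁻¹ = z2 * v := by rw [hz2]; group
    have key : y * ⁅u, v⁆ * y⁻¹ = ⁅u, v⁆ := by
      calc y * ⁅u, v⁆ * y⁻¹ = (y * u * y⁻¹) * (y * v * y⁻¹) * (y * u * y⁻¹)⁻¹ * (y * v * y⁻¹)⁻¹ := by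
            rw [commutatorElement_def]; group
        _ = (z1 * u) * (z2 * v) * (z1 * u)⁻¹ * (z2 * v)⁻¹ := by rw [e1, e2]
        _ = z1 * (u * z2) * v * u⁻¹ * z1⁻¹ * v⁻¹ * z2⁻¹ := by group
        _ = z1 * (z2 * u) * v * u⁻¹ * z1⁻¹ * v⁻¹ * z2⁻¹ := by rw [c2 u hu]
        _ = z1 * (z2 * (u * v * u⁻¹)) * z1⁻¹ * v⁻¹ * z2⁻¹ := by group
        _ = (z2 * (u * v * u⁻¹)) * z1 * z1⁻¹ * v⁻¹ * z2⁻¹ := by
            rw [c1 _ (mul_mem hz2P (mul_mem (mul_mem hu hv) (inv_mem hu)))]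
        _ = z2 * (u * v * u⁻¹ * v⁻¹) * z2⁻¹ := by group
        _ = (u * v * u⁻¹ * v⁻¹) * z2 * z2⁻¹ := by
            rw [c2 _ (mul_mem (mul_mem (mul_mem hu hv) (inv_mem hu)) (inv_mem hv))]
        _ = ⁅u, v⁆ := by rw [commutatorElement_def]; group
    calc y * ⁅u, v⁆ = (y * ⁅u, v⁆ * y⁻¹) * y := by group
      _ = ⁅u, v⁆ * y := by rw [key]
  intro c hc
  exact ((mem_centralizer_iff.1 (this hc)) y rfl).symm

/-- odd order: decomposition with respect to an involution -/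
theorem exists_decomp [Finite G] {P : Subgroup G} (hP : Odd (Nat.card P)) {t : G} (ht : t * t = 1)
    (hn : ∀ x ∈ P, t * x * t⁻¹ ∈ P) {y : G} (hy : y ∈ P) :
    ∃ c ∈ P, ∃ k ∈ P, y = c * k ∧ t * c = c * t ∧ t * k * t⁻¹ = k⁻¹ := by
  set j := y⁻¹ * (t * y * t⁻¹) with hj
  have hti : t⁻¹ = t := inv_eq_of_mul_eq_one_left ht
  have hjP : j ∈ P := mul_mem (inv_mem hy) (hn y hy)
  have hjt : t * j * t⁻¹ = j⁻¹ := by
    rw [hj]
    calc t * (y⁻¹ * (t * y * t⁻¹)) * t⁻¹ = (t * y⁻¹ * t) * y * (t⁻¹ * t⁻¹) := by group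
      _ = (t * y⁻¹ * t) * y := by rw [← mul_inv_rev, ht, inv_one, mul_one]
      _ = (t * y * t⁻¹)⁻¹ * y := by rw [mul_inv_rev, mul_inv_rev, inv_inv, hti]; group
      _ = (y⁻¹ * (t * y * t⁻¹))⁻¹ := by group
  have hodd : Odd (orderOf j) := by
    have h2 : orderOf j ∣ Nat.card P := by
      have := orderOf_dvd_natCard (⟨j, hjP⟩ : P)
      rwa [Subgroup.orderOf_mk] at this
    exact Odd.of_dvd_nat hP h2
  obtain ⟨m, hm⟩ := hodd
  set k := j ^ (m + 1) with hk
  have hkk : k * k = j := by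
    rw [hk, ← pow_add]
    have : m + 1 + (m + 1) = (2 * m + 1) + 1 := by ring
    rw [this, pow_succ, ← hm, pow_orderOf_eq_one, one_mul]
  have hkt : t * k * t⁻¹ = k⁻¹ := by
    rw [hk, ← conj_pow, hjt, inv_pow]
  have hkP : k ∈ P := pow_mem hjP _
  refine ⟨y * k, mul_mem hy hkP, k⁻¹, inv_mem hkP, by group, ?_, ?_⟩
  · have h1 : t * (y * k) * t⁻¹ = y * k := by
      calc t * (y * k) * t⁻¹ = (t * y * t⁻¹) * (t * k * t⁻¹) := by group
        _ = (y * j) * k⁻¹ := by rw [hkt, hj]; group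
        _ = y * k := by rw [← hkk]; group
    calc t * (y * k) = (t * (y * k) * t⁻¹) * t := by group
      _ = y * k * t := by rw [h1]
  · calc t * k⁻¹ * t⁻¹ = (t * k * t⁻¹)⁻¹ := by group
      _ = k⁻¹⁻¹ := by rw [hkt]

/-- If `P = [P, S]` (coprime action) then the fixed points of `S` in `P` lie in `[P, P]`. -/
theorem mem_commutator_of_fixed [Finite G] {p : ℕ} [hp : Fact p.Prime] {P S : Subgroup G}
    (hP : IsPGroup p P) (hS : (Nat.card S).Coprime p) (hSP : S ≤ normalizer (P : Set G))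
    (hgen : P ≤ ⁅P, S⁆) {x : G} (hx : x ∈ P) (hxS : ∀ s ∈ S, s * x = x * s) :
    x ∈ (⁅P, P⁆ : Subgroup G) := by
  classical
  haveI := Fintype.ofFinite S
  let φ : S →* MulAut P := (Subgroup.normalizerMonoidHom P).comp (Subgroup.inclusion hSP)
  have hφ : ∀ (s : S) (u : P), ((φ s u : P) : G) = s * u * (s : G)⁻¹ := fun a v => rfl
  let ν : P →* Abelianization P := ∏ s : S, Abelianization.of.comp (φ s).toMonoidHom
  have hν : ∀ u : P, ν u = ∏ s : S, Abelianization.of (φ s u) := by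
    intro u
    simp only [ν, MonoidHom.finsetProd_apply]
    rfl
  have hνs : ∀ (s : S) (u : P), ν (φ s u) = ν u := by
    intro s u
    rw [hν, hν]
    refine Fintype.prod_equiv (Equiv.mulRight s) _ _ ?_
    intro r
    rw [Equiv.coe_mulRight, map_mul, MulAut.mul_apply]
  have hker : (⁅P, S⁆ : Subgroup G) ≤ ν.ker.map P.subtype := by
    rw [Subgroup.commutator_le]
    intro u hu s hs
    have h1 : (⟨u, hu⟩ : P) * (φ ⟨s, hs⟩ ⟨u, hu⟩)⁻¹ ∈ ν.ker := by
      rw [MonoidHom.mem_ker, map_mul, map_inv, hνs, mul_inv_cancel]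
    refine ⟨_, h1, ?_⟩
    change u * (s * u * s⁻¹)⁻¹ = ⁅u, s⁆
    rw [commutatorElement_def]
    group
  have hνx : ν ⟨x, hx⟩ = 1 := by
    obtain ⟨y, hy, hyx⟩ := hker (hgen hx)
    have : y = ⟨x, hx⟩ := Subtype.ext hyx
    rw [← this]
    exact hy
  have hfix : ∀ s : S, φ s ⟨x, hx⟩ = ⟨x, hx⟩ := by
    intro s
    apply Subtype.ext
    rw [hφ, hxS s.1 s.2]
    group
  rw [hν] at hνx
  simp only [hfix, Finset.prod_const, Finset.card_univ] at hνx
  have hcard : Fintype.card S = Nat.card S := (Nat.card_eq_fintype_card).symm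
  rw [hcard] at hνx
  obtain ⟨k, hk⟩ := hP ⟨x, hx⟩
  have h1 : (Abelianization.of (⟨x, hx⟩ : P)) ^ p ^ k = 1 := by
    rw [← map_pow, hk, map_one]
  have h2 : orderOf (Abelianization.of (⟨x, hx⟩ : P)) ∣ 1 := by
    have h3 := orderOf_dvd_of_pow_eq_one hνx
    have h4 := orderOf_dvd_of_pow_eq_one h1
    have h5 : (Nat.card S).Coprime (p ^ k) := Nat.Coprime.pow_right k hS
    rw [← h5]
    exact Nat.dvd_gcd h3 h4
  rw [Nat.dvd_one, orderOf_eq_one_iff] at h2
  have h3 : (⟨x, hx⟩ : P) ∈ commutator P := by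
    rw [← Abelianization.ker_of]
    exact h2
  rw [← Subgroup.map_subtype_commutator]
  exact ⟨_, h3, rfl⟩

end Aux

/-- the group of dilatations with centre `a` -/
def KK {G Ω : Type*} [Group G] [MulAction G Ω] (p : ℕ) (U : Ω → Subgroup G) (a : Ω) : Subgroup G :=
  pP p (U a) ⊓ ⨅ c : Ω, normalizer (X p U a c : Set G)

namespace KS

variable {G Ω : Type*} [Group G] [Finite G] [MulAction G Ω] [Finite Ω] [FaithfulSMul G Ω]
  {U : Ω → Subgroup G} {p : ℕ} [hp : Fact p.Prime]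

theorem mem_KK {a : Ω} {y : G} :
    y ∈ KK p U a ↔ y ∈ pP p (U a) ∧ ∀ c : Ω, y ∈ normalizer (X p U a c : Set G) := by
  rw [KK, mem_inf, mem_iInf]

theorem KK_of_comm {a : Ω} {y : G} (hy : y ∈ pP p (U a))
    (hc : ∀ c : Ω, c ≠ a → ∀ x ∈ X p U a c, x * y = y * x) (h : KS U) : y ∈ KK p U a := by
  rw [mem_KK]
  refine ⟨hy, fun c => ?_⟩
  by_cases hca : c = a
  · have : X p U a c = pP p (U a) := by
      rw [hca]
      apply le_antisymm
      · exact fun x hx => hx.1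
      · exact fun x hx => mem_X.2 ⟨hx, h.fix (pP_le p _ hx)⟩
    rw [this]
    exact le_normalizer hy
  · rw [mem_normalizer_iff]
    intro x
    constructor
    · intro hx
      rw [← hc c hca x hx, mul_assoc, mul_inv_cancel, mul_one]
      exact hx
    · intro hx
      have h1 := hc c hca _ hx
      have h2 : y * x * y⁻¹ = x := by
        have h3 : y * x * y⁻¹ * y = y * (y * x * y⁻¹) := h1
        have h4 : y * x = y * (y * x * y⁻¹) := by
          rw [← h3]
          group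
        exact (mul_left_cancel h4).symm
      rwa [h2] at hx

theorem KK_conj (h : KS U) (g : G) {a : Ω} {y : G} (hy : y ∈ KK p U a) :
    g * y * g⁻¹ ∈ KK p U (g • a) := by
  rw [mem_KK] at hy ⊢
  refine ⟨h.conj_pP g hy.1, fun c => ?_⟩
  have h1 := hy.2 (g⁻¹ • c)
  rw [mem_normalizer_iff] at h1 ⊢
  have key : ∀ x, x ∈ X p U (g • a) c ↔ g⁻¹ * x * g ∈ X p U a (g⁻¹ • c) := by
    intro x
    constructor
    · intro hx
      have h2 := h.conj_X (p := p) g⁻¹ hx
      rwa [inv_smul_smul, inv_inv] at h2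
    · intro hx
      have h2 := h.conj_X (p := p) g hx
      rw [smul_inv_smul] at h2
      have h3 : g * (g⁻¹ * x * g) * g⁻¹ = x := by group
      rwa [h3] at h2
  intro x
  have h3 := h1 (g⁻¹ * x * g)
  have h4 : y * (g⁻¹ * x * g) * y⁻¹ = g⁻¹ * (g * y * g⁻¹ * x * (g * y * g⁻¹)⁻¹) * g := by group
  rw [h4, ← key, ← key] at h3
  exact h3

theorem KK_smul_mem {a c : Ω} {y : G} (hy : y ∈ KK p U a) : y • c ∈ L p U a c := by
  intro x hx
  have h1 := inv_mem ((mem_KK.1 hy).2 c)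
  rw [mem_normalizer_iff] at h1
  have h2 := (h1 x).1 hx
  rw [inv_inv] at h2
  have h3 : (y⁻¹ * x * y) • c = c := h2.2
  rw [mul_smul, mul_smul, inv_smul_eq_iff] at h3
  exact h3

theorem KK_inf_X (h : KS U) {a b : Ω} (hab : a ≠ b) {y : G} (hy : y ∈ KK p U a)
    (hyX : y ∈ X p U a b) : y = 1 := by
  by_cases hP : pP p (U a) = ⊥
  · have := (mem_KK.1 hy).1
    rwa [hP, mem_bot] at this
  have hyb : y ∈ KK p U b := h.fam_symm (N := fun c => KK p U c) hP
    (fun g c x hx => h.KK_conj g hx) ((isPGroup_pP (h.nil a)).to_le inf_le_left)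
    (fun x hx => h.fix (pP_le p _ (mem_KK.1 hx).1)) hy hyX.2
  apply eq_one_of_fix (Ω := Ω)
  intro c
  by_cases hc : c ∈ L p U a b
  · exact hc y hyX
  · by_contra hne
    have hac : a ≠ c := fun e => hc (by rw [← e]; exact h.left_mem_L a b)
    have hbc : b ≠ c := fun e => hc (by rw [← e]; exact right_mem_L a b)
    have h1 : y • c ∈ L p U a c := KK_smul_mem hy
    have h2 : y • c ∈ L p U b c := KK_smul_mem hyb
    have h3 := h.L_eq_L hac hbc h1 (right_mem_L a c) h2 (right_mem_L b c) hne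
    apply hc
    have h4 : b ∈ L p U a c := by rw [h3]; exact h.left_mem_L b c
    rw [h.L_eq hac (h.left_mem_L a c) h4 hab]
    exact right_mem_L a c

theorem KK_comm (h : KS U) {a c : Ω} (hac : a ≠ c) {y : G} (hy : y ∈ KK p U a) {x : G}
    (hx : x ∈ X p U a c) : x * y = y * x := by
  have h1 : y * x * y⁻¹ ∈ X p U a c := (mem_normalizer_iff.1 ((mem_KK.1 hy).2 c) x).1 hx
  have hxa : x • a = a := h.fix (pP_le p _ hx.1)
  have h2 : x * y⁻¹ * x⁻¹ ∈ KK p U a := by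
    have := h.KK_conj x (inv_mem hy)
    rwa [hxa] at this
  have h3 : y * x * y⁻¹ * x⁻¹ = 1 := by
    refine h.KK_inf_X hac ?_ (mul_mem h1 (inv_mem hx))
    have h4 : y * x * y⁻¹ * x⁻¹ = y * (x * y⁻¹ * x⁻¹) := by group
    rw [h4]
    exact mul_mem hy h2
  have h5 : y * x = x * y := by
    have h6 := eq_of_mul_inv_eq_one h3
    rw [mul_inv_eq_iff_eq_mul] at h6
    exact h6
  exact h5.symm

theorem eq_one_of_step (h : KS U) {a b : Ω} (hab : a ≠ b)
    (htr : ∀ c : Ω, c ≠ a → ∃ u ∈ pP p (U a), u • b = c) {x : G} (hx : x ∈ X p U a b)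
    (hxc : ∀ u ∈ pP p (U a), x * u * x⁻¹ * u⁻¹ ∈ KK p U a) : x = 1 := by
  refine h.KK_inf_X hab ?_ hx
  rw [mem_KK]
  refine ⟨hx.1, fun c => ?_⟩
  by_cases hca : c = a
  · have : X p U a c = pP p (U a) := by
      rw [hca]
      apply le_antisymm
      · exact fun x hx => hx.1
      · exact fun x hx => mem_X.2 ⟨hx, h.fix (pP_le p _ hx)⟩
    rw [this]
    exact le_normalizer hx.1
  · obtain ⟨u, hu, huc⟩ := htr c hca
    have hua : u • a = a := h.fix (pP_le p _ hu)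
    have h1 : u * x * u⁻¹ ∈ X p U a c := by
      have := h.conj_X (p := p) u hx
      rwa [hua, huc] at this
    have h2 : x = (x * u * x⁻¹ * u⁻¹) * (u * x * u⁻¹) := by group
    rw [h2]
    exact mul_mem ((mem_KK.1 (hxc u hu)).2 c) (le_normalizer h1)

end KS

end Cfsg.Agent.KantorSeitz
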