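import Cfsg.Agent.KantorSeitz.Defs

/-!
# The form of the Hering–Kantor–Seitz theorem (even degree) used for the Kantor–Seitz theorem

`HKSEven` is the only consequence of the classification of the split doubly transitive groups of even degree
used in the proof of S1145. In `Iface V a b` the alternatives are

* `IAff` : there is a transitive normal elementary abelian `2`-subgroup;
* otherwise `V a` is a `q`-group and `O_q(H_ab) = 1`, and one of
* `ITor` : (`PSL(2,q)`, `PSU(3,q)`) there is a `q'`-group `T` normal in `H_ab`, contained in every nontrivial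
  normal subgroup of `H`, irreducible and nontrivial on `Z(V a)`, and either `V a` is abelian or there is an
  involution `t` in `T` central in `H_ab` with `C_{V a}(t) = Z(V a)`;
* `IRee` : (`Ree(q)`, `PΓL(2,8)`) every involution of `H` fixes a point and some involution of `H_ab` lies in
  every nontrivial normal subgroup of `H`.
-/

set_option autoImplicit false

namespace Cfsg.Agent.KantorSeitz

open Subgroup MulAction

/-- affine of even degree -/
def IAff (H Λ : Type*) [Group H] [MulAction H Λ] : Prop :=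
  ∃ E : Subgroup H, E.Normal ∧ (∀ x ∈ E, x * x = 1) ∧ ∀ c d : Λ, ∃ x ∈ E, x • c = d

/-- Ree type -/
def IRee {H Λ : Type*} [Group H] [MulAction H Λ] (a b : Λ) : Prop :=
  (∀ t : H, t * t = 1 → ∃ c : Λ, t • c = c) ∧
    ∃ t : H, t ≠ 1 ∧ t * t = 1 ∧ t • a = a ∧ t • b = b ∧ ∀ M : Subgroup H, M.Normal → M ≠ ⊥ → t ∈ M

/-- types `PSL(2,q)` and `PSU(3,q)` -/
def ITor {H Λ : Type*} [Group H] [MulAction H Λ] (V : Λ → Subgroup H) (q : ℕ) (a b : Λ) : Prop :=
  ∃ T : Subgroup H, (Nat.card T).Coprime q ∧ (∀ t ∈ T, t • a = a ∧ t • b = b) ∧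
    (∀ d : H, d • a = a → d • b = b → ∀ t ∈ T, d * t * d⁻¹ ∈ T) ∧
    (∀ M : Subgroup H, M.Normal → M ≠ ⊥ → T ≤ M) ∧
    -- `T` is irreducible on the centre of `V a`
    (∀ R : Subgroup H, R ≤ V a → (∀ r ∈ R, ∀ v ∈ V a, r * v = v * r) →
      (∀ t ∈ T, ∀ r ∈ R, t * r * t⁻¹ ∈ R) → R ≠ ⊥ →
      ∀ v ∈ V a, (∀ w ∈ V a, v * w = w * v) → v ∈ R) ∧
    -- and nontrivial
    (∃ t ∈ T, ∃ v ∈ V a, (∀ w ∈ V a, v * w = w * v) ∧ t * v ≠ v * t) ∧
    ((∀ v ∈ V a, ∀ w ∈ V a, v * w = w * v) ∨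
      ∃ t ∈ T, t ≠ 1 ∧ t * t = 1 ∧ (∀ d : H, d • a = a → d • b = b → d * t = t * d) ∧
        ∀ v ∈ V a, t * v = v * t ↔ ∀ w ∈ V a, v * w = w * v)

/-- the alternatives -/
def Iface {H Λ : Type*} [Group H] [MulAction H Λ] (V : Λ → Subgroup H) (a b : Λ) : Prop :=
  IAff H Λ ∨ ∃ q : ℕ, q.Prime ∧ IsPGroup q (V a) ∧
    (∀ R : Subgroup H, IsPGroup q R → (∀ r ∈ R, r • a = a ∧ r • b = b) →
      (∀ d : H, d • a = a → d • b = b → ∀ r ∈ R, d * r * d⁻¹ ∈ R) → R = ⊥) ∧
    (ITor V q a b ∨ IRee (H := H) a b)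

/-- The Hering–Kantor–Seitz theorem in even degree, in the form used below. -/
def HKSEven.{v} : Prop :=
  ∀ (H Λ : Type v) [Group H] [Finite H] [MulAction H Λ] [Finite Λ] [FaithfulSMul H Λ]
    (V : Λ → Subgroup H), KS V → (∀ a b : Λ, a ≠ b → ∀ x ∈ V a, x • b = b → x = 1) →
    Even (Nat.card Λ) → ∀ a b : Λ, a ≠ b → Iface V a b

end Cfsg.Agent.KantorSeitz
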