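import Cfsg.Agent.KantorSeitz.Defs
import Cfsg.Agent.PermutationGroups.Gleason
import Cfsg.Agent.Lib.ThompsonPQ

/-!
# The linear space attached to a non-regular transitive nilpotent normal subgroup

Let `h : KS U`, the action faithful, `p` a prime with `X p U a b ≠ ⊥`. Then the sets `L p U a b` (`a ≠ b`) are
the lines of a linear space.
-/

set_option autoImplicit false
set_option linter.unusedSectionVars false

namespace Cfsg.Agent.KantorSeitz

open Subgroup MulAction

/-! ### Auxiliary facts on `p`-groups -/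

section PGroup

variable {G : Type*} [Group G] [Finite G]

theorem exists_fixed_of_pgroup (p : ℕ) [hp : Fact p.Prime] (Y W : Subgroup G) (hY : IsPGroup p Y)
    (hW : IsPGroup p W) (hW1 : W ≠ ⊥) (hn : ∀ y ∈ Y, ∀ z ∈ W, y * z * y⁻¹ ∈ W) :
    ∃ z ∈ W, z ≠ 1 ∧ ∀ y ∈ Y, y * z = z * y := by
  letI : MulAction Y W :=
    { smul := fun y z => ⟨y.1 * z.1 * y.1⁻¹, hn y.1 y.2 z.1 z.2⟩
      one_smul := fun z => Subtype.ext (by change 1 * z.1 * 1⁻¹ = z.1; group)
      mul_smul := fun x y z => Subtype.ext (by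
        change (x.1 * y.1) * z.1 * (x.1 * y.1)⁻¹ = x.1 * (y.1 * z.1 * y.1⁻¹) * x.1⁻¹
        group) }
  have hsm : ∀ (y : Y) (z : W), ((y • z : W) : G) = y.1 * z.1 * y.1⁻¹ := fun _ _ => rfl
  have h1 := hY.card_modEq_card_fixedPoints W
  have hpW : p ∣ Nat.card W := by
    obtain ⟨n, hn⟩ := IsPGroup.iff_card.1 hW
    rw [hn]
    refine dvd_pow_self p ?_
    rintro rfl
    rw [pow_zero, Subgroup.card_eq_one] at hn
    exact hW1 hn
  have h2 : p ∣ Nat.card (fixedPoints Y W) := (Nat.modEq_zero_iff_dvd.1 (h1.symm.trans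
    (Nat.modEq_zero_iff_dvd.2 hpW)))
  have h3 : (1 : W) ∈ fixedPoints Y W := fun y => Subtype.ext (by
    rw [hsm]; change y.1 * 1 * y.1⁻¹ = 1; group)
  have h4 : 1 < Nat.card (fixedPoints Y W) := by
    have hpos : 0 < Nat.card (fixedPoints Y W) := Nat.card_pos_iff.2 ⟨⟨⟨1, h3⟩⟩, inferInstance⟩
    exact lt_of_lt_of_le hp.out.one_lt (Nat.le_of_dvd hpos h2)
  have := Finite.one_lt_card_iff_nontrivial.1 h4
  obtain ⟨⟨⟨z, hz⟩, hzf⟩, hz1⟩ := exists_ne (⟨1, h3⟩ : fixedPoints Y W)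
  refine ⟨z, hz, fun e => hz1 (by subst e; rfl), fun y hy => ?_⟩
  have h5 := congrArg Subtype.val (hzf ⟨y, hy⟩)
  rw [hsm] at h5
  change y * z * y⁻¹ = z at h5
  rw [mul_inv_eq_iff_eq_mul] at h5
  exact h5

theorem Z_ne_bot {Ω : Type*} {U : Ω → Subgroup G} {p : ℕ} [hp : Fact p.Prime] {a : Ω}
    (hU : Group.IsNilpotent (U a)) (h : pP p (U a) ≠ ⊥) : Z p U a ≠ ⊥ := by
  obtain ⟨z, hz, hz1, hzc⟩ := exists_fixed_of_pgroup p (pP p (U a)) (pP p (U a)) (isPGroup_pP hU)
    (isPGroup_pP hU) h (fun y hy z hz => mul_mem (mul_mem hy hz) (inv_mem hy))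
  intro hb
  exact hz1 ((eq_bot_iff_forall _).1 hb z (mem_Z.2 ⟨hz, hzc⟩))

theorem Z_le {Ω : Type*} {U : Ω → Subgroup G} {p : ℕ} {a : Ω} : Z p U a ≤ pP p (U a) := inf_le_left

end PGroup

namespace KS

variable {G Ω : Type*} [Group G] [Finite G] [MulAction G Ω] [Finite Ω] [FaithfulSMul G Ω]
  {U : Ω → Subgroup G} {p : ℕ} [hp : Fact p.Prime]

theorem eq_one_of_fix {x : G} (hx : ∀ c : Ω, x • c = c) : x = 1 :=
  FaithfulSMul.eq_of_smul_eq_smul (α := Ω) (fun c => by rw [hx, one_smul])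

/-- an element commuting with `U a`, fixing `a` and another point is trivial -/
theorem semireg_of_comm (h : KS U) {a b : Ω} (hab : b ≠ a) {z : G} (hza : z • a = a)
    (hc : ∀ y ∈ U a, y * z = z * y) (hb : z • b = b) : z = 1 := by
  apply eq_one_of_fix (Ω := Ω)
  intro c
  by_cases hca : c = a
  · rw [hca, hza]
  · obtain ⟨y, hy, rfl⟩ := h.trans hab hca
    rw [← mul_smul, ← hc y hy, mul_smul, hb]

theorem Z_comm (h : KS U) {a : Ω} {z : G} (hz : z ∈ Z p U a) {y : G} (hy : y ∈ U a) :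
    y * z = z * y := by
  obtain ⟨y1, hy1, y2, hy2, rfl, -, -⟩ := exists_mul_parts (p := p) hy
  have h1 := (mem_Z.1 hz).2 y1 hy1
  have h2 := commute_parts (h.nil a) (mem_Z.1 hz).1 hy2
  rw [mul_assoc, ← h2, ← mul_assoc, h1, mul_assoc]

theorem Z_semireg (h : KS U) {a b : Ω} (hab : b ≠ a) {z : G} (hz : z ∈ Z p U a)
    (hb : z • b = b) : z = 1 :=
  h.semireg_of_comm hab (h.fix (pP_le p _ (Z_le hz))) (fun _ hy => h.Z_comm hz hy) hb

theorem Z_fix (h : KS U) {a : Ω} {z : G} (hz : z ∈ Z p U a) : z • a = a :=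
  h.fix (pP_le p _ (Z_le hz))

theorem pP_ne_bot (h : KS U) {a : Ω} (ha : pP p (U a) ≠ ⊥) (b : Ω) : pP p (U b) ≠ ⊥ := by
  obtain ⟨g, rfl⟩ := h.tr a b
  intro hb
  apply ha
  rw [eq_bot_iff_forall] at hb ⊢
  intro x hx
  have := hb _ (h.conj_pP g hx)
  have h2 : x = g⁻¹ * (g * x * g⁻¹) * g := by group
  rw [h2, this]
  group

/-- Gleason: the centralizer of a `p`-group is transitive on its fixed points. -/
theorem exists_centralizing (h : KS U) {a : Ω} (ha : pP p (U a) ≠ ⊥) {Y : Subgroup G}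
    (hY : IsPGroup p Y) {b c : Ω} (hb : ∀ y ∈ Y, y • b = b) (hc : ∀ y ∈ Y, y • c = c) :
    ∃ g : G, (∀ y ∈ Y, y * g = g * y) ∧ g • b = c := by
  let Δ : Set Ω := {d | ∀ y ∈ Y, y • d = d}
  let C : Subgroup G := centralizer (Y : Set G)
  have hC : ∀ g ∈ C, ∀ d ∈ Δ, g • d ∈ Δ := by
    intro g hg d hd y hy
    rw [← mul_smul, mem_centralizer_iff.1 hg y hy, mul_smul, hd y hy]
  letI : MulAction C Δ :=
    { smul := fun g d => ⟨g.1 • d.1, hC g.1 g.2 d.1 d.2⟩
      one_smul := fun d => Subtype.ext (one_smul G d.1)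
      mul_smul := fun x y d => Subtype.ext (mul_smul x.1 y.1 d.1) }
  have hsm : ∀ (g : C) (d : Δ), ((g • d : Δ) : Ω) = g.1 • d.1 := fun _ _ => rfl
  have key : IsPretransitive C Δ := by
    refine Cfsg.Agent.PermutationGroups.Gleason.isPretransitive (p := p) hp.out ?_
    rintro ⟨d, hd⟩
    have hPd := h.pP_ne_bot ha d
    obtain ⟨z, hz, hz1, hzc⟩ := exists_fixed_of_pgroup p Y (Z p U d) hY
      ((isPGroup_pP (h.nil d)).to_le Z_le) (Z_ne_bot (h.nil d) hPd) (fun y hy z hz => by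
        have := h.conj_Z y hz
        rwa [hd y hy] at this)
    have hzC : z ∈ C := mem_centralizer_iff.2 hzc
    refine ⟨zpowers ⟨z, hzC⟩, ?_, ?_⟩
    · obtain ⟨-, k, hk⟩ := (mem_pP (h.nil d)).1 (Z_le hz)
      rintro ⟨x, hx⟩
      obtain ⟨i, rfl⟩ := mem_zpowers_iff.1 hx
      refine ⟨k, Subtype.ext ?_⟩
      change ((⟨z, hzC⟩ : C) ^ i) ^ p ^ k = 1
      have : (⟨z, hzC⟩ : C) ^ p ^ k = 1 := Subtype.ext hk
      rw [← zpow_natCast, ← zpow_mul, mul_comm, zpow_mul, zpow_natCast, this, one_zpow]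
    · ext ⟨e, he⟩
      simp only [Set.mem_singleton_iff]
      constructor
      · intro hfix
        have h1 := congrArg Subtype.val (hfix ⟨⟨z, hzC⟩, mem_zpowers _⟩)
        change z • e = e at h1
        by_contra hne
        exact hz1 (h.Z_semireg (fun hed => hne (Subtype.ext hed)) hz h1)
      · intro hed
        have hed' : e = d := congrArg Subtype.val hed
        subst hed'
        rintro ⟨x, hx⟩
        obtain ⟨i, rfl⟩ := mem_zpowers_iff.1 hx
        apply Subtype.ext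
        change ((⟨z, hzC⟩ : C) ^ i).1 • e = e
        have h2 : z ∈ stabilizer G e := h.Z_fix hz
        exact (zpow_mem h2 i : z ^ i ∈ stabilizer G e)
  obtain ⟨g, hg⟩ := key.exists_smul_eq ⟨b, hb⟩ ⟨c, hc⟩
  exact ⟨g.1, fun y hy => mem_centralizer_iff.1 g.2 y hy, congrArg Subtype.val hg⟩

/-- For an equivariant family `N` of `p`-subgroups of the point stabilisers, the stabiliser of `b` in `N a`
is contained in `N b`. -/
theorem fam_symm (h : KS U) {a b : Ω} (ha : pP p (U a) ≠ ⊥) {N : Ω → Subgroup G}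
    (hN : ∀ (g : G) (c : Ω) (x : G), x ∈ N c → g * x * g⁻¹ ∈ N (g • c))
    (hNp : IsPGroup p (N a)) (hNf : ∀ x ∈ N a, x • a = a) {x : G} (hx : x ∈ N a)
    (hxb : x • b = b) : x ∈ N b := by
  obtain ⟨g, hg, hgb⟩ := h.exists_centralizing ha (Y := N a ⊓ stabilizer G b)
    (hNp.to_le inf_le_left) (b := a) (c := b) (fun y hy => hNf y hy.1) (fun y hy => hy.2)
  have h1 := hN g a x hx
  rw [hgb] at h1
  have h2 : g * x * g⁻¹ = x := by
    rw [← hg x ⟨hx, hxb⟩]
    group
  rwa [h2] at h1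

theorem isPGroup_X (h : KS U) (a b : Ω) : IsPGroup p (X p U a b) :=
  (isPGroup_pP (h.nil a)).to_le inf_le_left

theorem X_le_symm (h : KS U) (a b : Ω) : X p U a b ≤ X p U b a := by
  intro x hx
  by_cases ha : pP p (U a) = ⊥
  · have := (mem_X.1 hx).1
    rw [ha, mem_bot] at this
    rw [this]
    exact one_mem _
  · refine mem_X.2 ⟨h.fam_symm (N := fun c => pP p (U c)) ha (fun g c x hx => h.conj_pP g hx)
      (isPGroup_pP (h.nil a)) (fun y hy => h.fix (pP_le p _ hy)) hx.1 hx.2, h.fix (pP_le p _ hx.1)⟩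

theorem X_symm (h : KS U) (a b : Ω) : X p U a b = X p U b a :=
  le_antisymm (h.X_le_symm a b) (h.X_le_symm b a)

theorem L_symm (h : KS U) (a b : Ω) : L p U a b = L p U b a := by
  ext c
  rw [mem_L, mem_L, h.X_symm a b]

theorem left_mem_L (h : KS U) (a b : Ω) : a ∈ L p U a b := fun _ hx => h.fix (pP_le p _ hx.1)

theorem right_mem_L (a b : Ω) : b ∈ L p U a b := fun _ hx => hx.2

theorem card_X_smul (h : KS U) (g : G) (a b : Ω) :
    Nat.card (X p U (g • a) (g • b)) = Nat.card (X p U a b) := by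
  refine (Nat.card_congr ?_).symm
  refine ⟨fun x => ⟨g * x.1 * g⁻¹, h.conj_X g x.2⟩, fun x => ⟨g⁻¹ * x.1 * g, ?_⟩, ?_, ?_⟩
  · have := h.conj_X (p := p) g⁻¹ x.2
    rwa [inv_smul_smul, inv_smul_smul, inv_inv] at this
  · intro x
    apply Subtype.ext
    change g⁻¹ * (g * x.1 * g⁻¹) * g = x.1
    group
  · intro x
    apply Subtype.ext
    change g * (g⁻¹ * x.1 * g) * g⁻¹ = x.1
    group

theorem card_X (h : KS U) {a b c d : Ω} (hab : a ≠ b) (hcd : c ≠ d) :
    Nat.card (X p U a b) = Nat.card (X p U c d) := by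
  obtain ⟨g, rfl, rfl⟩ := h.two hab hcd
  rw [h.card_X_smul]

theorem X_eq_of_mem_left (h : KS U) {a b c : Ω} (hab : a ≠ b) (hc : c ∈ L p U a b) (hca : a ≠ c) :
    X p U a c = X p U a b := by
  symm
  apply Subgroup.eq_of_le_of_card_ge
  · exact fun x hx => mem_X.2 ⟨hx.1, hc x hx⟩
  · exact (h.card_X hca hab).le

/-- Two points of a line determine the group `X` of the line. -/
theorem X_eq (h : KS U) {a b c d : Ω} (hab : a ≠ b) (hc : c ∈ L p U a b) (hd : d ∈ L p U a b)
    (hcd : c ≠ d) : X p U c d = X p U a b := by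
  by_cases hca : a = c
  · subst hca
    exact h.X_eq_of_mem_left hab hd hcd
  · have h1 : X p U a c = X p U a b := h.X_eq_of_mem_left hab hc hca
    have h2 : X p U c a = X p U a b := by rw [h.X_symm c a, h1]
    have h3 : d ∈ L p U c a := by
      intro x hx
      rw [h2] at hx
      exact hd x hx
    rw [h.X_eq_of_mem_left (Ne.symm hca) h3 hcd, h2]

theorem L_eq (h : KS U) {a b c d : Ω} (hab : a ≠ b) (hc : c ∈ L p U a b) (hd : d ∈ L p U a b)
    (hcd : c ≠ d) : L p U c d = L p U a b := by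
  ext e
  rw [mem_L, mem_L, h.X_eq hab hc hd hcd]

/-- Two lines with two common points are equal. -/
theorem L_eq_L (h : KS U) {a b a' b' c d : Ω} (hab : a ≠ b) (hab' : a' ≠ b')
    (hc : c ∈ L p U a b) (hd : d ∈ L p U a b) (hc' : c ∈ L p U a' b') (hd' : d ∈ L p U a' b')
    (hcd : c ≠ d) : L p U a b = L p U a' b' := by
  rw [← h.L_eq hab hc hd hcd, h.L_eq hab' hc' hd' hcd]

theorem X_eq_X (h : KS U) {a b a' b' c d : Ω} (hab : a ≠ b) (hab' : a' ≠ b')
    (hc : c ∈ L p U a b) (hd : d ∈ L p U a b) (hc' : c ∈ L p U a' b') (hd' : d ∈ L p U a' b')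
    (hcd : c ≠ d) : X p U a b = X p U a' b' := by
  rw [← h.X_eq hab hc hd hcd, h.X_eq hab' hc' hd' hcd]

/-- An element moving two points of a line into the line normalises `X`. -/
theorem conj_X_mem (h : KS U) {a b : Ω} {g : G} (hab : a ≠ b) {c d : Ω} (hcd : c ≠ d)
    (hc : c ∈ L p U a b) (hd : d ∈ L p U a b)
    (ha : g • c ∈ L p U a b) (hb : g • d ∈ L p U a b) {x : G} (hx : x ∈ X p U a b) :
    g * x * g⁻¹ ∈ X p U a b := by
  rw [← h.X_eq hab hc hd hcd] at hx
  have h1 := h.conj_X g hx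
  rwa [h.X_eq hab ha hb (fun e => hcd (MulAction.injective g e))] at h1

theorem inv_conj_X_mem (h : KS U) {a b : Ω} {g : G} (hab : a ≠ b) {c d : Ω} (hcd : c ≠ d)
    (hc : c ∈ L p U a b) (hd : d ∈ L p U a b)
    (ha : g • c ∈ L p U a b) (hb : g • d ∈ L p U a b) {x : G} (hx : x ∈ X p U a b) :
    g⁻¹ * x * g ∈ X p U a b := by
  have h2 := h.conj_X_mem (g := g⁻¹) hab (c := g • c) (d := g • d)
    (fun e => hcd (MulAction.injective g e)) ha hb (by rwa [inv_smul_smul]) (by rwa [inv_smul_smul]) hx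
  rwa [inv_inv] at h2

/-- An element moving two points of a line into the line preserves the line. -/
theorem smul_mem_L (h : KS U) {a b : Ω} {g : G} (hab : a ≠ b) {c d : Ω} (hcd : c ≠ d)
    (hc : c ∈ L p U a b) (hd : d ∈ L p U a b)
    (ha : g • c ∈ L p U a b) (hb : g • d ∈ L p U a b) {e : Ω} (he : e ∈ L p U a b) :
    g • e ∈ L p U a b := by
  intro x hx
  have h1 := he _ (h.inv_conj_X_mem hab hcd hc hd ha hb hx)
  rw [mul_smul, mul_smul, inv_smul_eq_iff] at h1
  exact h1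

/-- There are points off a line. -/
theorem exists_not_mem_L {a b : Ω} (hX : X p U a b ≠ ⊥) : ∃ c, c ∉ L p U a b := by
  by_contra hall
  push Not at hall
  apply hX
  rw [eq_bot_iff_forall]
  intro x hx
  exact eq_one_of_fix (Ω := Ω) (fun c => hall c x hx)

theorem X_ne_bot (h : KS U) {a b c d : Ω} (hab : a ≠ b) (hcd : c ≠ d) (hX : X p U a b ≠ ⊥) :
    X p U c d ≠ ⊥ := by
  intro hb
  apply hX
  rw [← Subgroup.card_eq_one] at hb ⊢
  rw [h.card_X hab hcd, hb]

theorem pP_ne_bot_of_X {a b : Ω} (hX : X p U a b ≠ ⊥) : pP p (U a) ≠ ⊥ := by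
  intro hb
  apply hX
  rw [eq_bot_iff, ← hb]
  exact inf_le_left

/-- A central element of `P c`, `c` on the line, commutes with the group `X` of the line. -/
theorem Z_comm_X (h : KS U) {a b c : Ω} (hab : a ≠ b) (hc : c ∈ L p U a b) {z : G}
    (hz : z ∈ Z p U c) {x : G} (hx : x ∈ X p U a b) : x * z = z * x := by
  have : ∃ d ∈ L p U a b, c ≠ d := by
    by_cases hca : c = a
    · exact ⟨b, right_mem_L a b, by rw [hca]; exact hab⟩
    · exact ⟨a, h.left_mem_L a b, hca⟩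
  obtain ⟨d, hd, hcd⟩ := this
  rw [← h.X_eq hab hc hd hcd] at hx
  exact (mem_Z.1 hz).2 x hx.1

/-- elements of `U c` commuting with the `p`-part preserve the lines through `c` -/
theorem smul_mem_of_comm {c d : Ω} {y : G} (hy : ∀ x ∈ X p U c d, x * y = y * x) {e : Ω}
    (he : e ∈ L p U c d) : y • e ∈ L p U c d := by
  intro x hx
  rw [← mul_smul, hy x hx, mul_smul, he x hx]

/-- The `p'`-part of `U a` is semiregular off `a` (if the `p`-part is not). -/
theorem pR_semireg (h : KS U) {a b : Ω} (hab : a ≠ b) (hX : X p U a b ≠ ⊥) {c d : Ω}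
    (hcd : c ≠ d) {y : G} (hy : y ∈ pR p (U c)) (hyd : y • d = d) : y = 1 := by
  -- reduce to prime order
  by_contra hy1
  obtain ⟨q, hq, hqy⟩ := Nat.exists_prime_and_dvd (n := orderOf y) (by
    rwa [Ne, orderOf_eq_one_iff])
  haveI : Fact q.Prime := ⟨hq⟩
  have hcop := ((mem_pR (h.nil c)).1 hy).2
  have hqp : q ≠ p := by
    rintro rfl
    exact hq.one_lt.ne' (Nat.Coprime.eq_one_of_dvd hcop.symm hqy)
  obtain ⟨m, hm⟩ := hqy
  have hw1 : orderOf (y ^ m) = q := by
    have hm0 : m ≠ 0 := by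
      rintro rfl
      have := orderOf_pos y
      omega
    have hmdvd : m ∣ orderOf y := ⟨q, by rw [hm, mul_comm]⟩
    rw [orderOf_pow_of_dvd hm0 hmdvd, hm, Nat.mul_div_cancel _ (Nat.pos_of_ne_zero hm0)]
  set w := y ^ m with hw
  have hwc : w ∈ pR p (U c) := pow_mem hy m
  have hwd : w • d = d := by
    have : y ∈ stabilizer G d := hyd
    exact (pow_mem this m : y ^ m ∈ stabilizer G d)
  have hwne : w ≠ 1 := by
    intro e
    rw [e, orderOf_one] at hw1
    exact hq.one_lt.ne hw1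
  -- `w` lies in `pR p (U e)` for every fixed point `e`
  have key : ∀ e, w • e = e → w ∈ pR p (U e) := by
    intro e he
    have hwU : w ∈ U c := pR_le p _ hwc
    have h1 : w ∈ X q U c e := mem_X.2 ⟨mem_pP_of hwU (k := 1) (by rw [pow_one, ← hw1, pow_orderOf_eq_one]), he⟩
    have h2 := h.X_le_symm c e h1
    refine mem_pR_of (pP_le q _ h2.1) ?_
    rw [hw1]
    exact (Nat.coprime_primes hq hp.out).2 hqp
  have hcomm : ∀ e, w • e = e → ∀ f, ∀ x ∈ X p U e f, x * w = w * x := by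
    intro e he f x hx
    exact commute_parts (h.nil e) hx.1 (key e he)
  have hwfc : w • c = c := h.fix (pR_le p _ hwc)
  -- `w` fixes every point off the line `c d`
  have hoff : ∀ e, e ∉ L p U c d → w • e = e := by
    intro e he
    by_contra hne
    have hce : c ≠ e := fun e' => he (by rw [← e']; exact h.left_mem_L c d)
    have hde : d ≠ e := fun e' => he (by rw [← e']; exact right_mem_L c d)
    have h1 := smul_mem_of_comm (hcomm c hwfc e) (right_mem_L (p := p) (U := U) c e)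
    have h2 := smul_mem_of_comm (hcomm d hwd e) (right_mem_L (p := p) (U := U) d e)
    have h3 := h.L_eq_L hce hde h1 (right_mem_L c e) h2 (right_mem_L d e) hne
    apply he
    have h4 : d ∈ L p U c e := by rw [h3]; exact h.left_mem_L d e
    rw [h.L_eq hce (h.left_mem_L c e) h4 hcd]
    exact right_mem_L c e
  obtain ⟨e, he⟩ := exists_not_mem_L (h.X_ne_bot hab hcd hX)
  have hwe := hoff e he
  apply hwne
  apply eq_one_of_fix (Ω := Ω)
  intro f
  by_cases hf : f ∈ L p U c d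
  · by_contra hne
    have hcf : c ≠ f := fun e' => hne (by rw [← e']; exact hwfc)
    have hef : e ≠ f := fun e' => he (by rw [e']; exact hf)
    have h1 := smul_mem_of_comm (hcomm c hwfc f) (right_mem_L (p := p) (U := U) c f)
    have h2 := smul_mem_of_comm (hcomm e hwe f) (right_mem_L (p := p) (U := U) e f)
    have h3 := h.L_eq_L hcf hef h1 (right_mem_L c f) h2 (right_mem_L e f) hne
    apply he
    rw [← h.L_eq hcd (h.left_mem_L c d) hf hcf, h3]
    exact h.left_mem_L e f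
  · exact hoff f hf

/-- The stabiliser of `b` in `U a` is `X p U a b`, if the latter is nontrivial. -/
theorem mem_X_of_mem_U (h : KS U) {a b : Ω} (hab : a ≠ b) (hX : X p U a b ≠ ⊥) {c d : Ω}
    (hcd : c ≠ d) {x : G} (hx : x ∈ U c) (hxd : x • d = d) : x ∈ X p U c d := by
  obtain ⟨y, hy, z, hz, rfl, hyx, hzx⟩ := exists_mul_parts (p := p) hx
  have hst : zpowers (y * z) ≤ stabilizer G d := by
    rw [zpowers_le]
    exact hxd
  have hzd : z • d = d := hst hzx
  have hyd : y • d = d := hst hyx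
  have hz1 := h.pR_semireg hab hX hcd hz hzd
  rw [hz1, mul_one]
  exact mem_X.2 ⟨hy, hyd⟩

end KS

end Cfsg.Agent.KantorSeitz
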