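import Cfsg.Agent.KantorSeitz.EvenMain

/-!
# The Kantor–Seitz theorem in even degree: the induction
-/

set_option autoImplicit false
set_option linter.unusedSectionVars false
set_option linter.style.haveILetI false

namespace Cfsg.Agent.KantorSeitz

open Subgroup MulAction

universe v

theorem even_faithful (HKS : HKSEven.{v}) {G Ω : Type v} [Group G] [Finite G] [MulAction G Ω]
    [Finite Ω] [FaithfulSMul G Ω] (IH : EvenHyp.{v} (Nat.card Ω)) (hev : Even (Nat.card Ω)) :
    ∀ (m : ℕ) (U : Ω → Subgroup G), KS U → ∀ a b : Ω, a ≠ b → Nat.card (U a) < m →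
      ∀ x ∈ U a, x • b = b → x = 1 := by
  intro m
  induction m with
  | zero => intro U _ a b _ h; exact absurd h (Nat.not_lt_zero _)
  | succ m ih =>
    intro U h a b hab hcard
    refine h.even_step HKS IH hev hab ?_
    intro W hW hWU hne
    refine ih W hW a b hab ?_
    have h1 : Nat.card (W a) < Nat.card (U a) := by
      refine lt_of_le_of_ne (Subgroup.card_le_of_le hWU) ?_
      intro e
      exact hne (Subgroup.eq_of_le_of_card_ge hWU e.ge)
    omega

/-- The Kantor–Seitz theorem in even degree. -/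
theorem evenHyp_of_HKSEven (HKS : HKSEven.{v}) (n : ℕ) : EvenHyp.{v} n := by
  induction n with
  | zero => intro G Ω _ _ _ _ U _ _ h; exact absurd h (Nat.not_lt_zero _)
  | succ n ih =>
    intro G Ω _ _ _ _ U h hev hcard a b hab x hx hxb
    rcases Nat.lt_succ_iff_lt_or_eq.1 hcard with hlt | heq
    · exact ih G Ω U h hev hlt a b hab x hx hxb
    · let f := MulAction.toPermHom G Ω
      have hKS := h.map_of_surj f.rangeRestrict f.rangeRestrict_surjective (fun g c => rfl)
      have h1 := even_faithful HKS (G := f.range) (Ω := Ω) (by rw [heq]; exact ih) hev _ _ hKS a b hab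
        (Nat.lt_succ_self _) (f.rangeRestrict x) ⟨x, hx, rfl⟩ hxb
      intro c
      have h2 : f.rangeRestrict x • c = c := by rw [h1, one_smul]
      exact h2

/-- The Kantor–Seitz theorem in even degree. -/
theorem KS.even_regular (HKS : HKSEven.{v}) {G Ω : Type v} [Group G] [Finite G] [MulAction G Ω]
    [Finite Ω] [FaithfulSMul G Ω] {U : Ω → Subgroup G} (h : KS U) (hev : Even (Nat.card Ω))
    {a b : Ω} (hab : a ≠ b) : ∀ x ∈ U a, x • b = b → x = 1 := fun x hx hxb =>
  KS.eq_one_of_fix (Ω := Ω) (evenHyp_of_HKSEven HKS _ G Ω U h hev (Nat.lt_succ_self _) a b hab x hx hxb)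

end Cfsg.Agent.KantorSeitz
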