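import Cfsg.Prelude.Def_LieExceptional
import Cfsg.Agent.StrongEmb.SplitBN
import Cfsg.Agent.KantorSeitz.Even

/-!
# S1145 from the permutation-theoretic form
-/

set_option autoImplicit false
set_option linter.unusedSectionVars false
set_option linter.style.haveILetI false

namespace Cfsg.Agent.KantorSeitz

open Subgroup MulAction

/-- an invariant nilpotent subgroup of a point stabiliser, transitive on the other points, gives a family -/
theorem KS_of_base {G Ω : Type*} [Group G] [MulAction G Ω] {a : Ω} {N : Subgroup G}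
    (hfix : ∀ x ∈ N, x • a = a) (hinv : ∀ g : G, g • a = a → ∀ x ∈ N, g * x * g⁻¹ ∈ N)
    (htr : ∀ b c : Ω, b ≠ a → c ≠ a → ∃ x ∈ N, x • b = c) (hnil : Group.IsNilpotent N)
    (ht : ∀ c : Ω, ∃ g : G, g • a = c) : KS (ofBase N a) where
  fix := by
    intro c x hx
    obtain ⟨g, rfl⟩ := ht c
    have h1 := hfix _ (hx g rfl)
    rw [mul_smul, mul_smul, inv_smul_eq_iff] at h1
    exact h1
  conj := by
    intro g c x hx k hk
    have h1 := hx (g⁻¹ * k) (by rw [mul_smul, hk, inv_smul_smul])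
    have h2 : (g⁻¹ * k)⁻¹ * x * (g⁻¹ * k) = k⁻¹ * (g * x * g⁻¹) * k := by group
    rwa [h2] at h1
  trans := by
    intro c d e hd he
    obtain ⟨g, rfl⟩ := ht c
    obtain ⟨x, hx, hxd⟩ := htr (g⁻¹ • d) (g⁻¹ • e) (by rw [Ne, inv_smul_eq_iff]; exact hd)
      (by rw [Ne, inv_smul_eq_iff]; exact he)
    refine ⟨g * x * g⁻¹, ?_, ?_⟩
    · rw [mem_ofBase hinv rfl]
      have h3 : g⁻¹ * (g * x * g⁻¹) * g = x := by group
      rwa [h3]
    · rw [mul_smul, mul_smul, hxd, smul_inv_smul]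
  nil := by
    intro c
    obtain ⟨g, rfl⟩ := ht c
    have := hnil
    let f : ofBase N a (g • a) →* N :=
      { toFun := fun x => ⟨g⁻¹ * x.1 * g, x.2 g rfl⟩
        map_one' := Subtype.ext (by change g⁻¹ * 1 * g = 1; group)
        map_mul' := fun x y => Subtype.ext (by
          change g⁻¹ * (x.1 * y.1) * g = (g⁻¹ * x.1 * g) * (g⁻¹ * y.1 * g)
          group) }
    have hf : Function.Injective f := by
      intro x y hxy
      have h1 : g⁻¹ * x.1 * g = g⁻¹ * y.1 * g := congrArg Subtype.val hxy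
      exact Subtype.ext (mul_left_cancel (mul_right_cancel h1))
    exact Subgroup.isNilpotent_of_ker_le_center f (by
      rw [(MonoidHom.ker_eq_bot_iff f).2 hf]; exact bot_le)
  tr := by
    intro c d
    obtain ⟨g, rfl⟩ := ht c
    obtain ⟨k, rfl⟩ := ht d
    exact ⟨k * g⁻¹, by rw [mul_smul, inv_smul_smul]⟩

/-- the conclusion for all split groups of odd degree -/
def OddConcl.{v} : Prop :=
  ∀ (G Ω : Type v) [Group G] [Finite G] [MulAction G Ω] [Finite Ω] [FaithfulSMul G Ω]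
    (U : Ω → Subgroup G), KS U → Odd (Nat.card Ω) → ∀ a b : Ω, a ≠ b → Concl U a b

/-- S1145 from `HKSEven` and the odd degree case -/
theorem s1145_of.{v} (HKS : HKSEven.{v}) (hOdd : OddConcl.{v}) {G : Type v} [Group G] [Finite G]
    (P : Cfsg.BNPair G) (h1 : P.rank = 1) (hcore : P.B.normalCore = ⊥) (U : Subgroup G)
    (hUB : U ≤ P.B) (hUn : ∀ b ∈ P.B, ∀ u ∈ U, b * u * b⁻¹ ∈ U)
    (hUnil : Group.IsNilpotent U) (hsplit : U ⊔ (P.B ⊓ P.N) = P.B) :
    ∃ U₀ : Subgroup G, U₀ ≤ U ∧ (∀ b ∈ P.B, ∀ u ∈ U₀, b * u * b⁻¹ ∈ U₀) ∧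
      U₀ ⊔ (P.B ⊓ P.N) = P.B ∧ U₀ ⊓ (P.B ⊓ P.N) = ⊥ := by
  obtain ⟨s, hS⟩ := Cfsg.Agent.StrongEmb.SplitBN.exists_S_eq_singleton P h1
  have hsS : s ∈ P.S := by rw [hS]; rfl
  have hsB : s ∉ P.B := Cfsg.Agent.LieExceptional.BNPairCore.not_mem_B hsS
  have hUn' : (U.subgroupOf P.B).Normal := by
    rw [Subgroup.normal_subgroupOf_iff hUB]
    intro u b hu hb
    exact hUn b hb u hu
  let a : G ⧸ P.B := ((1 : G) : G ⧸ P.B)
  let b : G ⧸ P.B := (s : G ⧸ P.B)
  have hmk : ∀ g : G, g • a = (g : G ⧸ P.B) := by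
    intro g
    change ((g * 1 : G) : G ⧸ P.B) = g
    rw [mul_one]
  have hsta : ∀ g : G, g • a = a ↔ g ∈ P.B := by
    intro g
    rw [hmk]
    change ((g : G ⧸ P.B) = ((1 : G) : G ⧸ P.B)) ↔ _
    rw [QuotientGroup.eq, mul_one, inv_mem_iff]
  have hab : a ≠ b := by
    intro e
    apply hsB
    rw [← hsta, hmk]
    exact e.symm
  haveI : FaithfulSMul G (G ⧸ P.B) := ⟨by
    intro x y hxy
    have h2 : x⁻¹ * y ∈ P.B.normalCore := by
      rw [Subgroup.normalCore_eq_ker, MonoidHom.mem_ker]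
      ext c
      change (x⁻¹ * y) • c = c
      rw [mul_smul, ← hxy c, inv_smul_smul]
    rw [hcore, mem_bot, inv_mul_eq_one] at h2
    exact h2⟩
  have hinv : ∀ g : G, g • a = a → ∀ x ∈ U, g * x * g⁻¹ ∈ U := fun g hg x hx =>
    hUn g ((hsta g).1 hg) x hx
  have hUb : ∀ c : G ⧸ P.B, c ≠ a → ∃ u ∈ U, u • b = c := by
    intro c hc
    obtain ⟨g, rfl⟩ := QuotientGroup.mk_surjective c
    have hg : g ∉ P.B := fun e => hc (by rw [← hmk]; exact (hsta g).2 e)
    obtain ⟨u, hu, y, hy, rfl⟩ := Cfsg.Agent.StrongEmb.SplitBN.exists_eq_mul P hS hUB hUn' hsplit hg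
    refine ⟨u, hu, ?_⟩
    change ((u * s : G) : G ⧸ P.B) = ((u * s * y : G) : G ⧸ P.B)
    rw [QuotientGroup.eq]
    have h2 : (u * s)⁻¹ * (u * s * y) = y := by group
    rwa [h2]
  have hKS : KS (ofBase U a) := by
    refine KS_of_base (fun x hx => (hsta x).2 (hUB hx)) hinv ?_ hUnil ?_
    · intro c d hc hd
      obtain ⟨u, hu, rfl⟩ := hUb c hc
      obtain ⟨v, hv, rfl⟩ := hUb d hd
      exact ⟨v * u⁻¹, mul_mem hv (inv_mem hu), by rw [mul_smul, inv_smul_smul]⟩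
    · intro c
      obtain ⟨g, rfl⟩ := QuotientGroup.mk_surjective c
      exact ⟨g, hmk g⟩
  have hUa : ofBase U a a = U := ofBase_self hinv
  have hHb : ∀ t ∈ P.B ⊓ P.N, t • b = b := by
    intro t ht
    change ((t * s : G) : G ⧸ P.B) = ((s : G) : G ⧸ P.B)
    rw [QuotientGroup.eq]
    have h2 : (t * s)⁻¹ * s = s⁻¹ * t⁻¹ * s := by group
    rw [h2]
    exact Cfsg.Agent.LieExceptional.BNPairCore.conj_mem_inv
      (Cfsg.Agent.LieExceptional.BNPairCore.mem_N hsS) (inv_mem ht.1) (inv_mem ht.2)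
  have hC : Concl (ofBase U a) a b := by
    rcases Nat.even_or_odd (Nat.card (G ⧸ P.B)) with hev | hodd
    · exact Or.inl (hKS.even_regular HKS hev hab)
    · exact hOdd G (G ⧸ P.B) _ hKS hodd a b hab
  unfold Concl at hC
  rw [hUa] at hC
  have hUH : (∀ x ∈ U ⊓ (P.B ⊓ P.N), x = 1) → ∃ U₀ : Subgroup G, U₀ ≤ U ∧
      (∀ b ∈ P.B, ∀ u ∈ U₀, b * u * b⁻¹ ∈ U₀) ∧
      U₀ ⊔ (P.B ⊓ P.N) = P.B ∧ U₀ ⊓ (P.B ⊓ P.N) = ⊥ := fun h =>
    ⟨U, le_rfl, hUn, hsplit, (eq_bot_iff_forall _).2 h⟩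
  rcases hC with hreg | ⟨⟨x₀, hx₀⟩, V, hVU, hVinv, hVreg, hVdec⟩
  · exact hUH (fun x hx => hreg x hx.1 (hHb x hx.2))
  · by_cases hex : ∃ x ∈ U ⊓ (P.B ⊓ P.N), x ≠ 1
    · obtain ⟨x, hx, hx1⟩ := hex
      have hxx : x = x₀ := (hx₀ x hx.1 (hHb x hx.2)).resolve_left hx1
      refine ⟨V, hVU, fun g hg v hv => hVinv g ((hsta g).2 hg) v hv, ?_, ?_⟩
      · apply le_antisymm
        · exact sup_le (hVU.trans hUB) inf_le_left
        · conv_lhs => rw [← hsplit]
          refine sup_le ?_ le_sup_right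
          intro u hu
          obtain ⟨v, hv, y, hy, hyb, rfl⟩ := hVdec u hu
          refine mul_mem (le_sup_left (a := V) hv) ?_
          rcases hx₀ y hy hyb with rfl | rfl
          · exact one_mem _
          · rw [← hxx]
            exact le_sup_right (a := V) hx.2
      · rw [eq_bot_iff_forall]
        intro v hv
        exact hVreg v hv.1 (hHb v hv.2)
    · push Not at hex
      exact hUH hex

end Cfsg.Agent.KantorSeitz
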