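import Mathlib
import Cfsg.Agent.Lib.NilpotentCoprime
import Cfsg.Agent.Solvable.FpfThompson

/-!
# Doubly transitive groups whose point stabilisers have a transitive nilpotent normal subgroup

Basic definitions for the Kantor–Seitz theorem (S1145).

* `KS U` : `G` is transitive on `Ω`, and `U a` (`a : Ω`) is an equivariant family of nilpotent subgroups, `U a`
  fixing `a` and transitive on the remaining points;
* `pP p H`, `pR p H` : the `p`-part and the `p'`-part of a nilpotent subgroup `H`;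
* `X p U a b` : the stabiliser of `b` in the `p`-part of `U a`;
* `L p U a b` : the set of fixed points of `X p U a b` (the line through `a` and `b`).
-/

set_option autoImplicit false

namespace Cfsg.Agent.KantorSeitz

open Subgroup MulAction

/-! ### Nilpotent groups: `p`-part and `p'`-part -/

section Nil

variable {N : Type*} [Group N] [Finite N]

/-- In a finite nilpotent group the elements of `p`-power order form a subgroup. -/
theorem exists_pElems (hN : Group.IsNilpotent N) (p : ℕ) [hp : Fact p.Prime] :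
    ∃ S : Subgroup N, ∀ x, x ∈ S ↔ ∃ k, x ^ p ^ k = 1 := by
  obtain ⟨S⟩ : Nonempty (Sylow p N) := inferInstance
  have h := (Group.isNilpotent_of_finite_tfae (G := N)).out 0 3
  have hn : (S : Subgroup N).Normal := h.1 hN p hp S
  refine ⟨S, fun x => ⟨fun hx => ?_, fun hx => ?_⟩⟩
  · obtain ⟨k, hk⟩ := S.2 ⟨x, hx⟩
    exact ⟨k, congrArg Subtype.val hk⟩
  · have hz : IsPGroup p (zpowers x) := by
      obtain ⟨k, hk⟩ := hx
      rintro ⟨y, hy⟩
      obtain ⟨i, rfl⟩ := mem_zpowers_iff.1 hy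
      refine ⟨k, Subtype.ext ?_⟩
      change (x ^ i) ^ p ^ k = 1
      rw [← zpow_natCast, ← zpow_mul, mul_comm, zpow_mul, zpow_natCast, hk, one_zpow]
    obtain ⟨T, hT⟩ := hz.exists_le_sylow
    have : T = S := by
      have := Sylow.unique_of_normal S hn
      exact Subsingleton.elim _ _
    rw [this] at hT
    exact hT (mem_zpowers x)

end Nil

/-- In a finite nilpotent group the elements of order prime to `p` form a subgroup. -/
theorem exists_pPrimeElems {N : Type*} [Group N] [Finite N] (hN : Group.IsNilpotent N) (p : ℕ)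
    [hp : Fact p.Prime] : ∃ S : Subgroup N, ∀ x, x ∈ S ↔ (orderOf x).Coprime p := by
  obtain ⟨M, hM, h1, h2⟩ := Cfsg.Agent.Transfer.NormalPComplement.hasNormalPComplement_iff.1
    (Cfsg.Agent.Solvable.FpfThompson.hasNormalPComplement_of_isNilpotent hN p)
  exact ⟨M, Cfsg.Agent.Transfer.NormalPComplement.mem_iff_coprime_orderOf' M h1 h2⟩

section Parts

variable {G : Type*} [Group G]

/-- the `p`-part of a (nilpotent) subgroup -/
def pP (p : ℕ) (H : Subgroup G) : Subgroup G := closure {x | x ∈ H ∧ ∃ k, x ^ p ^ k = 1}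

/-- the `p'`-part of a (nilpotent) subgroup -/
def pR (p : ℕ) (H : Subgroup G) : Subgroup G := closure {x | x ∈ H ∧ (orderOf x).Coprime p}

theorem pP_le (p : ℕ) (H : Subgroup G) : pP p H ≤ H := by
  rw [pP, closure_le]
  exact fun x hx => hx.1

theorem pR_le (p : ℕ) (H : Subgroup G) : pR p H ≤ H := by
  rw [pR, closure_le]
  exact fun x hx => hx.1

theorem mem_pP_of {p : ℕ} {H : Subgroup G} {x : G} (hx : x ∈ H) {k : ℕ} (hk : x ^ p ^ k = 1) :
    x ∈ pP p H := subset_closure ⟨hx, k, hk⟩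

theorem mem_pR_of {p : ℕ} {H : Subgroup G} {x : G} (hx : x ∈ H) (hk : (orderOf x).Coprime p) :
    x ∈ pR p H := subset_closure ⟨hx, hk⟩

theorem mem_pP [Finite G] {p : ℕ} [Fact p.Prime] {H : Subgroup G} (hH : Group.IsNilpotent H)
    {x : G} : x ∈ pP p H ↔ x ∈ H ∧ ∃ k, x ^ p ^ k = 1 := by
  constructor
  · intro hx
    refine ⟨pP_le p H hx, ?_⟩
    obtain ⟨S, hS⟩ := exists_pElems hH p
    have h1 : pP p H ≤ S.map H.subtype := by
      rw [pP, closure_le]
      rintro y ⟨hy, k, hk⟩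
      exact ⟨⟨y, hy⟩, (hS _).2 ⟨k, Subtype.ext hk⟩, rfl⟩
    obtain ⟨y, hy, rfl⟩ := h1 hx
    obtain ⟨k, hk⟩ := (hS y).1 hy
    exact ⟨k, congrArg Subtype.val hk⟩
  · rintro ⟨h1, k, hk⟩
    exact mem_pP_of h1 hk

theorem mem_pR [Finite G] {p : ℕ} [Fact p.Prime] {H : Subgroup G} (hH : Group.IsNilpotent H)
    {x : G} : x ∈ pR p H ↔ x ∈ H ∧ (orderOf x).Coprime p := by
  constructor
  · intro hx
    refine ⟨pR_le p H hx, ?_⟩
    obtain ⟨S, hS⟩ := exists_pPrimeElems hH p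
    have h1 : pR p H ≤ S.map H.subtype := by
      rw [pR, closure_le]
      rintro y ⟨hy, hk⟩
      refine ⟨⟨y, hy⟩, (hS _).2 ?_, rfl⟩
      rwa [Subgroup.orderOf_mk]
    obtain ⟨y, hy, rfl⟩ := h1 hx
    have := (hS y).1 hy
    rwa [← Subgroup.orderOf_coe] at this
  · rintro ⟨h1, hk⟩
    exact mem_pR_of h1 hk

theorem isPGroup_pP [Finite G] {p : ℕ} [Fact p.Prime] {H : Subgroup G} (hH : Group.IsNilpotent H) :
    IsPGroup p (pP p H) := by
  rintro ⟨x, hx⟩
  obtain ⟨-, k, hk⟩ := (mem_pP hH).1 hx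
  exact ⟨k, Subtype.ext hk⟩

theorem coprime_pR [Finite G] {p : ℕ} [hp : Fact p.Prime] {H : Subgroup G}
    (hH : Group.IsNilpotent H) : (Nat.card (pR p H)).Coprime p := by
  rw [Nat.coprime_comm, Nat.Prime.coprime_iff_not_dvd hp.out]
  intro h
  obtain ⟨⟨x, hx⟩, hx'⟩ := exists_prime_orderOf_dvd_card' p h
  have h1 := ((mem_pR hH).1 hx).2
  rw [Subgroup.orderOf_mk] at hx'
  rw [hx', Nat.coprime_self] at h1
  exact hp.out.one_lt.ne' h1

/-- every element of a nilpotent subgroup is the product of its parts -/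
theorem exists_mul_parts [Finite G] {p : ℕ} [hp : Fact p.Prime] {H : Subgroup G} {x : G}
    (hx : x ∈ H) : ∃ y ∈ pP p H, ∃ z ∈ pR p H, x = y * z ∧ y ∈ zpowers x ∧ z ∈ zpowers x := by
  -- order of `x` is `p ^ k * m`, `m` prime to `p`
  obtain ⟨k, m, hm, hk⟩ := Nat.exists_eq_pow_mul_and_not_dvd (orderOf_pos x).ne' p hp.out.ne_one
  have hcop : (p ^ k).Coprime m := Nat.Coprime.pow_left k ((Nat.Prime.coprime_iff_not_dvd hp.out).2 hm)
  have hbez : (1 : ℤ) = (p ^ k : ℕ) * Nat.gcdA (p ^ k) m + (m : ℤ) * Nat.gcdB (p ^ k) m := by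
    rw [← Nat.gcd_eq_gcd_ab, hcop]
    rfl
  refine ⟨x ^ ((m : ℤ) * Nat.gcdB (p ^ k) m), ?_, x ^ (((p ^ k : ℕ) : ℤ) * Nat.gcdA (p ^ k) m), ?_, ?_,
    zpow_mem (mem_zpowers x) _, zpow_mem (mem_zpowers x) _⟩
  · refine mem_pP_of (k := k) (zpow_mem hx _) ?_
    rw [← zpow_natCast, ← zpow_mul]
    have : (m : ℤ) * Nat.gcdB (p ^ k) m * ((p ^ k : ℕ) : ℤ) = (orderOf x : ℤ) * Nat.gcdB (p ^ k) m := by
      rw [hk]; push_cast; ring
    rw [this, zpow_mul, zpow_natCast, pow_orderOf_eq_one, one_zpow]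
  · refine mem_pR_of (zpow_mem hx _) ?_
    have h1 : (x ^ (((p ^ k : ℕ) : ℤ) * Nat.gcdA (p ^ k) m)) ^ m = 1 := by
      rw [← zpow_natCast, ← zpow_mul]
      have : ((p ^ k : ℕ) : ℤ) * Nat.gcdA (p ^ k) m * (m : ℤ) = (orderOf x : ℤ) * Nat.gcdA (p ^ k) m := by
        rw [hk]; push_cast; ring
      rw [this, zpow_mul, zpow_natCast, pow_orderOf_eq_one, one_zpow]
    exact Nat.Coprime.coprime_dvd_left (orderOf_dvd_of_pow_eq_one h1)
      ((Nat.Prime.coprime_iff_not_dvd hp.out).2 hm).symm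
  · rw [← zpow_add, add_comm, ← hbez, zpow_one]

theorem commute_parts [Finite G] {p : ℕ} [hp : Fact p.Prime] {H : Subgroup G}
    (hH : Group.IsNilpotent H) {y z : G} (hy : y ∈ pP p H) (hz : z ∈ pR p H) : y * z = z * y := by
  obtain ⟨hyH, k, hk⟩ := (mem_pP hH).1 hy
  obtain ⟨hzH, hz'⟩ := (mem_pR hH).1 hz
  have := hH
  have h := Cfsg.Agent.Lib.NilpotentCoprime.commute_of_pow_eq_one
    (a := (⟨y, hyH⟩ : H)) (b := (⟨z, hzH⟩ : H)) (m := p ^ k) (n := orderOf z)
    (Nat.Coprime.pow_left k hz'.symm) (Subtype.ext hk) (Subtype.ext (pow_orderOf_eq_one z))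
  exact congrArg Subtype.val h

theorem pP_conj {p : ℕ} {H K : Subgroup G} {g : G}
    (h : ∀ x ∈ H, g * x * g⁻¹ ∈ K) {x : G} (hx : x ∈ pP p H) : g * x * g⁻¹ ∈ pP p K := by
  have h1 : pP p H ≤ (pP p K).comap (MulAut.conj g).toMonoidHom := by
    rw [pP, closure_le]
    rintro y ⟨hy, k, hk⟩
    refine mem_pP_of (k := k) (h y hy) ?_
    change (g * y * g⁻¹) ^ p ^ k = 1
    rw [conj_pow, hk]
    group
  exact h1 hx

theorem pR_conj {p : ℕ} {H K : Subgroup G} {g : G}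
    (h : ∀ x ∈ H, g * x * g⁻¹ ∈ K) {x : G} (hx : x ∈ pR p H) : g * x * g⁻¹ ∈ pR p K := by
  have h1 : pR p H ≤ (pR p K).comap (MulAut.conj g).toMonoidHom := by
    rw [pR, closure_le]
    rintro y ⟨hy, hk⟩
    refine mem_pR_of (h y hy) ?_
    have : orderOf (g * y * g⁻¹) = orderOf y := orderOf_injective (MulAut.conj g).toMonoidHom
      (MulAut.conj g).injective y
    change (orderOf (g * y * g⁻¹)).Coprime p
    rwa [this]
  exact h1 hx

end Parts

/-! ### The set-up -/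

/-- `G` is transitive on `Ω`, and `U a` is an equivariant family of nilpotent subgroups, `U a` fixing `a` and
transitive on the remaining points. -/
structure KS {G Ω : Type*} [Group G] [MulAction G Ω] (U : Ω → Subgroup G) : Prop where
  fix : ∀ {a : Ω} {x : G}, x ∈ U a → x • a = a
  conj : ∀ (g : G) {a : Ω} {x : G}, x ∈ U a → g * x * g⁻¹ ∈ U (g • a)
  trans : ∀ {a b c : Ω}, b ≠ a → c ≠ a → ∃ x ∈ U a, x • b = c
  nil : ∀ a, Group.IsNilpotent (U a)
  tr : ∀ a b : Ω, ∃ g : G, g • a = b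

section DefXL

variable {G Ω : Type*} [Group G]

/-- The centre of the `p`-part of `U a`. -/
def Z (p : ℕ) (U : Ω → Subgroup G) (a : Ω) : Subgroup G :=
  pP p (U a) ⊓ centralizer (pP p (U a) : Set G)

theorem mem_Z {p : ℕ} {U : Ω → Subgroup G} {a : Ω} {x : G} :
    x ∈ Z p U a ↔ x ∈ pP p (U a) ∧ ∀ y ∈ pP p (U a), y * x = x * y := by
  rw [Z, mem_inf, mem_centralizer_iff]
  rfl

end DefXL

variable {G Ω : Type*} [Group G] [MulAction G Ω]

/-- The stabiliser of `b` in the `p`-part of `U a`. -/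
def X (p : ℕ) (U : Ω → Subgroup G) (a b : Ω) : Subgroup G := pP p (U a) ⊓ stabilizer G b

/-- The line through `a` and `b`: the set of fixed points of `X p U a b`. -/
def L (p : ℕ) (U : Ω → Subgroup G) (a b : Ω) : Set Ω := {c | ∀ x ∈ X p U a b, x • c = c}

theorem mem_X {p : ℕ} {U : Ω → Subgroup G} {a b : Ω} {x : G} :
    x ∈ X p U a b ↔ x ∈ pP p (U a) ∧ x • b = b := Iff.rfl

theorem mem_L {p : ℕ} {U : Ω → Subgroup G} {a b c : Ω} :
    c ∈ L p U a b ↔ ∀ x ∈ X p U a b, x • c = c := Iff.rfl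

namespace KS

variable {U : Ω → Subgroup G}

theorem conj_iff (h : KS U) (g : G) {a : Ω} {x : G} : g * x * g⁻¹ ∈ U (g • a) ↔ x ∈ U a := by
  constructor
  · intro hx
    have h1 := h.conj g⁻¹ hx
    rw [inv_smul_smul] at h1
    have h2 : g⁻¹ * (g * x * g⁻¹) * g⁻¹⁻¹ = x := by group
    rwa [h2] at h1
  · exact h.conj g

theorem conj_pP (h : KS U) {p : ℕ} (g : G) {a : Ω} {x : G} (hx : x ∈ pP p (U a)) :
    g * x * g⁻¹ ∈ pP p (U (g • a)) := pP_conj (fun _ hy => h.conj g hy) hx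

theorem conj_pR (h : KS U) {p : ℕ} (g : G) {a : Ω} {x : G} (hx : x ∈ pR p (U a)) :
    g * x * g⁻¹ ∈ pR p (U (g • a)) := pR_conj (fun _ hy => h.conj g hy) hx

theorem conj_pP_of_fix (h : KS U) {p : ℕ} {g : G} {a : Ω} (hg : g • a = a) {x : G}
    (hx : x ∈ pP p (U a)) : g * x * g⁻¹ ∈ pP p (U a) := by
  have := h.conj_pP (p := p) g hx
  rwa [hg] at this

theorem conj_pR_of_fix (h : KS U) {p : ℕ} {g : G} {a : Ω} (hg : g • a = a) {x : G}
    (hx : x ∈ pR p (U a)) : g * x * g⁻¹ ∈ pR p (U a) := by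
  have := h.conj_pR (p := p) g hx
  rwa [hg] at this

theorem conj_X (h : KS U) {p : ℕ} (g : G) {a b : Ω} {x : G} (hx : x ∈ X p U a b) :
    g * x * g⁻¹ ∈ X p U (g • a) (g • b) := by
  refine mem_X.2 ⟨h.conj_pP g hx.1, ?_⟩
  rw [mul_smul, inv_smul_smul, mul_smul, (mem_X.1 hx).2]

theorem conj_Z (h : KS U) {p : ℕ} (g : G) {a : Ω} {x : G} (hx : x ∈ Z p U a) :
    g * x * g⁻¹ ∈ Z p U (g • a) := by
  rw [mem_Z] at hx ⊢
  refine ⟨h.conj_pP g hx.1, fun y hy => ?_⟩
  have h1 := h.conj_pP g⁻¹ hy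
  rw [inv_smul_smul] at h1
  have h2 := hx.2 _ h1
  have h3 : y * (g * x * g⁻¹) = g * (g⁻¹ * y * g⁻¹⁻¹ * x) * g⁻¹ := by group
  rw [h3, h2]
  group

/-- double transitivity -/
theorem two (h : KS U) {a b c d : Ω} (hab : a ≠ b) (hcd : c ≠ d) :
    ∃ g : G, g • a = c ∧ g • b = d := by
  obtain ⟨g, hg⟩ := h.tr a c
  obtain ⟨x, hx, hx'⟩ := h.trans (a := c) (b := g • b) (c := d)
    (fun e => hab (MulAction.injective g (by change g • a = g • b; rw [hg]; exact e.symm))) hcd.symm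
  exact ⟨x * g, by rw [mul_smul, hg, h.fix hx], by rw [mul_smul, hx']⟩

end KS

end Cfsg.Agent.KantorSeitz
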