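import Cfsg.Agent.KantorSeitz.OddX
import Cfsg.Agent.KantorSeitz.Assembly
import Cfsg.Agent.AschCrit.Induct
import Cfsg.Agent.Lib.SolvableMinNormal
import Cfsg.Agent.S0205
import Cfsg.Agent.S0215

/-!
# The Kantor–Seitz theorem in odd degree

`oddConcl` : `OddConcl`, from Aschbacher's criterion (`NoBadBelow`) and Bender's theorem (`BenderHolds`).
-/

set_option autoImplicit false
set_option linter.unusedSectionVars false

universe u

namespace Cfsg.Agent.KantorSeitz

open Subgroup MulAction Cfsg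
open Cfsg.Agent.AschCrit.Basic Cfsg.Agent.AschCrit.NonIso Cfsg.Agent.AschCrit.InductFaithful
open Cfsg.Agent.AschCrit.BGroup Cfsg.Agent.AschCrit.Closed
open Cfsg.Agent.LieRecognition Cfsg.Agent.StrongEmb.Basic Cfsg.Agent.StrongEmb.Split
open Cfsg.Agent.StrongEmb.TwoRank Cfsg.Agent.TwoFusion.StronglyEmbeddedBasic

/-- some power of a non-trivial `2`-element is an involution -/
theorem exists_pow_invol {G : Type*} [Group G] {x : G} (hx : x ≠ 1) {k : ℕ} (hk : x ^ 2 ^ k = 1) :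
    ∃ n : ℕ, x ^ n ≠ 1 ∧ x ^ n * x ^ n = 1 := by
  classical
  have hex : ∃ j, x ^ 2 ^ j = 1 := ⟨k, hk⟩
  obtain ⟨j, hj⟩ : ∃ j, j = Nat.find hex := ⟨_, rfl⟩
  have h1 : x ^ 2 ^ j = 1 := by rw [hj]; exact Nat.find_spec hex
  have hj0 : j ≠ 0 := by
    rintro rfl
    rw [pow_zero, pow_one] at h1
    exact hx h1
  obtain ⟨i, rfl⟩ := Nat.exists_eq_succ_of_ne_zero hj0
  refine ⟨2 ^ i, ?_, ?_⟩
  · exact Nat.find_min hex (m := i) (by omega)
  · rw [← pow_add, ← two_mul, ← pow_succ']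
    exact h1

section

variable {G Ω : Type*} [Group G] [Finite G] [MulAction G Ω] [Finite Ω] [FaithfulSMul G Ω]
  {U : Ω → Subgroup G}

theorem KS.pP_two_ne_bot (h : KS U) (hodd : Odd (Nat.card Ω)) {b c : Ω} (hbc : b ≠ c) :
    pP 2 (U c) ≠ ⊥ := by
  have : Fact (Nat.Prime 2) := ⟨Nat.prime_two⟩
  intro hbot
  have hoddU : ¬ 2 ∣ Nat.card (U c) := by
    intro h2
    obtain ⟨x, hx⟩ := exists_prime_orderOf_dvd_card' 2 h2
    have h3 : (x : G) ∈ pP 2 (U c) := mem_pP_of (k := 1) x.2 (by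
      rw [pow_one, ← hx]
      exact_mod_cast congrArg Subtype.val (pow_orderOf_eq_one x))
    rw [hbot, mem_bot] at h3
    have h4 : x = 1 := Subtype.ext h3
    rw [h4, orderOf_one] at hx
    omega
  have h1 : orbit (U c) b = {c}ᶜ := by
    ext d
    rw [Set.mem_compl_iff, Set.mem_singleton_iff]
    constructor
    · rintro ⟨g, hg⟩ rfl
      have h2 : (g : G) • b = d := hg
      apply hbc
      exact smul_left_cancel (g : G) (by rw [h2, h.fix g.2])
    · intro hd
      obtain ⟨x, hx, hxd⟩ := h.trans hbc hd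
      exact ⟨⟨x, hx⟩, hxd⟩
  have h2 := (index_stabilizer (G := U c) (x := b))
  rw [h1, Set.ncard_compl, Set.ncard_singleton] at h2
  have h3 : Nat.card Ω - 1 ∣ Nat.card (U c) := by
    rw [← h2]
    exact Subgroup.index_dvd_card _
  obtain ⟨m, hm⟩ := hodd
  apply hoddU
  refine Dvd.dvd.trans ?_ h3
  exact ⟨m, by omega⟩

/-- Aschbacher's set-up -/
theorem KS.exists_setup (h : KS U) (hodd : Odd (Nat.card Ω)) {a b : Ω} (hab : a ≠ b) :
    ∃ z : G, Setup G Ω z := by
  have : Fact (Nat.Prime 2) := ⟨Nat.prime_two⟩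
  obtain ⟨S⟩ : Nonempty (Sylow 2 G) := inferInstance
  obtain ⟨c, hc⟩ := S.isPGroup'.nonempty_fixed_point_of_prime_not_dvd_card (α := Ω)
    (by rw [← even_iff_two_dvd, Nat.not_even_iff_odd]; exact hodd)
  have hSc : ∀ y ∈ (S : Subgroup G), y • c = c := fun y hy => hc ⟨y, hy⟩
  obtain ⟨d, hdc⟩ : ∃ d : Ω, d ≠ c := by
    by_cases hac : a = c
    · exact ⟨b, fun hh => hab (hac.trans hh.symm)⟩
    · exact ⟨a, hac⟩
  have hP := h.pP_two_ne_bot hodd hdc
  obtain ⟨z0, hz0, hz01, hz0c⟩ := exists_fixed_of_pgroup 2 (S : Subgroup G) (Z 2 U c) S.isPGroup'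
    ((isPGroup_pP (h.nil c)).to_le Z_le) (Z_ne_bot (h.nil c) hP) (fun y hy z hz => by
      have := h.conj_Z y hz
      rwa [hSc y hy] at this)
  obtain ⟨-, k, hk⟩ := (mem_pP (h.nil c)).1 (Z_le hz0)
  obtain ⟨n, hn1, hn2⟩ := exists_pow_invol hz01 hk
  obtain ⟨z, hz⟩ : ∃ z, z = z0 ^ n := ⟨_, rfl⟩
  rw [← hz] at hn1 hn2
  have hzZ : z ∈ Z 2 U c := by rw [hz]; exact pow_mem hz0 n
  have hzS : ∀ y ∈ (S : Subgroup G), y * z = z * y := by
    intro y hy
    rw [hz]
    exact (Commute.pow_right (show Commute y z0 from hz0c y hy) n).eq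
  have hinv : z⁻¹ = z := inv_eq_of_mul_eq_one_left hn2
  refine ⟨z, ?_⟩
  refine
    { invol := ?_
      central := ⟨S, ?_, fun s hs => hzS s hs⟩
      nontriv := ⟨a, b, hab⟩
      trans := h.tr
      exists_fix := ⟨c, h.Z_fix hzZ⟩
      fix_unique := ?_
      comm := ?_ }
  · exact orderOf_eq_prime (by rw [pow_two, hn2]) hn1
  · have h1 : IsPGroup 2 (zpowers z) := by
      rintro ⟨y, hy⟩
      obtain ⟨i, rfl⟩ := mem_zpowers_iff.1 hy
      refine ⟨1, Subtype.ext ?_⟩
      change (z ^ i) ^ 2 ^ 1 = 1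
      rw [pow_one, ← zpow_natCast, ← zpow_mul, mul_comm, zpow_mul, zpow_natCast, pow_two, hn2,
        one_zpow]
    have h2 : zpowers z ≤ normalizer ((S : Subgroup G) : Set G) := by
      rw [zpowers_le]
      rw [mem_normalizer_iff]
      intro y
      constructor
      · intro hy
        rw [← hzS y hy, mul_inv_cancel_right]
        exact hy
      · intro hy
        have h3 := hzS _ hy
        have h4 : y = z⁻¹ * (z * y * z⁻¹) * z := by group
        rw [h4, mul_assoc, h3, inv_mul_cancel_left]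
        exact hy
    have h3 : IsPGroup 2 (zpowers z ⊔ (S : Subgroup G) : Subgroup G) :=
      IsPGroup.to_sup_of_normal_right' h1 S.isPGroup' h2
    have h4 := S.is_maximal' h3 le_sup_right
    have h5 : z ∈ (zpowers z ⊔ (S : Subgroup G) : Subgroup G) :=
      (le_sup_left : zpowers z ≤ _) (mem_zpowers z)
    rw [h4] at h5
    exact h5
  · have key : ∀ d : Ω, z • d = d → d = c := by
      intro d hd
      by_contra hne
      exact hn1 (h.Z_semireg hne hzZ hd)
    intro p q hp hq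
    rw [key p hp, key q hq]
  · have key : ∀ w ∈ Z 2 U c, w ≠ 1 → ∀ d : Ω, w • d = d → d = c := by
      intro w hw hw1 d hd
      by_contra hne
      exact hw1 (h.Z_semireg hne hw hd)
    intro g hg hgne y hy p hp
    have hpc : p = c := key z hzZ hn1 p hp
    subst hpc
    have hz' : g * z * g⁻¹ ∈ Z 2 U (g • p) := h.conj_Z g hzZ
    have hgp : g • p = p := by
      apply key z hzZ hn1
      by_contra hne
      have h1 : g * z * g⁻¹ ≠ 1 := by
        intro h1
        apply hn1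
        calc z = g⁻¹ * (g * z * g⁻¹) * g := by group
          _ = 1 := by rw [h1]; group
      apply h1
      refine h.Z_semireg (a := g • p) (b := z • g • p) hne hz' ?_
      rw [← mul_smul, ← hg.eq, mul_smul, h.Z_fix hz']
    rw [hgp] at hz'
    have h1 : z * (g * z * g⁻¹) ∈ Z 2 U p := mul_mem hzZ hz'
    apply key _ h1
    · intro h2
      apply hgne
      calc g * z * g⁻¹ = z⁻¹ * (z * (g * z * g⁻¹)) := by group
        _ = z := by rw [h2, mul_one, hinv]
    · rw [← mul_smul, ← hy.eq, mul_smul, h.Z_fix h1]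

/-- a non-trivial normal subgroup is transitive -/
theorem KS.trans_of_normal (h : KS U) {W : Subgroup G} (hW : W.Normal) (hW1 : W ≠ ⊥) (c d : Ω) :
    ∃ w ∈ W, w • c = d := by
  by_cases hcd : c = d
  · exact ⟨1, one_mem _, by rw [one_smul, hcd]⟩
  obtain ⟨w, hw, hw1⟩ := (bot_or_exists_ne_one W).resolve_left hW1
  obtain ⟨e, he⟩ : ∃ e : Ω, w • e ≠ e := by
    by_contra hall
    push Not at hall
    exact hw1 (KS.eq_one_of_fix (Ω := Ω) hall)
  obtain ⟨g, hg1, hg2⟩ := h.two he.symm hcd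
  refine ⟨g * w * g⁻¹, hW.conj_mem w hw g, ?_⟩
  rw [← hg1, mul_smul, mul_smul, inv_smul_smul, hg2]

end

/-- **The Kantor–Seitz theorem in odd degree.** -/
theorem KS.odd_concl {G Ω : Type u} [Group G] [Finite G] [MulAction G Ω] [Finite Ω]
    [FaithfulSMul G Ω] {U : Ω → Subgroup G} (hN : ∀ N, NoBadBelow.{u} N)
    (hB : ∀ (X : Type u) [Group X] [Finite X], BenderHolds X) (h : KS U)
    (hodd : Odd (Nat.card Ω)) {a b : Ω} (hab : a ≠ b) : Concl U a b := by
  have : Fact (Nat.Prime 2) := ⟨Nat.prime_two⟩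
  by_cases hW : ∃ W : Subgroup G, W.Normal ∧ (∀ x ∈ W, ∀ y ∈ W, x * y = y * x) ∧ W ≠ ⊥
  · obtain ⟨W, hWn, hWc, hW1⟩ := hW
    exact h.affine_concl hWn hWc (h.trans_of_normal hWn hW1) hab
  left
  obtain ⟨z, hz⟩ := h.exists_setup hodd hab
  have hf : ∀ g : G, (∀ a : Ω, g • a = a) → g = 1 := fun g hg => KS.eq_one_of_fix hg
  -- `z` is not isolated
  have hn : NonIso z := by
    by_contra hn
    obtain ⟨S, hzS, hzc⟩ := hz.central
    obtain ⟨N, hNn, hNodd, hNz⟩ := S0215.result S z hz.invol hzS (by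
      intro g hg
      by_contra hne
      exact hn ⟨g * z * g⁻¹, isConj_iff.2 ⟨g, rfl⟩, (hzc _ hg).symm, hne⟩)
    by_cases hN1 : N = ⊥
    · obtain ⟨c, hcz⟩ := hz.exists_fix
      have hall : ∀ d : Ω, z • d = d := by
        intro d
        obtain ⟨g, rfl⟩ := h.tr c d
        have h1 := hNz g
        rw [hN1, mem_bot, mul_inv_eq_one, mul_inv_eq_iff_eq_mul] at h1
        rw [← mul_smul, h1, mul_smul, hcz]
      exact hab (hz.fix_unique a b (hall a) (hall b))
    · have hNs : Group.IsSolvable N := S0205.result hNodd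
      have hNt : Nontrivial N := (Subgroup.nontrivial_iff_ne_bot N).2 hN1
      obtain ⟨A, hA, hAc, hA1⟩ := Lib.SolvableMinNormal.exists_characteristic_abelian (G := N)
      apply hW
      refine ⟨A.map N.subtype, inferInstance, ?_, ?_⟩
      · rintro _ ⟨x, hx, rfl⟩ _ ⟨y, hy, rfl⟩
        have h1 := hAc.is_comm.comm ⟨x, hx⟩ ⟨y, hy⟩
        exact congrArg (fun w : A => ((w : N) : G)) h1
      · intro h1
        rw [Subgroup.map_eq_bot_iff_of_injective _ N.subtype_injective] at h1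
        exact hA1 h1
  have hbad := AschCrit.Induct.noBad_of_below (hN (Nat.card G + 1)) hz hf hn (Nat.lt_succ_self _)
  have hsim : IsSimpleGroup (AschCrit.InductFaithful.L z) := isSimpleGroup_closure hz hf hn
  have hff : FaithfulSMul (AschCrit.InductFaithful.L z) Ω := by
    refine ⟨fun {g₁ g₂} hg => ?_⟩
    have h1 : ((g₂ : G)⁻¹ * (g₁ : G)) = 1 := by
      apply hf
      intro a
      rw [mul_smul, inv_smul_eq_iff]
      exact hg a
    exact Subtype.ext (inv_mul_eq_one.mp h1).symm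
  have h2 : ∃ x y : AschCrit.InductFaithful.L z, x ≠ 1 ∧ y ≠ 1 ∧ x ≠ y ∧ x * x = 1 ∧ y * y = 1 ∧
      x * y = y * x := by
    obtain ⟨f, hf1, hf2, hf3⟩ := hn
    have hcp : CommPair (AschCrit.InductFaithful.L z) := commPair_subgroup
      (AschCrit.InductFaithful.mem_L (IsConj.refl z)) (AschCrit.InductFaithful.mem_L hf1) hz.invol (hz.orderOf_eq hf1) (Ne.symm hf3) hf2
    exact hcp.exists_sq
  obtain ⟨t, Q, hR, hQ2, hQm⟩ := exists_rankOne hz hf hn hbad (hB _) a
  have hLn : (AschCrit.InductFaithful.L z).Normal := Subgroup.normalClosure_normal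
  -- `2`-elements of `L` fixing `a` lie in `Q`
  have hQm' : ∀ x : AschCrit.InductFaithful.L z, x • a = a → (∃ k, (x : G) ^ 2 ^ k = 1) → x ∈ Q := by
    rintro x hx ⟨k, hk⟩
    refine hQm x hx ?_
    have h1 : orderOf x ∣ 2 ^ k := orderOf_dvd_of_pow_eq_one (Subtype.ext hk)
    obtain ⟨m, -, hm⟩ := (Nat.dvd_prime_pow Nat.prime_two).1 h1
    exact ⟨m, hm⟩
  have hQpow : ∀ x ∈ Q, ∃ k, (x : G) ^ 2 ^ k = 1 := by
    intro x hx
    obtain ⟨k, hk⟩ := hQ2 ⟨x, hx⟩
    exact ⟨k, congrArg (fun w : Q => ((w : AschCrit.InductFaithful.L z) : G)) hk⟩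
  -- elements of `G_a` normalise `Q`
  have hQconj : ∀ g : G, g • a = a → ∀ x ∈ Q,
      (⟨g * (x : G) * g⁻¹, hLn.conj_mem x x.2 g⟩ : AschCrit.InductFaithful.L z) ∈ Q := by
    intro g hg x hx
    apply hQm'
    · change (g * (x : G) * g⁻¹) • a = a
      have h6 : (x : G) • a = a := hR.le hx
      have h7 : g⁻¹ • a = a := by rw [inv_smul_eq_iff, hg]
      rw [mul_smul, mul_smul, h7, h6, hg]
    · obtain ⟨k, hk⟩ := hQpow x hx
      refine ⟨k, ?_⟩
      change (g * (x : G) * g⁻¹) ^ 2 ^ k = 1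
      rw [conj_pow, hk]
      group
  intro x hx hxb
  obtain ⟨y, hy, r, hr, rfl, hyx, hrx⟩ := exists_mul_parts (p := 2) hx
  obtain ⟨xx, hxx⟩ : ∃ xx, xx = y * r := ⟨_, rfl⟩
  rw [← hxx] at hyx hrx hxb hx ⊢
  have hfixz : ∀ w ∈ zpowers xx, w • b = b := by
    intro w hw
    have h1 : zpowers xx ≤ stabilizer G b := by
      rw [zpowers_le]
      exact hxb
    exact h1 hw
  -- the odd part
  have hr1 : r = 1 := by
    have hrb := hfixz r hrx
    have hra : r • a = a := h.fix (pR_le 2 _ hr)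
    have hcomm : ∀ q ∈ Q, r * (q : G) = (q : G) * r := by
      intro q hq
      have hqa : (q : G) • a = a := hR.le hq
      have h1 : r * (q : G) * r⁻¹ * (q : G)⁻¹ ∈ pR 2 (U a) := by
        have h3 : r * (q : G) * r⁻¹ * (q : G)⁻¹ = r * ((q : G) * r⁻¹ * (q : G)⁻¹) := by group
        rw [h3]
        exact mul_mem hr (h.conj_pR_of_fix hqa (inv_mem hr))
      have h3 := mul_mem (hQconj r hra q hq) (inv_mem hq)
      obtain ⟨k, hk⟩ := hQpow _ h3
      have hk' : (r * (q : G) * r⁻¹ * (q : G)⁻¹) ^ 2 ^ k = 1 := hk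
      have h4 := ((mem_pR (h.nil a)).1 h1).2
      have h5 : orderOf (r * (q : G) * r⁻¹ * (q : G)⁻¹) ∣ 2 ^ k := orderOf_dvd_of_pow_eq_one hk'
      have h6 : r * (q : G) * r⁻¹ * (q : G)⁻¹ = 1 :=
        orderOf_eq_one_iff.1 (Nat.eq_one_of_dvd_coprimes (Nat.Coprime.pow_right k h4) dvd_rfl h5)
      rw [mul_inv_eq_one, mul_inv_eq_iff_eq_mul] at h6
      exact h6
    apply KS.eq_one_of_fix (Ω := Ω)
    intro c
    by_cases hca : c = a
    · rw [hca, hra]
    · obtain ⟨q, hq, hqc⟩ := RankOneBasic.exists_smul_eq_of_ne hR hab.symm hca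
      have hqc' : (q : G) • b = c := hqc
      rw [← hqc', ← mul_smul, hcomm q hq, mul_smul, hrb]
  have hy1 : y = 1 := by
    by_contra hy1
    have hyb := hfixz y hyx
    obtain ⟨-, k, hk⟩ := (mem_pP (h.nil a)).1 hy
    obtain ⟨n, hn1, hn2⟩ := exists_pow_invol hy1 hk
    have hx0b : y ^ n • b = b := by
      have h1 : y ^ n ∈ stabilizer G b := pow_mem (mem_stabilizer_iff.2 hyb) n
      exact h1
    obtain ⟨q, hq, hqb⟩ := RankOneBasic.exists_smul_eq_of_ne hR hab.symm
      (RankOneBasic.t_smul_ne hR)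
    have hqb' : (q : G) • b = t • a := hqb
    have hqa : (q : G) • a = a := hR.le hq
    obtain ⟨x1, hx1⟩ : ∃ x1, x1 = (q : G) * y ^ n * (q : G)⁻¹ := ⟨_, rfl⟩
    have hx1P : x1 ∈ pP 2 (U a) := by
      rw [hx1]
      exact h.conj_pP_of_fix hqa (pow_mem hy n)
    have hx1a : x1 • a = a := h.fix (pP_le 2 _ hx1P)
    have hx1b : x1 • (t • a) = t • a := by
      rw [hx1, ← hqb', mul_smul, inv_smul_smul, mul_smul, hx0b]
    have hx12 : x1 * x1 = 1 := by
      rw [hx1]
      calc (q : G) * y ^ n * (q : G)⁻¹ * ((q : G) * y ^ n * (q : G)⁻¹) =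
          (q : G) * (y ^ n * y ^ n) * (q : G)⁻¹ := by group
        _ = 1 := by rw [hn2]; group
    have hall := OddX.fix_all hR h2 (MulAut.conjNormal x1) (fun c => x1 • c) ?_ ?_ hx1a hx1b ?_ ?_
    · have h3 : x1 = 1 := KS.eq_one_of_fix (Ω := Ω) hall
      apply hn1
      calc y ^ n = (q : G)⁻¹ * ((q : G) * y ^ n * (q : G)⁻¹) * (q : G) := by group
        _ = 1 := by rw [← hx1, h3]; group
    · intro l c
      change ((MulAut.conjNormal x1 l : AschCrit.InductFaithful.L z) : G) • (x1 • c) =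
        x1 • ((l : G) • c)
      rw [MulAut.conjNormal_apply, mul_smul, mul_smul, inv_smul_smul]
    · intro l
      apply Subtype.ext
      rw [MulAut.conjNormal_apply, MulAut.conjNormal_apply]
      calc x1 * (x1 * (l : G) * x1⁻¹) * x1⁻¹ = (x1 * x1) * l * (x1 * x1)⁻¹ := by group
        _ = l := by rw [hx12]; group
    · intro q' hq'
      have h3 := hQconj x1 hx1a q' hq'
      have h4 : (MulAut.conjNormal x1 q' : AschCrit.InductFaithful.L z) =
          ⟨x1 * (q' : G) * x1⁻¹, hLn.conj_mem q' q'.2 x1⟩ :=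
        Subtype.ext (MulAut.conjNormal_apply _ _)
      rw [h4]
      exact h3
    · intro d hd
      have hda : (d : G) • a = a := hd.1
      have hdb : (d : G) • (t • a) = t • a := hd.2
      have h3 : (((MulAut.conjNormal x1 d : AschCrit.InductFaithful.L z) * d⁻¹ :
          AschCrit.InductFaithful.L z) : G) = x1 * ((d : G) * x1⁻¹ * (d : G)⁻¹) := by
        rw [Subgroup.coe_mul, MulAut.conjNormal_apply, Subgroup.coe_inv]
        group
      have h4 : x1 * ((d : G) * x1⁻¹ * (d : G)⁻¹) ∈ pP 2 (U a) :=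
        mul_mem hx1P (h.conj_pP_of_fix hda (inv_mem hx1P))
      have h5 : (MulAut.conjNormal x1 d : AschCrit.InductFaithful.L z) * d⁻¹ ∈ Q := by
        apply hQm'
        · change (((MulAut.conjNormal x1 d : AschCrit.InductFaithful.L z) * d⁻¹ :
            AschCrit.InductFaithful.L z) : G) • a = a
          rw [h3]
          exact h.fix (pP_le 2 _ h4)
        · rw [h3]
          exact ((mem_pP (h.nil a)).1 h4).2
      have h6 : (MulAut.conjNormal x1 d : AschCrit.InductFaithful.L z) * d⁻¹ = 1 := by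
        apply RankOneBasic.eq_one_of_smul_t_smul hR h5
        change (((MulAut.conjNormal x1 d : AschCrit.InductFaithful.L z) * d⁻¹ :
            AschCrit.InductFaithful.L z) : G) • (t • a) = t • a
        have h7 : (d : G)⁻¹ • (t • a) = t • a := by rw [inv_smul_eq_iff, hdb]
        have h8 : x1⁻¹ • (t • a) = t • a := by rw [inv_smul_eq_iff, hx1b]
        rw [h3, mul_smul, mul_smul, mul_smul, h7, h8, hdb, hx1b]
      rwa [mul_inv_eq_one] at h6
  rw [hxx, hy1, hr1, one_mul]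

/-- `OddConcl`, from Aschbacher's criterion and Bender's theorem -/
theorem oddConcl (hN : ∀ N, NoBadBelow.{u} N)
    (hB : ∀ (X : Type u) [Group X] [Finite X], BenderHolds X) : OddConcl.{u} := by
  intro G Ω _ _ _ _ _ U h hodd a b hab
  exact h.odd_concl hN hB hodd hab

end Cfsg.Agent.KantorSeitz
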