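import Cfsg.Agent.KantorSeitz.Affine3

/-!
# Affine lines of even order force the whole group to be affine
-/

set_option autoImplicit false
set_option linter.unusedSectionVars false
set_option linter.style.haveILetI false

namespace Cfsg.Agent.KantorSeitz

open Subgroup MulAction

namespace KS

variable {G Ω : Type*} [Group G] [Finite G] [MulAction G Ω] [Finite Ω] [FaithfulSMul G Ω]
  {U : Ω → Subgroup G} {p : ℕ} [hp : Fact p.Prime]

theorem smul_mem_L' (h : KS U) (g : G) {a b c : Ω} (hc : c ∈ L p U a b) :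
    g • c ∈ L p U (g • a) (g • b) := by
  intro x hx
  have h1 := h.conj_X (p := p) g⁻¹ hx
  rw [inv_smul_smul, inv_smul_smul, inv_inv] at h1
  have h2 := hc _ h1
  rw [mul_smul, mul_smul, inv_smul_eq_iff] at h2
  exact h2

theorem AL_conj' (h : KS U) (g : G) {a b : Ω} {y : G} (hy : y ∈ AL p U a b) :
    g * y * g⁻¹ ∈ AL p U (g • a) (g • b) := by
  have : AL p U a b ≤ (AL p U (g • a) (g • b)).comap (MulAut.conj g).toMonoidHom := by
    conv_lhs => rw [AL]
    rw [closure_le]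
    rintro z ⟨c, hc, hz⟩
    exact subset_closure ⟨g • c, h.smul_mem_L' g hc, h.conj_Z g hz⟩
  exact this hy

/-- the properties of the translation group of a line -/
structure IsTrans (p : ℕ) (U : Ω → Subgroup G) (c d : Ω) (E : Subgroup G) : Prop where
  le : E ≤ AL p U c d
  sq : ∀ x ∈ E, x * x = 1
  tr : ∀ e ∈ L p U c d, ∀ f ∈ L p U c d, ∃ x ∈ E, x • e = f
  inv : ∀ g ∈ setStab (L p U c d), ∀ x ∈ E, g * x * g⁻¹ ∈ E

theorem IsTrans.conj (h : KS U) {c d : Ω} {E : Subgroup G} (hE : IsTrans p U c d E) (g : G) :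
    IsTrans p U (g • c) (g • d) (E.map (MulAut.conj g).toMonoidHom) where
  le := by
    rintro _ ⟨x, hx, rfl⟩
    exact h.AL_conj' g (hE.le hx)
  sq := by
    rintro _ ⟨x, hx, rfl⟩
    rw [← map_mul, hE.sq x hx, map_one]
  tr := by
    intro e he f hf
    have he' := h.smul_mem_L' g⁻¹ he
    have hf' := h.smul_mem_L' g⁻¹ hf
    rw [inv_smul_smul, inv_smul_smul] at he' hf'
    obtain ⟨x, hx, hxe⟩ := hE.tr _ he' _ hf'
    refine ⟨g * x * g⁻¹, ⟨x, hx, rfl⟩, ?_⟩
    rw [mul_smul, mul_smul, hxe, smul_inv_smul]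
  inv := by
    rintro k hk _ ⟨x, hx, rfl⟩
    have hk' : g⁻¹ * k * g ∈ setStab (L p U c d) := by
      apply mem_setStab_of
      intro e he
      have h1 := (hk _).1 (h.smul_mem_L' g he)
      have h2 := h.smul_mem_L' g⁻¹ h1
      rw [inv_smul_smul, inv_smul_smul] at h2
      rw [mul_smul, mul_smul]
      exact h2
    refine ⟨g⁻¹ * k * g * x * (g⁻¹ * k * g)⁻¹, hE.inv _ hk' x hx, ?_⟩
    change g * (g⁻¹ * k * g * x * (g⁻¹ * k * g)⁻¹) * g⁻¹ = k * (g * x * g⁻¹) * k⁻¹
    group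

theorem IsTrans.comm {c d : Ω} {E : Subgroup G} (hE : IsTrans p U c d E) {x y : G} (hx : x ∈ E)
    (hy : y ∈ E) : x * y = y * x := by
  have h1 := hE.sq _ (mul_mem hx hy)
  have hx1 : x⁻¹ = x := inv_eq_of_mul_eq_one_left (hE.sq x hx)
  have hy1 : y⁻¹ = y := inv_eq_of_mul_eq_one_left (hE.sq y hy)
  have h2 : x * y = (x * y)⁻¹ := eq_inv_of_mul_eq_one_left h1
  rw [h2, mul_inv_rev, hx1, hy1]

theorem orderOf_coprime_of_sq (hp2 : p ≠ 2) {x : G} (hx : x * x = 1) : (orderOf x).Coprime p := by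
  have h1 : orderOf x ∣ 2 := orderOf_dvd_of_pow_eq_one (by rw [pow_two, hx])
  exact Nat.Coprime.coprime_dvd_left h1 ((Nat.coprime_primes Nat.prime_two hp.out).2 hp2.symm)

theorem IsTrans.reg (h : KS U) (hp2 : p ≠ 2) {c d : Ω} (hcd : c ≠ d) {E : Subgroup G}
    (hE : IsTrans p U c d E) {x : G} (hx : x ∈ E) {e : Ω} (he : e ∈ L p U c d) (hxe : x • e = e) :
    x = 1 := by
  refine h.eq_one_of_fix_line hcd (p := p) ?_ (fun y hy => h.AL_comm_X hcd hy (hE.le hx))
    (orderOf_coprime_of_sq hp2 (hE.sq x hx))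
  intro f hf
  obtain ⟨y, hy, rfl⟩ := hE.tr e he f hf
  rw [← mul_smul, hE.comm hx hy, mul_smul, hxe]

theorem IsTrans.conj_mem (h : KS U) {c d : Ω} (hcd : c ≠ d) {E : Subgroup G}
    (hE : IsTrans p U c d E) {c' : Ω} (hc' : c' ∈ L p U c d) {z : G} (hz : z ∈ Z p U c') {x : G}
    (hx : x ∈ E) : z * x * z⁻¹ ∈ E :=
  hE.inv z (h.AL_le_setStab hcd (Z_le_AL hc' hz)) x hx

theorem IsTrans.exists_comm (h : KS U) (hp2 : p ≠ 2) {c d : Ω} (hcd : c ≠ d) {E : Subgroup G}
    (hE : IsTrans p U c d E) {c' : Ω} (hc' : c' ∈ L p U c d) {z : G} (hz : z ∈ Z p U c')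
    (hz1 : z ≠ 1) {e : G} (he : e ∈ E) : ∃ f ∈ E, e = z⁻¹ * (f * z * f⁻¹) := by
  let φ : E → E := fun f => ⟨z⁻¹ * (f.1 * z * f.1⁻¹), by
    have h1 := hE.conj_mem h hcd hc' (inv_mem hz) f.2
    have h2 : z⁻¹ * (f.1 * z * f.1⁻¹) = z⁻¹ * f.1 * z⁻¹⁻¹ * f.1⁻¹ := by group
    rw [h2]
    exact mul_mem h1 (inv_mem f.2)⟩
  have hinj : Function.Injective φ := by
    intro f g hfg
    have h1 : z⁻¹ * (f.1 * z * f.1⁻¹) = z⁻¹ * (g.1 * z * g.1⁻¹) := congrArg Subtype.val hfg
    have h2 : f.1 * z * f.1⁻¹ = g.1 * z * g.1⁻¹ := mul_left_cancel h1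
    have h3 : (g.1⁻¹ * f.1) * z = z * (g.1⁻¹ * f.1) := by
      calc (g.1⁻¹ * f.1) * z = g.1⁻¹ * (f.1 * z * f.1⁻¹) * f.1 := by group
        _ = z * (g.1⁻¹ * f.1) := by rw [h2]; group
    have hzc : z • c' = c' := h.Z_fix hz
    have h4 : z • ((g.1⁻¹ * f.1) • c') = (g.1⁻¹ * f.1) • c' := by
      rw [← mul_smul, ← h3, mul_smul, hzc]
    have h5 : (g.1⁻¹ * f.1) • c' = c' := by
      by_contra hne
      exact hz1 (h.Z_semireg hne hz h4)
    have h6 := hE.reg h hp2 hcd (mul_mem (inv_mem g.2) f.2) hc' h5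
    rw [inv_mul_eq_one] at h6
    exact Subtype.ext h6.symm
  have hsurj := Finite.surjective_of_injective hinj
  obtain ⟨f, hf⟩ := hsurj ⟨e, he⟩
  exact ⟨f.1, f.2, (congrArg Subtype.val hf).symm⟩

/-- translations have no fixed points -/
theorem IsTrans.no_fixed (h : KS U) (hp2 : p ≠ 2) {a b : Ω} (hab : a ≠ b) (hX : X p U a b ≠ ⊥)
    {c d : Ω} (hcd : c ≠ d) {E : Subgroup G}
    (hE : IsTrans p U c d E) {e : G} (he : e ∈ E) (he1 : e ≠ 1) (x : Ω) : e • x ≠ x := by
  intro hex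
  by_cases hx : x ∈ L p U c d
  · exact he1 (hE.reg h hp2 hcd he hx hex)
  · obtain ⟨z, hz, hz1⟩ : ∃ z ∈ Z p U c, z ≠ 1 := by
      have h1 := Z_ne_bot (p := p) (h.nil c) (h.pP_ne_bot (pP_ne_bot_of_X hX) c)
      by_contra hcon
      push Not at hcon
      exact h1 ((eq_bot_iff_forall _).2 hcon)
    have hcL := h.left_mem_L (p := p) c d
    obtain ⟨f, hf, rfl⟩ := hE.exists_comm h hp2 hcd hcL hz hz1 he
    have hfc : f • c ≠ c := by
      intro e
      have := hE.reg h hp2 hcd hf hcL e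
      rw [this] at he1
      exact he1 (by group)
    have hfL : f • c ∈ L p U c d := ((h.AL_le_setStab hcd (hE.le hf)) c).1 hcL
    have hz' : f * z * f⁻¹ ∈ Z p U (f • c) := h.conj_Z f hz
    have hy : (f * z * f⁻¹) • x = z • x := by
      have h1 : z • (z⁻¹ * (f * z * f⁻¹)) • x = z • x := by rw [hex]
      rw [← mul_smul, mul_inv_cancel_left] at h1
      exact h1
    have hcx : c ≠ x := fun e => hx (by rw [← e]; exact hcL)
    have hfx : f • c ≠ x := fun e => hx (by rw [← e]; exact hfL)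
    have h1 : z • x ∈ L p U c x := smul_mem_of_comm (fun u hu => (mem_Z.1 hz).2 u (mem_X.1 hu).1)
      (right_mem_L c x)
    have h2 : z • x ∈ L p U (f • c) x := by
      rw [← hy]
      exact smul_mem_of_comm (fun u hu => (mem_Z.1 hz').2 u (mem_X.1 hu).1) (right_mem_L _ x)
    have h3 : z • x ≠ x := fun e => hz1 (h.Z_semireg hcx.symm hz e)
    have h4 := h.L_eq_L hcx hfx h1 (right_mem_L c x) h2 (right_mem_L _ x) h3
    have h5 : f • c ∈ L p U c x := by rw [h4]; exact h.left_mem_L _ x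
    have h6 := h.L_eq_L hcx hcd (h.left_mem_L c x) h5 hcL hfL hfc.symm
    apply hx
    rw [← h6]
    exact right_mem_L c x

/-- translations of different lines through a point commute -/
theorem IsTrans.comm_of_ne (h : KS U) (hp2 : p ≠ 2) {a b : Ω} (hab : a ≠ b) (hX : X p U a b ≠ ⊥)
    (hall : ∀ c d : Ω, c ≠ d → ∃ E : Subgroup G, IsTrans p U c d E)
    {c d d' : Ω} (hcd : c ≠ d) (hcd' : c ≠ d') (hdd' : d' ∉ L p U c d) {E E' : Subgroup G}
    (hE : IsTrans p U c d E) (hE' : IsTrans p U c d' E') {e e' : G} (he : e ∈ E) (he' : e' ∈ E') :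
    e * e' = e' * e := by
  by_cases he1 : e = 1
  · rw [he1, one_mul, mul_one]
  by_cases he1' : e' = 1
  · rw [he1', one_mul, mul_one]
  have hee : e⁻¹ = e := inv_eq_of_mul_eq_one_left (hE.sq e he)
  have hee' : e'⁻¹ = e' := inv_eq_of_mul_eq_one_left (hE'.sq e' he')
  suffices hsq : (e * e') * (e * e') = 1 by
    have h2 : e * e' = (e * e')⁻¹ := eq_inv_of_mul_eq_one_left hsq
    rw [h2, mul_inv_rev, hee, hee']
  obtain ⟨z, hz, hz1⟩ : ∃ z ∈ Z p U c, z ≠ 1 := by
    have h1 := Z_ne_bot (p := p) (h.nil c) (h.pP_ne_bot (pP_ne_bot_of_X hX) c)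
    by_contra hcon
    push Not at hcon
    exact h1 ((eq_bot_iff_forall _).2 hcon)
  have hcL := h.left_mem_L (p := p) c d
  have hcL' := h.left_mem_L (p := p) c d'
  obtain ⟨f, hf, hef⟩ := hE.exists_comm h hp2 hcd hcL hz hz1 he
  obtain ⟨f', hf', hef'⟩ := hE'.exists_comm h hp2 hcd' hcL' hz hz1 he'
  have hfc : f • c ≠ c := by
    intro k
    have := hE.reg h hp2 hcd hf hcL k
    rw [this] at hef
    exact he1 (by rw [hef]; group)
  have hfc' : f' • c ≠ c := by
    intro k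
    have := hE'.reg h hp2 hcd' hf' hcL' k
    rw [this] at hef'
    exact he1' (by rw [hef']; group)
  have hfL : f • c ∈ L p U c d := ((h.AL_le_setStab hcd (hE.le hf)) c).1 hcL
  have hfL' : f' • c ∈ L p U c d' := ((h.AL_le_setStab hcd' (hE'.le hf')) c).1 hcL'
  have hne : f • c ≠ f' • c := by
    intro k
    rw [← k] at hfL'
    have h1 := h.L_eq_L hcd hcd' hcL hfL hcL' hfL' hfc.symm
    apply hdd'
    rw [h1]
    exact right_mem_L c d'
  -- the line `m` through `f • c` and `f' • c`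
  obtain ⟨M, hM⟩ := hall (f • c) (f' • c) hne
  have h1L := h.left_mem_L (p := p) (f • c) (f' • c)
  have h2L := right_mem_L (p := p) (U := U) (f • c) (f' • c)
  obtain ⟨m, hm, hmc⟩ := hM.tr _ h1L _ h2L
  have hzf : f * z * f⁻¹ ∈ Z p U (f • c) := h.conj_Z f hz
  have hzf' : f' * z * f'⁻¹ ∈ Z p U (f' • c) := h.conj_Z f' hz
  set w := (m * (f * z * f⁻¹) * m⁻¹)⁻¹ * (f' * z * f'⁻¹) with hw
  have hwZ : w ∈ Z p U (f' • c) := by
    have h1 := h.conj_Z m hzf
    rw [hmc] at h1
    exact mul_mem (inv_mem h1) hzf'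
  set k := (f * z * f⁻¹)⁻¹ * m * (f * z * f⁻¹) * m⁻¹ with hk
  have hkM : k ∈ M := by
    have h1 := hM.conj_mem h hne h1L (inv_mem hzf) hm
    rw [inv_inv] at h1
    exact mul_mem h1 (inv_mem hm)
  have hprod : e * e' = k * w := by
    have h1 : e * e' = e⁻¹ * e' := by rw [hee]
    rw [h1, hef, hef', hk, hw]
    group
  by_cases hw1 : w = 1
  · rw [hw1, mul_one] at hprod
    rw [hprod]
    exact hM.sq k hkM
  · exfalso
    obtain ⟨g, hg, hgk⟩ := hM.exists_comm h hp2 hne h2L hwZ hw1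
      (e := w⁻¹ * k * w) (by
        have := hM.conj_mem h hne h2L (inv_mem hwZ) hkM
        rwa [inv_inv] at this)
    have hkw : k * w = g * w * g⁻¹ := by
      have h1 : w * (w⁻¹ * k * w) = w * (w⁻¹ * (g * w * g⁻¹)) := by rw [hgk]
      rw [mul_inv_cancel_left] at h1
      rw [← h1]
      group
    -- the unique fixed point
    have hgw : g * w * g⁻¹ ∈ Z p U (g • f' • c) := h.conj_Z g hwZ
    have hgw1 : g * w * g⁻¹ ≠ 1 := by
      intro k'
      apply hw1
      rw [mul_inv_eq_one] at k'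
      exact mul_eq_left.1 k'
    set c0 := g • f' • c with hc0
    have hfix0 : (e * e') • c0 = c0 := by
      rw [hprod, hkw]
      exact h.Z_fix hgw
    have hc1 : e' • c0 ≠ c0 := hE'.no_fixed h hp2 hab hX hcd' he' he1' c0
    have hfix1 : (e * e') • e' • c0 = e' • c0 := by
      have h1 : e • e' • c0 = c0 := by rw [← mul_smul]; exact hfix0
      have h2 : e' • c0 = e • c0 := by
        have h3 : e • e • e' • c0 = e • c0 := by rw [h1]
        rw [← mul_smul, hE.sq e he, one_smul] at h3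
        exact h3
      rw [mul_smul, ← mul_smul e' e', hE'.sq e' he', one_smul, h2]
    rw [hprod, hkw] at hfix1
    exact hgw1 (h.Z_semireg hc1 hgw hfix1)

/-- If the lines are affine of even order then `G` is affine. -/
theorem affine_of_affine_lines (h : KS U) (hp2 : p ≠ 2) {a b : Ω} (hab : a ≠ b)
    (hX : X p U a b ≠ ⊥) {E₀ : Subgroup G} (hE₀ : IsTrans p U a b E₀) :
    ∃ F : Subgroup G, F.Normal ∧ (∀ x ∈ F, x * x = 1) ∧ ∀ c d : Ω, ∃ x ∈ F, x • c = d := by
  -- transport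
  have hall : ∀ c d : Ω, c ≠ d → ∃ E : Subgroup G, IsTrans p U c d E := by
    intro c d hcd
    obtain ⟨g, rfl, rfl⟩ := h.two hab hcd
    exact ⟨_, hE₀.conj h g⟩
  have hinv : ∀ g k : G, g • a = k • a → g • b = k • b → ∀ x, g⁻¹ * x * g ∈ E₀ → k⁻¹ * x * k ∈ E₀ := by
    intro g k h1 h2 x hx
    have h3 : (k⁻¹ * g) • a = a := by rw [mul_smul, h1, inv_smul_smul]
    have h4 : (k⁻¹ * g) • b = b := by rw [mul_smul, h2, inv_smul_smul]
    have h5 : k⁻¹ * g ∈ setStab (L p U a b) := by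
      apply mem_setStab_of
      intro e he
      refine h.smul_mem_L hab hab (h.left_mem_L a b) (right_mem_L a b) ?_ ?_ he
      · rw [h3]; exact h.left_mem_L a b
      · rw [h4]; exact right_mem_L a b
    have h6 := hE₀.inv _ h5 _ hx
    have h7 : k⁻¹ * g * (g⁻¹ * x * g) * (k⁻¹ * g)⁻¹ = k⁻¹ * x * k := by group
    rwa [h7] at h6
  -- the canonical translation groups
  let EE : Ω → Ω → Subgroup G := fun c d =>
    { carrier := {x | ∀ g : G, g • a = c → g • b = d → g⁻¹ * x * g ∈ E₀}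
      one_mem' := fun g _ _ => by rw [mul_one, inv_mul_cancel]; exact one_mem _
      mul_mem' := by
        intro x y hx hy g h1 h2
        have h3 : g⁻¹ * (x * y) * g = (g⁻¹ * x * g) * (g⁻¹ * y * g) := by group
        rw [h3]
        exact mul_mem (hx g h1 h2) (hy g h1 h2)
      inv_mem' := by
        intro x hx g h1 h2
        have h3 : g⁻¹ * x⁻¹ * g = (g⁻¹ * x * g)⁻¹ := by group
        rw [h3]
        exact inv_mem (hx g h1 h2) }
  have mEE : ∀ {c d : Ω} {g : G} {x : G}, g • a = c → g • b = d → (x ∈ EE c d ↔ g⁻¹ * x * g ∈ E₀) := by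
    intro c d g x h1 h2
    constructor
    · intro hx
      exact hx g h1 h2
    · intro hx k h3 h4
      exact hinv g k (by rw [h1, h3]) (by rw [h2, h4]) x hx
  have hEE : ∀ {c d : Ω}, c ≠ d → IsTrans p U c d (EE c d) := by
    intro c d hcd
    obtain ⟨g, hgc, hgd⟩ := h.two hab hcd
    have h1 : EE c d = E₀.map (MulAut.conj g).toMonoidHom := by
      ext x
      rw [mEE hgc hgd]
      constructor
      · intro hx
        exact ⟨g⁻¹ * x * g, hx, by change g * (g⁻¹ * x * g) * g⁻¹ = x; group⟩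
      · rintro ⟨y, hy, rfl⟩
        have h2 : g⁻¹ * (g * y * g⁻¹) * g = y := by group
        change g⁻¹ * (g * y * g⁻¹) * g ∈ E₀
        rw [h2]
        exact hy
    rw [h1]
    have := hE₀.conj h g
    rwa [hgc, hgd] at this
  have hequiv : ∀ (g : G) {c d : Ω} {x : G}, x ∈ EE c d → g * x * g⁻¹ ∈ EE (g • c) (g • d) := by
    intro g c d x hx k h1 h2
    have h3 := hx (g⁻¹ * k) (by rw [mul_smul, h1, inv_smul_smul]) (by rw [mul_smul, h2, inv_smul_smul])
    have h4 : (g⁻¹ * k)⁻¹ * x * (g⁻¹ * k) = k⁻¹ * (g * x * g⁻¹) * k := by group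
    rwa [h4] at h3
  have hline : ∀ {c d d' : Ω}, c ≠ d → c ≠ d' → d' ∈ L p U c d → EE c d ≤ EE c d' := by
    intro c d d' hcd hcd' hd' x hx
    obtain ⟨k, hk, hkd⟩ := h.trans hcd.symm hcd'.symm
    have hkc := h.fix hk
    have hkS : k⁻¹ ∈ setStab (L p U c d) := by
      apply inv_mem
      apply mem_setStab_of
      intro e he
      refine h.smul_mem_L hcd hcd (h.left_mem_L c d) (right_mem_L c d) ?_ ?_ he
      · rw [hkc]; exact h.left_mem_L c d
      · rw [hkd]; exact hd'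
    have h1 := (hEE hcd).inv _ hkS x hx
    have h2 := hequiv k h1
    rw [hkc, hkd] at h2
    have h3 : k * (k⁻¹ * x * k⁻¹⁻¹) * k⁻¹ = x := by group
    rwa [h3] at h2
  -- the group generated by the translations of the lines through `a`
  let S : Set G := {x | ∃ c, a ≠ c ∧ x ∈ EE a c}
  have hcomm : ∀ x ∈ S, ∀ y ∈ S, x * y = y * x := by
    rintro x ⟨c, hc, hx⟩ y ⟨d, hd, hy⟩
    by_cases hdc : d ∈ L p U a c
    · exact (hEE hd).comm (hline hc hd hdc hx) hy
    · exact IsTrans.comm_of_ne h hp2 hab hX hall hc hd hdc (hEE hc) (hEE hd) hx hy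
  have hFc : ∀ x ∈ closure S, ∀ y ∈ closure S, x * y = y * x := by
    have h1 : closure S ≤ centralizer (closure S : Set G) := by
      rw [closure_le]
      intro x hx
      rw [SetLike.mem_coe, mem_centralizer_iff]
      intro y hy
      have h2 : closure S ≤ centralizer ({x} : Set G) := by
        rw [closure_le]
        intro z hz
        rw [SetLike.mem_coe, mem_centralizer_iff]
        intro x' hx'
        rw [Set.mem_singleton_iff] at hx'
        rw [hx', hcomm x hx z hz]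
      exact (mem_centralizer_iff.1 (h2 hy) x rfl).symm
    intro x hx y hy
    exact (mem_centralizer_iff.1 (h1 hx) y hy).symm
  have hFsq : ∀ x ∈ closure S, x * x = 1 := by
    intro x hx
    induction hx using closure_induction with
    | mem x hx =>
      obtain ⟨c, hc, hx⟩ := hx
      exact (hEE hc).sq x hx
    | one => rw [one_mul]
    | mul x y hx hy ihx ihy =>
      calc x * y * (x * y) = x * (y * x) * y := by group
        _ = x * (x * y) * y := by rw [hFc y hy x hx]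
        _ = (x * x) * (y * y) := by group
        _ = 1 := by rw [ihx, ihy, one_mul]
    | inv x _ ih => rw [← mul_inv_rev, ih, inv_one]
  have htra : ∀ d : Ω, ∃ x ∈ closure S, x • a = d := by
    intro d
    by_cases had : a = d
    · exact ⟨1, one_mem _, by rw [one_smul, had]⟩
    · obtain ⟨x, hx, hxd⟩ := (hEE had).tr a (h.left_mem_L a d) d (right_mem_L a d)
      exact ⟨x, subset_closure ⟨d, had, hx⟩, hxd⟩
  have hGa : ∀ g : G, g • a = a → ∀ x ∈ closure S, g * x * g⁻¹ ∈ closure S := by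
    intro g hg
    have : closure S ≤ (closure S).comap (MulAut.conj g).toMonoidHom := by
      refine (closure_le _).2 ?_
      rintro x ⟨c, hc, hx⟩
      refine subset_closure ⟨g • c, ?_, ?_⟩
      · intro e
        rw [← hg] at e
        exact hc (MulAction.injective g e)
      · have := hequiv g hx
        rwa [hg] at this
    exact fun x hx => this hx
  refine ⟨closure S, ⟨fun x hx g => ?_⟩, hFsq, fun c d => ?_⟩
  · obtain ⟨f, hf, hfa⟩ := htra (g • a)
    have h1 : (f⁻¹ * g) • a = a := by rw [mul_smul, ← hfa, inv_smul_smul]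
    have h2 := hGa _ h1 x hx
    have h3 : g * x * g⁻¹ = f * (f⁻¹ * g * x * (f⁻¹ * g)⁻¹) * f⁻¹ := by group
    rw [h3]
    exact mul_mem (mul_mem hf h2) (inv_mem hf)
  · obtain ⟨x, hx, rfl⟩ := htra c
    obtain ⟨y, hy, rfl⟩ := htra d
    exact ⟨y * x⁻¹, mul_mem hy (inv_mem hx), by rw [mul_smul, inv_smul_smul]⟩

end KS

end Cfsg.Agent.KantorSeitz
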