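import Cfsg.Agent.KantorSeitz.Lines3
import Cfsg.Agent.Solvable.FpfCyclic
import Cfsg.Agent.Classification.NormalCyclic
import Cfsg.Agent.S1160

/-!
# The affine case of the Kantor–Seitz theorem
-/

set_option autoImplicit false
set_option linter.unusedSectionVars false

namespace Cfsg.Agent.KantorSeitz

open Subgroup MulAction

/-- the conclusion of the Kantor–Seitz theorem for two points -/
def Concl {G Ω : Type*} [Group G] [MulAction G Ω] (U : Ω → Subgroup G) (a b : Ω) : Prop :=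
  (∀ x ∈ U a, x • b = b → x = 1) ∨
  ((∃ x₀, ∀ x ∈ U a, x • b = b → x = 1 ∨ x = x₀) ∧
    ∃ V : Subgroup G, V ≤ U a ∧ (∀ g : G, g • a = a → ∀ v ∈ V, g * v * g⁻¹ ∈ V) ∧
      (∀ v ∈ V, v • b = b → v = 1) ∧ (∀ u ∈ U a, ∃ v ∈ V, ∃ x ∈ U a, x • b = b ∧ u = v * x))

namespace KS

variable {G Ω : Type*} [Group G] [Finite G] [MulAction G Ω] [Finite Ω] [FaithfulSMul G Ω]
  {U : Ω → Subgroup G}

theorem exists_X_ne_bot {a b : Ω} {x : G} (hx : x ∈ U a) (hxb : x • b = b) (hx1 : x ≠ 1) :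
    ∃ p : ℕ, p.Prime ∧ X p U a b ≠ ⊥ := by
  obtain ⟨q, hq, m, hm⟩ := Nat.exists_prime_and_dvd (n := orderOf x) (by
    rwa [Ne, orderOf_eq_one_iff])
  refine ⟨q, hq, fun hb => ?_⟩
  have hm0 : m ≠ 0 := by
    rintro rfl
    have := orderOf_pos x
    omega
  have hw1 : orderOf (x ^ m) = q := by
    have hmdvd : m ∣ orderOf x := ⟨q, by rw [hm, mul_comm]⟩
    rw [orderOf_pow_of_dvd hm0 hmdvd, hm, Nat.mul_div_cancel _ (Nat.pos_of_ne_zero hm0)]
  have hxs : x ∈ stabilizer G b := hxb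
  have h1 : x ^ m ∈ X q U a b := mem_X.2
    ⟨mem_pP_of (pow_mem hx m) (k := 1) (by rw [pow_one, ← hw1, pow_orderOf_eq_one]), pow_mem hxs m⟩
  rw [hb, mem_bot] at h1
  rw [h1, orderOf_one] at hw1
  exact hq.one_lt.ne hw1

section W

variable {W : Subgroup G}

theorem W_reg (hWc : ∀ x ∈ W, ∀ y ∈ W, x * y = y * x) (hWt : ∀ c d : Ω, ∃ w ∈ W, w • c = d)
    {w : G} (hw : w ∈ W) {c : Ω} (hc : w • c = c) : w = 1 := by
  apply eq_one_of_fix (Ω := Ω)
  intro d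
  obtain ⟨v, hv, rfl⟩ := hWt c d
  rw [← mul_smul, hWc w hw v hv, mul_smul, hc]

theorem W_eq (hWc : ∀ x ∈ W, ∀ y ∈ W, x * y = y * x) (hWt : ∀ c d : Ω, ∃ w ∈ W, w • c = d)
    {w w' : G} (hw : w ∈ W) (hw' : w' ∈ W) {c : Ω} (hc : w • c = w' • c) : w = w' := by
  have h1 := W_reg hWc hWt (mul_mem (inv_mem hw') hw) (c := c) (by
    rw [mul_smul, hc, inv_smul_smul])
  rw [inv_mul_eq_one] at h1
  exact h1.symm

theorem semireg_abelian (h : KS U) (hWn : W.Normal) (hWc : ∀ x ∈ W, ∀ y ∈ W, x * y = y * x)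
    (hWt : ∀ c d : Ω, ∃ w ∈ W, w • c = d) {a : Ω} {N : Subgroup G} (hN : N ≤ U a)
    (hNc : ∀ x ∈ N, ∀ y ∈ N, x * y = y * x) (hNn : ∀ u ∈ U a, ∀ n ∈ N, u * n * u⁻¹ ∈ N)
    {b : Ω} (hb : b ≠ a) {n : G} (hn : n ∈ N) (hnb : n • b = b) : n = 1 := by
  -- the subgroups of the partition
  let B : Ω → Subgroup G := fun c => W ⊓ centralizer ((N ⊓ stabilizer G c : Subgroup G) : Set G)
  have mB : ∀ {c : Ω} {w : G}, w ∈ B c ↔ w ∈ W ∧ ∀ m ∈ N, m • c = c → m * w = w * m := by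
    intro c w
    constructor
    · rintro ⟨h1, h2⟩
      exact ⟨h1, fun m hm hmc => mem_centralizer_iff.1 h2 m ⟨hm, hmc⟩⟩
    · rintro ⟨h1, h2⟩
      exact ⟨h1, mem_centralizer_iff.2 (fun m hm => h2 m hm.1 hm.2)⟩
  have hfa : ∀ m ∈ N, m • a = a := fun m hm => h.fix (hN hm)
  have fact1 : ∀ c d : Ω, c ≠ a → d ≠ a →
      Nat.card (N ⊓ stabilizer G c : Subgroup G) = Nat.card (N ⊓ stabilizer G d : Subgroup G) := by
    intro c d hc hd
    obtain ⟨u, hu, rfl⟩ := h.trans hc hd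
    refine Nat.card_congr ⟨fun x => ⟨u * x.1 * u⁻¹, hNn u hu _ x.2.1, ?_⟩,
      fun x => ⟨u⁻¹ * x.1 * u, ?_, ?_⟩, ?_, ?_⟩
    · change (u * x.1 * u⁻¹) • u • c = u • c
      have : x.1 • c = c := x.2.2
      rw [mul_smul, inv_smul_smul, mul_smul, this]
    · have := hNn u⁻¹ (inv_mem hu) _ x.2.1
      rwa [inv_inv] at this
    · change (u⁻¹ * x.1 * u) • c = c
      have : x.1 • u • c = u • c := x.2.2
      rw [mul_smul, mul_smul, this, inv_smul_smul]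
    · intro x
      apply Subtype.ext
      change u⁻¹ * (u * x.1 * u⁻¹) * u = x.1
      group
    · intro x
      apply Subtype.ext
      change u * (u⁻¹ * x.1 * u) * u⁻¹ = x.1
      group
  have hwa : ∀ w ∈ W, w ≠ 1 → w • a ≠ a := fun w hw hw1 e => hw1 (W_reg hWc hWt hw e)
  have fact2 : ∀ c w, c ≠ a → w ∈ B c → w ≠ 1 →
      (N ⊓ stabilizer G c : Subgroup G) = N ⊓ stabilizer G (w • a) := by
    intro c w hc hw hw1
    rw [mB] at hw
    apply Subgroup.eq_of_le_of_card_ge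
    · rintro m ⟨hm, hmc⟩
      refine ⟨hm, ?_⟩
      change m • w • a = w • a
      rw [← mul_smul, hw.2 m hm hmc, mul_smul, hfa m hm]
    · exact (fact1 _ _ (hwa w hw.1 hw1) hc).le
  have fact2' : ∀ c w, c ≠ a → w ∈ B c → w ≠ 1 → B c = B (w • a) := by
    intro c w hc hw hw1
    change W ⊓ centralizer ((N ⊓ stabilizer G c : Subgroup G) : Set G) =
      W ⊓ centralizer ((N ⊓ stabilizer G (w • a) : Subgroup G) : Set G)
    rw [fact2 c w hc hw hw1]
  have fact3 : ∀ c w m, m ∈ N → w ∈ B c → m * w * m⁻¹ ∈ B c := by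
    intro c w m hm hw
    rw [mB] at hw ⊢
    refine ⟨hWn.conj_mem w hw.1 m, fun k hk hkc => ?_⟩
    have h1 := hNc k hk m hm
    have h2 := hw.2 k hk hkc
    calc k * (m * w * m⁻¹) = (k * m) * w * m⁻¹ := by group
      _ = m * (k * w) * m⁻¹ := by rw [h1]; group
      _ = m * (w * k) * m⁻¹ := by rw [h2]
      _ = m * w * m⁻¹ * ((m * k) * m⁻¹) := by group
      _ = m * w * m⁻¹ * ((k * m) * m⁻¹) := by rw [h1]
      _ = m * w * m⁻¹ * k := by group
  have fact4 : ∀ w ∈ W, w ∈ B (w • a) := by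
    intro w hw
    rw [mB]
    refine ⟨hw, fun m hm hmw => ?_⟩
    have h1 : m * w * m⁻¹ = w := by
      apply W_eq hWc hWt (hWn.conj_mem w hw m) hw (c := a)
      have hma : m⁻¹ • a = a := by rw [inv_smul_eq_iff, hfa m hm]
      rw [mul_smul, hma, mul_smul, hmw]
    calc m * w = (m * w * m⁻¹) * m := by group
      _ = w * m := by rw [h1]
  by_contra hn1
  obtain ⟨w2, hw2, hw2n⟩ : ∃ w ∈ W, n * w ≠ w * n := by
    by_contra hcon
    push Not at hcon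
    apply hn1
    apply eq_one_of_fix (Ω := Ω)
    intro c
    obtain ⟨w, hw, rfl⟩ := hWt a c
    rw [← mul_smul, hcon w hw, mul_smul, hfa n hn]
  obtain ⟨w1, hw1, hw1b⟩ := hWt a b
  have hw1B : w1 ∈ B b := by rw [← hw1b]; exact fact4 w1 hw1
  have hw1ne : w1 ≠ 1 := by
    rintro rfl
    rw [one_smul] at hw1b
    exact hb hw1b.symm
  have hw2B : w2 ∉ B b := fun hmem => hw2n ((mB.1 hmem).2 n hn hnb)
  have hw2ne : w2 ≠ 1 := by
    rintro rfl
    exact hw2n (by rw [mul_one, one_mul])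
  set w3 := w1 * w2 with hw3
  have hw3W : w3 ∈ W := mul_mem hw1 hw2
  have hw3B : w3 ∉ B b := by
    intro hmem
    apply hw2B
    have : w2 = w1⁻¹ * w3 := by rw [hw3]; group
    rw [this]
    exact mul_mem (inv_mem hw1B) hmem
  have hw3ne : w3 ≠ 1 := by
    intro e
    rw [e] at hw3B
    exact hw3B (one_mem _)
  have hB2 := fact4 w2 hw2
  have hB3 := fact4 w3 hw3W
  have hu := fact3 _ w2 n hn hB2
  have hu3 := fact3 _ w3 n hn hB3
  have hc2 := hwa w2 hw2 hw2ne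
  have hc3 := hwa w3 hw3W hw3ne
  set v := n * w2 * n⁻¹ * w2⁻¹ with hv
  have hvB2 : v ∈ B (w2 • a) := mul_mem hu (inv_mem hB2)
  have hvW : v ∈ W := (mB.1 hvB2).1
  have hvB3 : v ∈ B (w3 • a) := by
    have h1 : v = (n * w3 * n⁻¹) * w3⁻¹ := by
      have h2 : n * w1 = w1 * n := (mB.1 hw1B).2 n hn hnb
      have h3 : n * w3 * n⁻¹ * w3⁻¹ = w1 * v * w1⁻¹ := by
        rw [hw3, hv]
        calc n * (w1 * w2) * n⁻¹ * (w1 * w2)⁻¹ = (n * w1) * w2 * n⁻¹ * w2⁻¹ * w1⁻¹ := by group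
          _ = w1 * (n * w2 * n⁻¹ * w2⁻¹) * w1⁻¹ := by rw [h2]; group
      rw [h3, hWc w1 hw1 v hvW]
      group
    rw [h1]
    exact mul_mem hu3 (inv_mem hB3)
  by_cases hv1 : v = 1
  · apply hw2n
    have h1 : n * w2 * n⁻¹ = w2 := by
      rw [hv, mul_inv_eq_one] at hv1
      exact hv1
    calc n * w2 = (n * w2 * n⁻¹) * n := by group
      _ = w2 * n := by rw [h1]
  · have h1 := fact2' _ v hc2 hvB2 hv1
    have h2 := fact2' _ v hc3 hvB3 hv1
    have h3 : B (w2 • a) = B (w3 • a) := by rw [h1, h2]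
    have h4 : w1 ∈ B (w2 • a) := by
      have : w1 = w3 * w2⁻¹ := by rw [hw3]; group
      rw [this]
      refine mul_mem ?_ (inv_mem hB2)
      rw [h3]
      exact hB3
    have h5 := fact2' _ w1 hc2 h4 hw1ne
    rw [hw1b] at h5
    rw [h5] at hB2
    exact hw2B hB2

end W

end KS

end Cfsg.Agent.KantorSeitz
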