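import Cfsg.Agent.KantorSeitz.Affine

/-!
# The affine case of the Kantor–Seitz theorem, continued
-/

set_option autoImplicit false
set_option linter.unusedSectionVars false
set_option linter.style.haveILetI false

namespace Cfsg.Agent.KantorSeitz

open Subgroup MulAction

namespace KS

variable {G Ω : Type*} [Group G] [Finite G] [MulAction G Ω] [Finite Ω] [FaithfulSMul G Ω]
  {U : Ω → Subgroup G} {W : Subgroup G}

theorem conj_W_eq (h : KS U) (hWn : W.Normal) (hWc : ∀ x ∈ W, ∀ y ∈ W, x * y = y * x)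
    (hWt : ∀ c d : Ω, ∃ w ∈ W, w • c = d) {a : Ω} {g w w' : G} (hga : g • a = a) (hw : w ∈ W)
    (hw' : w' ∈ W) (hgw : g • w • a = w' • a) : g * w * g⁻¹ = w' := by
  apply W_eq hWc hWt (hWn.conj_mem w hw g) hw' (c := a)
  have hma : g⁻¹ • a = a := by rw [inv_smul_eq_iff, hga]
  rw [mul_smul, hma, mul_smul, hgw]

theorem W_exponent (h : KS U) (hWn : W.Normal) (hWc : ∀ x ∈ W, ∀ y ∈ W, x * y = y * x)
    (hWt : ∀ c d : Ω, ∃ w ∈ W, w • c = d) {a b : Ω} (hab : a ≠ b) :
    ∃ q : ℕ, q.Prime ∧ ∀ w ∈ W, w ^ q = 1 := by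
  obtain ⟨w0, hw0, hw0b⟩ := hWt a b
  have hw0ne : w0 ≠ 1 := by
    rintro rfl
    rw [one_smul] at hw0b
    exact hab hw0b
  obtain ⟨q, hq, m, hm⟩ := Nat.exists_prime_and_dvd (n := orderOf w0) (by
    rwa [Ne, orderOf_eq_one_iff])
  refine ⟨q, hq, fun w hw => ?_⟩
  have hm0 : m ≠ 0 := by
    rintro rfl
    have := orderOf_pos w0
    omega
  have ho : orderOf (w0 ^ m) = q := by
    have hmdvd : m ∣ orderOf w0 := ⟨q, by rw [hm, mul_comm]⟩
    rw [orderOf_pow_of_dvd hm0 hmdvd, hm, Nat.mul_div_cancel _ (Nat.pos_of_ne_zero hm0)]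
  have hwm : w0 ^ m ∈ W := pow_mem hw0 m
  have hwm1 : w0 ^ m ≠ 1 := by
    intro e
    rw [e, orderOf_one] at ho
    exact hq.one_lt.ne ho
  by_cases hw1 : w = 1
  · rw [hw1, one_pow]
  · obtain ⟨u, hu, hux⟩ := h.trans (a := a) (b := (w0 ^ m) • a) (c := w • a)
      (fun e => hwm1 (W_reg hWc hWt hwm e)) (fun e => hw1 (W_reg hWc hWt hw e))
    have h1 := h.conj_W_eq hWn hWc hWt (h.fix hu) hwm hw hux
    rw [← h1, conj_pow, ← ho, pow_orderOf_eq_one, mul_one, mul_inv_cancel]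

/-- For `p` odd the group `X` of a line is trivial in the affine case. -/
theorem X_eq_bot_of_affine (h : KS U) (hWn : W.Normal) (hWc : ∀ x ∈ W, ∀ y ∈ W, x * y = y * x)
    (hWt : ∀ c d : Ω, ∃ w ∈ W, w • c = d) {p : ℕ} [hp : Fact p.Prime] (hp2 : p ≠ 2) {a b : Ω}
    (hab : a ≠ b) : X p U a b = ⊥ := by
  obtain ⟨q, hq, hexp⟩ := h.W_exponent hWn hWc hWt hab
  letI : CommGroup W := { (inferInstance : Group W) with
    mul_comm := fun x y => Subtype.ext (hWc x x.2 y y.2) }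
  let P : Subgroup G := pP p (U a)
  have hfa : ∀ g ∈ P, g • a = a := fun g hg => h.fix (pP_le p _ hg)
  letI act : DistribMulAction P (Additive W) :=
    { smul := fun g w => Additive.ofMul ⟨g.1 * (w.toMul).1 * g.1⁻¹,
        hWn.conj_mem _ (w.toMul).2 g.1⟩
      one_smul := fun w => by
        apply Additive.toMul.injective
        apply Subtype.ext
        change 1 * (w.toMul).1 * 1⁻¹ = (w.toMul).1
        group
      mul_smul := fun x y w => by
        apply Additive.toMul.injective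
        apply Subtype.ext
        change (x.1 * y.1) * (w.toMul).1 * (x.1 * y.1)⁻¹ =
          x.1 * (y.1 * (w.toMul).1 * y.1⁻¹) * x.1⁻¹
        group
      smul_zero := fun x => by
        apply Additive.toMul.injective
        apply Subtype.ext
        change x.1 * 1 * x.1⁻¹ = 1
        group
      smul_add := fun x v w => by
        apply Additive.toMul.injective
        apply Subtype.ext
        change x.1 * ((v.toMul).1 * (w.toMul).1) * x.1⁻¹ =
          (x.1 * (v.toMul).1 * x.1⁻¹) * (x.1 * (w.toMul).1 * x.1⁻¹)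
        group }
  have hsm : ∀ (g : P) (w : Additive W), ((g • w).toMul : G) = g.1 * (w.toMul).1 * g.1⁻¹ :=
    fun _ _ => rfl
  haveI : FaithfulSMul P (Additive W) := ⟨by
    intro x y hxy
    apply Subtype.ext
    have key : ∀ w ∈ W, x.1 * w * x.1⁻¹ = y.1 * w * y.1⁻¹ := by
      intro w hw
      have := hxy (Additive.ofMul ⟨w, hw⟩)
      exact congrArg (fun z : Additive W => ((z.toMul : W) : G)) this
    apply FaithfulSMul.eq_of_smul_eq_smul (α := Ω)
    intro c
    obtain ⟨w, hw, rfl⟩ := hWt a c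
    have hx := hfa x.1 x.2
    have hy := hfa y.1 y.2
    have h1 : x.1 • w • a = (x.1 * w * x.1⁻¹) • a := by
      have hma : x.1⁻¹ • a = a := by rw [inv_smul_eq_iff, hx]
      rw [mul_smul, mul_smul, hma]
    have h2 : y.1 • w • a = (y.1 * w * y.1⁻¹) • a := by
      have hma : y.1⁻¹ • a = a := by rw [inv_smul_eq_iff, hy]
      rw [mul_smul, mul_smul, hma]
    rw [h1, h2, key w hw]⟩
  have hE : ∀ e : Additive W, q • e = 0 := by
    intro e
    apply Additive.toMul.injective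
    apply Subtype.ext
    change ((e.toMul ^ q : W) : G) = 1
    rw [Subgroup.coe_pow]
    exact hexp _ (e.toMul).2
  have hconst : ∀ v w : Additive W, v ≠ 0 → w ≠ 0 →
      Nat.card (MulAction.stabilizer P v) = Nat.card (MulAction.stabilizer P w) := by
    intro v w hv hw
    have hv1 : (v.toMul).1 ≠ 1 := fun e => hv (Additive.toMul.injective (Subtype.ext e))
    have hw1 : (w.toMul).1 ≠ 1 := fun e => hw (Additive.toMul.injective (Subtype.ext e))
    obtain ⟨u, hu, hux⟩ := h.trans (a := a) (b := (v.toMul).1 • a) (c := (w.toMul).1 • a)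
      (fun e => hv1 (W_reg hWc hWt (v.toMul).2 e)) (fun e => hw1 (W_reg hWc hWt (w.toMul).2 e))
    have h1 := h.conj_W_eq hWn hWc hWt (h.fix hu) (v.toMul).2 (w.toMul).2 hux
    have hst : ∀ (g : P) (e : Additive W), g • e = e ↔ g.1 * (e.toMul).1 * g.1⁻¹ = (e.toMul).1 := by
      intro g e
      constructor
      · intro he
        exact congrArg (fun z : Additive W => ((z.toMul : W) : G)) he
      · intro he
        exact Additive.toMul.injective (Subtype.ext he)
    have hui : u⁻¹ • a = a := by rw [inv_smul_eq_iff, h.fix hu]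
    have cP : ∀ g ∈ P, u * g * u⁻¹ ∈ P := fun g hg => h.conj_pP_of_fix (h.fix hu) hg
    have cP' : ∀ g ∈ P, u⁻¹ * g * u ∈ P := fun g hg => by
      have := h.conj_pP_of_fix hui hg
      rwa [inv_inv] at this
    refine Nat.card_congr ⟨fun g => ⟨⟨u * g.1.1 * u⁻¹, cP _ g.1.2⟩, ?_⟩,
      fun g => ⟨⟨u⁻¹ * g.1.1 * u, cP' _ g.1.2⟩, ?_⟩, ?_, ?_⟩
    · rw [mem_stabilizer_iff, hst]
      have h2 := (hst g.1 v).1 g.2
      change (u * g.1.1 * u⁻¹) * (w.toMul).1 * (u * g.1.1 * u⁻¹)⁻¹ = (w.toMul).1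
      rw [← h1]
      calc (u * g.1.1 * u⁻¹) * (u * (v.toMul).1 * u⁻¹) * (u * g.1.1 * u⁻¹)⁻¹
          = u * (g.1.1 * (v.toMul).1 * g.1.1⁻¹) * u⁻¹ := by group
        _ = u * (v.toMul).1 * u⁻¹ := by rw [h2]
    · rw [mem_stabilizer_iff, hst]
      have h2 := (hst g.1 w).1 g.2
      change (u⁻¹ * g.1.1 * u) * (v.toMul).1 * (u⁻¹ * g.1.1 * u)⁻¹ = (v.toMul).1
      rw [← h1] at h2
      calc (u⁻¹ * g.1.1 * u) * (v.toMul).1 * (u⁻¹ * g.1.1 * u)⁻¹
          = u⁻¹ * (g.1.1 * (u * (v.toMul).1 * u⁻¹) * g.1.1⁻¹) * u := by group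
        _ = u⁻¹ * (u * (v.toMul).1 * u⁻¹) * u := by rw [h2]
        _ = (v.toMul).1 := by group
    · intro g
      apply Subtype.ext
      apply Subtype.ext
      change u⁻¹ * (u * g.1.1 * u⁻¹) * u = g.1.1
      group
    · intro g
      apply Subtype.ext
      apply Subtype.ext
      change u * (u⁻¹ * g.1.1 * u) * u⁻¹ = g.1.1
      group
  have hmain := Cfsg.Agent.S1160.result (P := P) (E := Additive W) hp2 (isPGroup_pP (h.nil a)) hq hE
    hconst
  rw [eq_bot_iff_forall]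
  intro x hx
  by_contra hx1
  obtain ⟨w, hw, hwb⟩ := hWt a b
  have h1 := hmain.2 ⟨x, hx.1⟩ (fun e => hx1 (congrArg Subtype.val e)) (Additive.ofMul ⟨w, hw⟩) (by
    apply Additive.toMul.injective
    apply Subtype.ext
    change x * w * x⁻¹ = w
    apply h.conj_W_eq hWn hWc hWt (hfa x hx.1) hw hw
    rw [hwb]
    exact hx.2)
  have h2 : w = 1 := congrArg (fun z : Additive W => ((z.toMul : W) : G)) h1
  rw [h2, one_smul] at hwb
  exact hab hwb

/-- An abelian normal subgroup of `U a` is cyclic in the affine case. -/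
theorem isCyclic_of_affine (h : KS U) (hWn : W.Normal) (hWc : ∀ x ∈ W, ∀ y ∈ W, x * y = y * x)
    (hWt : ∀ c d : Ω, ∃ w ∈ W, w • c = d) {a b : Ω} (hab : a ≠ b) {N : Subgroup G} (hN : N ≤ U a)
    (hNc : ∀ x ∈ N, ∀ y ∈ N, x * y = y * x) (hNn : ∀ u ∈ U a, ∀ n ∈ N, u * n * u⁻¹ ∈ N) :
    IsCyclic N := by
  haveI : Nontrivial W := by
    obtain ⟨w, hw, hwb⟩ := hWt a b
    refine ⟨⟨w, hw⟩, 1, fun e => ?_⟩
    have h2 : w = 1 := congrArg Subtype.val e
    rw [h2, one_smul] at hwb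
    exact hab hwb
  let φ : N →* MulAut W := (MulAut.conjNormal (H := W)).comp N.subtype
  refine Cfsg.Agent.Solvable.FpfCyclic.isCyclic_of_fpf_comm (A := N) (V := W)
    (fun x y => Subtype.ext (hNc x x.2 y y.2)) (fun x y => Subtype.ext (hWc x x.2 y y.2)) φ ?_
  intro n hn1 w hw
  have h1 : n.1 * w.1 * n.1⁻¹ = w.1 := by
    have := congrArg Subtype.val hw
    rwa [MonoidHom.comp_apply, MulAut.conjNormal_apply] at this
  by_contra hw1
  have hw1' : w.1 ≠ 1 := fun e => hw1 (Subtype.ext e)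
  apply hn1
  apply Subtype.ext
  apply h.semireg_abelian hWn hWc hWt hN hNc hNn (b := w.1 • a)
    (fun e => hw1' (W_reg hWc hWt w.2 e)) n.2
  have hna := h.fix (hN n.2)
  calc n.1 • w.1 • a = n.1 • w.1 • n.1⁻¹ • a := by
        have hma : n.1⁻¹ • a = a := by rw [inv_smul_eq_iff, hna]
        rw [hma]
    _ = (n.1 * w.1 * n.1⁻¹) • a := by rw [mul_smul, mul_smul]
    _ = w.1 • a := by rw [h1]

end KS

end Cfsg.Agent.KantorSeitz
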