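import Cfsg.Agent.KantorSeitz.Affine2

/-!
# The affine case of the Kantor–Seitz theorem: `p = 2`
-/

set_option autoImplicit false
set_option linter.unusedSectionVars false
set_option linter.style.haveILetI false

namespace Cfsg.Agent.KantorSeitz

open Subgroup MulAction

namespace KS

variable {G Ω : Type*} [Group G] [Finite G] [MulAction G Ω] [Finite Ω] [FaithfulSMul G Ω]
  {U : Ω → Subgroup G} {W : Subgroup G}

theorem normal_of_pP {p : ℕ} [Fact p.Prime] (h : KS U) {a : Ω} {N : Subgroup G}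
    (hN : N ≤ pP p (U a)) (hNn : ∀ u ∈ pP p (U a), ∀ n ∈ N, u * n * u⁻¹ ∈ N) :
    ∀ u ∈ U a, ∀ n ∈ N, u * n * u⁻¹ ∈ N := by
  intro u hu n hn
  obtain ⟨y, hy, z, hz, rfl, -, -⟩ := exists_mul_parts (p := p) hu
  have h1 := commute_parts (h.nil a) (hN hn) hz
  have h2 : y * z * n * (y * z)⁻¹ = y * n * y⁻¹ := by
    calc y * z * n * (y * z)⁻¹ = y * (z * n) * z⁻¹ * y⁻¹ := by group
      _ = y * n * y⁻¹ := by rw [← h1]; group
  rw [h2]
  exact hNn y hy n hn

theorem affine_concl_two (h : KS U) (hWn : W.Normal) (hWc : ∀ x ∈ W, ∀ y ∈ W, x * y = y * x)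
    (hWt : ∀ c d : Ω, ∃ w ∈ W, w • c = d) {a b : Ω} (hab : a ≠ b) (hX : X 2 U a b ≠ ⊥) :
    Concl U a b := by
  haveI : Fact (Nat.Prime 2) := ⟨Nat.prime_two⟩
  set P : Subgroup G := pP 2 (U a) with hP
  have hPp : IsPGroup 2 P := isPGroup_pP (h.nil a)
  have hcyc : ∀ A : Subgroup P, A.Normal → IsMulCommutative A → IsCyclic A := by
    intro A hA hAc
    have hN1 : A.map P.subtype ≤ U a := by
      rintro _ ⟨x, -, rfl⟩
      exact pP_le 2 _ x.2
    have h1 := h.isCyclic_of_affine hWn hWc hWt hab (N := A.map P.subtype) hN1 (by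
      rintro _ ⟨x, hx, rfl⟩ _ ⟨y, hy, rfl⟩
      have := hAc.is_comm.comm ⟨x, hx⟩ ⟨y, hy⟩
      exact congrArg (fun z : A => ((z : P) : G)) this) (h.normal_of_pP (p := 2) (by
        rintro _ ⟨x, -, rfl⟩
        exact x.2) (by
        rintro u hu _ ⟨x, hx, rfl⟩
        exact ⟨⟨u, hu⟩ * x * ⟨u, hu⟩⁻¹, hA.conj_mem x hx ⟨u, hu⟩, rfl⟩))
    exact isCyclic_of_injective (A.equivMapOfInjective P.subtype P.subtype_injective).toMonoidHom
      (A.equivMapOfInjective P.subtype P.subtype_injective).injective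
  have hPsemi : ∀ N : Subgroup G, N ≤ P → (∀ x ∈ N, ∀ y ∈ N, x * y = y * x) →
      (∀ u ∈ P, ∀ n ∈ N, u * n * u⁻¹ ∈ N) → ∀ n ∈ N, n • b = b → n = 1 := by
    intro N hN hNc hNn n hn hnb
    exact h.semireg_abelian hWn hWc hWt (hN.trans (pP_le 2 _)) hNc (h.normal_of_pP (p := 2) hN hNn)
      hab.symm hn hnb
  obtain ⟨x0, hx0, hx01⟩ : ∃ x ∈ X 2 U a b, x ≠ 1 := by
    by_contra hcon
    push Not at hcon
    exact hX ((eq_bot_iff_forall _).2 hcon)
  have hx0P : x0 ∈ P := hx0.1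
  have hx0b : x0 • b = b := hx0.2
  rcases Cfsg.Agent.Classification.NormalCyclic.exists_cyclic_index_two hPp hcyc with hPc | ⟨A, hAc, hA2⟩
  · exfalso
    apply hx01
    refine hPsemi P le_rfl ?_ (fun u hu n hn => mul_mem (mul_mem hu hn) (inv_mem hu)) x0 hx0P hx0b
    intro x hx y hy
    letI := IsCyclic.commGroup (α := P)
    exact congrArg Subtype.val (mul_comm (⟨x, hx⟩ : P) ⟨y, hy⟩)
  -- the cyclic subgroup of index `2`
  obtain ⟨⟨c, hcA⟩, hgen⟩ := hAc.exists_generator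
  have hAn : A.Normal := Subgroup.normal_of_index_eq_two hA2
  set C : Subgroup G := A.map P.subtype with hC
  have mC : ∀ {x : G} (hx : x ∈ P), x ∈ C ↔ (⟨x, hx⟩ : P) ∈ A := by
    intro x hx
    constructor
    · rintro ⟨y, hy, rfl⟩
      exact hy
    · intro hxA
      exact ⟨⟨x, hx⟩, hxA, rfl⟩
  have hCP : C ≤ P := by
    rintro _ ⟨y, -, rfl⟩
    exact y.2
  have hcC : (c : G) ∈ C := ⟨c, hcA, rfl⟩
  have hCgen : ∀ x ∈ C, ∃ k : ℤ, (c : G) ^ k = x := by
    rintro _ ⟨y, hy, rfl⟩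
    obtain ⟨k, hk⟩ := mem_zpowers_iff.1 (hgen ⟨y, hy⟩)
    refine ⟨k, ?_⟩
    exact congrArg (fun z : A => ((z : P) : G)) hk
  have hCc : ∀ x ∈ C, ∀ y ∈ C, x * y = y * x := by
    intro x hx y hy
    obtain ⟨k, rfl⟩ := hCgen x hx
    obtain ⟨l, rfl⟩ := hCgen y hy
    rw [← zpow_add, ← zpow_add, add_comm]
  have hCn : ∀ u ∈ P, ∀ n ∈ C, u * n * u⁻¹ ∈ C := by
    rintro u hu _ ⟨x, hx, rfl⟩
    exact ⟨⟨u, hu⟩ * x * ⟨u, hu⟩⁻¹, hAn.conj_mem x hx ⟨u, hu⟩, rfl⟩
  have hCsemi : ∀ x ∈ C, x • b = b → x = 1 := hPsemi C hCP hCc hCn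
  have htwo : ∀ x ∈ P, ∀ y ∈ P, x ∉ C → y ∉ C → x * y ∈ C := by
    intro x hx y hy hxC hyC
    rw [mC hx] at hxC
    rw [mC hy] at hyC
    rw [mC (mul_mem hx hy)]
    have := Subgroup.mul_mem_iff_of_index_two hA2 (a := ⟨x, hx⟩) (b := ⟨y, hy⟩)
    exact this.2 (by tauto)
  have hx0C : x0 ∉ C := fun e => hx01 (hCsemi x0 e hx0b)
  have hstab : ∀ x y : G, x • b = b → y • b = b → (x * y) • b = b := by
    intro x y hx hy
    rw [mul_smul, hy, hx]
  have hx0x0 : x0 * x0 = 1 := hCsemi _ (htwo x0 hx0P x0 hx0P hx0C hx0C) (hstab _ _ hx0b hx0b)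
  have hx0i : x0⁻¹ = x0 := inv_eq_of_mul_eq_one_left hx0x0
  have hXeq : ∀ x ∈ X 2 U a b, x = 1 ∨ x = x0 := by
    intro x hx
    by_cases hx1 : x = 1
    · exact Or.inl hx1
    · right
      have hxC : x ∉ C := fun e => hx1 (hCsemi x e hx.2)
      have h1 : x * x0 = 1 := hCsemi _ (htwo x hx.1 x0 hx0P hxC hx0C) (hstab _ _ hx.2 hx0b)
      rw [mul_eq_one_iff_eq_inv, hx0i] at h1
      exact h1
  -- `C` is invariant under the stabiliser of `a`
  have hconj : ∀ g : G, g • a = a → ∀ x ∈ P, g * x * g⁻¹ ∈ P := fun g hg x hx =>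
    h.conj_pP_of_fix hg hx
  have hCinv : ∀ g : G, g • a = a → ∀ x ∈ C, g * x * g⁻¹ ∈ C := by
    intro g hg
    have hcP : (c : G) ∈ P := hCP hcC
    suffices hsuf : g * (c : G) * g⁻¹ ∈ C by
      intro x hx
      obtain ⟨k, rfl⟩ := hCgen x hx
      rw [← conj_zpow]
      exact zpow_mem hsuf k
    by_contra hd
    set d := g * (c : G) * g⁻¹ with hdd
    have hdP : d ∈ P := hconj g hg _ hcP
    -- `c ^ 2` commutes with `d`
    have hgi : g⁻¹ • a = a := by rw [inv_smul_eq_iff, hg]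
    have hc2 : ∃ k : ℤ, d ^ k = (c : G) * c := by
      -- `g⁻¹ c g ∉ C` or in `C`; in both cases its square lies in `C`
      have h1 : g⁻¹ * (c : G) * g ∈ P := by
        have := hconj g⁻¹ hgi _ hcP
        rwa [inv_inv] at this
      have h2 : (g⁻¹ * (c : G) * g) * (g⁻¹ * (c : G) * g) ∈ C := by
        by_cases h3 : g⁻¹ * (c : G) * g ∈ C
        · exact mul_mem h3 h3
        · exact htwo _ h1 _ h1 h3 h3
      obtain ⟨k, hk⟩ := hCgen _ h2
      refine ⟨k, ?_⟩
      rw [hdd, conj_zpow, hk]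
      group
    have hc2d : (c : G) * c * d = d * ((c : G) * c) := by
      obtain ⟨k, hk⟩ := hc2
      rw [← hk, ← zpow_add_one, ← zpow_one_add, add_comm]
    -- hence with `x0`
    have hc2x0 : x0 * ((c : G) * c) = (c : G) * c * x0 := by
      have h1 : x0 * d⁻¹ ∈ C := by
        refine htwo x0 hx0P d⁻¹ (inv_mem hdP) hx0C ?_
        intro h2
        exact hd (by simpa using inv_mem h2)
      have h2 := hCc _ h1 _ (mul_mem hcC hcC)
      have h3 : d⁻¹ * ((c : G) * c) = (c : G) * c * d⁻¹ := by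
        calc d⁻¹ * ((c : G) * c) = d⁻¹ * (((c : G) * c) * d) * d⁻¹ := by group
          _ = (c : G) * c * d⁻¹ := by rw [hc2d]; group
      calc x0 * ((c : G) * c) = (x0 * d⁻¹) * (d * ((c : G) * c)) := by group
        _ = (x0 * d⁻¹) * ((c : G) * c) * d := by rw [← hc2d]; group
        _ = (c : G) * c * x0 := by rw [h2]; group
    set w := x0 * (c : G) * x0⁻¹ * (c : G)⁻¹ with hw
    have hwC : w ∈ C := mul_mem (hCn x0 hx0P _ hcC) (inv_mem hcC)
    have hwc : w * (c : G) = (c : G) * w := hCc _ hwC _ hcC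
    have hxcx : x0 * (c : G) * x0⁻¹ = w * c := by rw [hw]; group
    have hww : w * w = 1 := by
      have h1 : (w * (c : G)) * (w * c) = (c : G) * c := by
        rw [← hxcx]
        calc x0 * (c : G) * x0⁻¹ * (x0 * (c : G) * x0⁻¹) = x0 * ((c : G) * c) * x0⁻¹ := by group
          _ = (c : G) * c := by rw [hc2x0]; group
      have h2 : (w * (c : G)) * (w * c) = (w * w) * ((c : G) * c) := by
        calc (w * (c : G)) * (w * c) = w * ((c : G) * w) * c := by group
          _ = (w * w) * ((c : G) * c) := by rw [← hwc]; group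
      rw [h2] at h1
      exact mul_eq_right.1 h1
    have hwi : w⁻¹ = w := inv_eq_of_mul_eq_one_left hww
    have hx0w : x0 * w = w * x0 := by
      have h1 : x0 * w * x0⁻¹ = w⁻¹ := by
        rw [hw]
        calc x0 * (x0 * (c : G) * x0⁻¹ * (c : G)⁻¹) * x0⁻¹
            = (x0 * x0) * (c : G) * (x0⁻¹ * (c : G)⁻¹ * x0⁻¹) := by group
          _ = (c : G) * (x0 * (c : G)⁻¹ * x0⁻¹) := by rw [hx0x0, hx0i]; group
          _ = (x0 * (c : G) * x0⁻¹ * (c : G)⁻¹)⁻¹ := by group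
      rw [hwi] at h1
      calc x0 * w = (x0 * w * x0⁻¹) * x0 := by group
        _ = w * x0 := by rw [h1]
    -- the fours group
    let N : Subgroup G :=
      { carrier := {y | y = 1 ∨ y = x0 ∨ y = w ∨ y = w * x0}
        one_mem' := Or.inl rfl
        mul_mem' := by
          have e1 : x0 * (w * x0) = w := by rw [← mul_assoc, hx0w, mul_assoc, hx0x0, mul_one]
          have e2 : w * (w * x0) = x0 := by rw [← mul_assoc, hww, one_mul]
          have e3 : w * x0 * x0 = w := by rw [mul_assoc, hx0x0, mul_one]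
          have e4 : w * x0 * w = x0 := by rw [mul_assoc, hx0w, e2]
          have e5 : w * x0 * (w * x0) = 1 := by rw [mul_assoc, e1, hww]
          rintro y z (rfl | rfl | rfl | rfl) (rfl | rfl | rfl | rfl) <;>
            simp only [Set.mem_ofPred_eq, one_mul, mul_one, hx0x0, hww, hx0w, e1, e2, e3, e4, e5,
              true_or, or_true]
        inv_mem' := by
          rintro y (rfl | rfl | rfl | rfl)
          · left; simp
          · right; left; exact hx0i
          · right; right; left; exact hwi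
          · right; right; right; rw [mul_inv_rev, hx0i, hwi, hx0w] }
    have mN : ∀ y, y ∈ N ↔ (y = 1 ∨ y = x0 ∨ y = w ∨ y = w * x0) := fun y => Iff.rfl
    have hNP : N ≤ P := by
      intro y hy
      rcases (mN y).1 hy with rfl | rfl | rfl | rfl
      · exact one_mem _
      · exact hx0P
      · exact hCP hwC
      · exact mul_mem (hCP hwC) hx0P
    have hNc : ∀ x ∈ N, ∀ y ∈ N, x * y = y * x := by
      intro y hy z hz
      have e1 : Commute x0 w := hx0w
      have key : ∀ y, y ∈ N → Commute y x0 ∧ Commute y w := by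
        intro y hy
        rcases (mN y).1 hy with rfl | rfl | rfl | rfl
        · exact ⟨Commute.one_left _, Commute.one_left _⟩
        · exact ⟨Commute.refl _, e1⟩
        · exact ⟨e1.symm, Commute.refl _⟩
        · exact ⟨e1.symm.mul_left (Commute.refl _), (Commute.refl _).mul_left e1⟩
      obtain ⟨k1, k2⟩ := key y hy
      rcases (mN z).1 hz with rfl | rfl | rfl | rfl
      · rw [mul_one, one_mul]
      · exact k1.eq
      · exact k2.eq
      · exact (k2.mul_right k1).eq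
    -- the normaliser of `N`
    have hcx0 : (c : G) * x0 * (c : G)⁻¹ = w * x0 := by
      have h1 : (c : G) * x0 * (c : G)⁻¹ = w⁻¹ * x0 := by
        rw [hw]; group
      rw [h1, hwi]
    have hnc : ∀ n ∈ N, (c : G) * n * (c : G)⁻¹ ∈ N := by
      have hcw : (c : G) * w * (c : G)⁻¹ = w := by rw [← hwc]; group
      intro n hn
      rcases (mN n).1 hn with rfl | rfl | rfl | rfl
      · rw [mul_one, mul_inv_cancel]; exact one_mem _
      · rw [hcx0]; exact Or.inr (Or.inr (Or.inr rfl))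
      · rw [hcw]; exact hn
      · have : (c : G) * (w * x0) * (c : G)⁻¹ = x0 := by
          calc (c : G) * (w * x0) * (c : G)⁻¹
              = ((c : G) * w * (c : G)⁻¹) * ((c : G) * x0 * (c : G)⁻¹) := by group
            _ = w * (w * x0) := by rw [hcw, hcx0]
            _ = x0 := by rw [← mul_assoc, hww, one_mul]
        rw [this]
        exact Or.inr (Or.inl rfl)
    have hncz : ∀ y ∈ C, ∀ n ∈ N, y * n * y⁻¹ ∈ N := by
      have hcn : (c : G) ∈ normalizer (N : Set G) := by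
        have hfin : (N : Set G).Finite := Set.toFinite _
        rw [mem_normalizer_iff]
        intro n
        refine ⟨hnc n, fun hn => ?_⟩
        have hsub : (fun e => (c : G) * e * (c : G)⁻¹) '' (N : Set G) ⊆ N := by
          rintro _ ⟨f, hf, rfl⟩
          exact hnc f hf
        have hinj : Function.Injective (fun e => (c : G) * e * (c : G)⁻¹) :=
          (MulAut.conj (c : G)).injective
        have heq : (fun e => (c : G) * e * (c : G)⁻¹) '' (N : Set G) = N :=
          Set.eq_of_subset_of_ncard_le hsub (by rw [Set.ncard_image_of_injective _ hinj]) hfin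
        have : (c : G) * n * (c : G)⁻¹ ∈ (fun e => (c : G) * e * (c : G)⁻¹) '' (N : Set G) := by
          rw [heq]; exact hn
        obtain ⟨f, hf, hfe⟩ := this
        have := hinj hfe
        rwa [this] at hf
      intro y hy n hn
      obtain ⟨k, rfl⟩ := hCgen y hy
      exact (mem_normalizer_iff.1 (zpow_mem hcn k) n).1 hn
    have hNn : ∀ u ∈ P, ∀ n ∈ N, u * n * u⁻¹ ∈ N := by
      intro u hu n hn
      by_cases huC : u ∈ C
      · exact hncz u huC n hn
      · have h1 : u * x0 ∈ C := htwo u hu x0 hx0P huC hx0C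
        have h2 : x0⁻¹ * n * x0⁻¹⁻¹ ∈ N := by
          have hx0N : x0 ∈ N := Or.inr (Or.inl rfl)
          exact mul_mem (mul_mem (inv_mem hx0N) hn) (inv_mem (inv_mem hx0N))
        have h3 := hncz _ h1 _ h2
        have h4 : u * x0 * (x0⁻¹ * n * x0⁻¹⁻¹) * (u * x0)⁻¹ = u * n * u⁻¹ := by group
        rwa [h4] at h3
    exact hx01 (hPsemi N hNP hNc hNn x0 (Or.inr (Or.inl rfl)) hx0b)
  -- conclusion
  right
  refine ⟨⟨x0, fun x hx hxb => hXeq x (h.mem_X_of_mem_U hab hX hab hx hxb)⟩, ?_⟩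
  have hcomm : ∀ y ∈ C, ∀ r ∈ pR 2 (U a), y * r = r * y := fun y hy r hr =>
    commute_parts (h.nil a) (hCP hy) hr
  let V : Subgroup G :=
    { carrier := {g | ∃ y ∈ C, ∃ r ∈ pR 2 (U a), g = y * r}
      one_mem' := ⟨1, one_mem _, 1, one_mem _, (mul_one 1).symm⟩
      mul_mem' := by
        rintro _ _ ⟨y, hy, r, hr, rfl⟩ ⟨y', hy', r', hr', rfl⟩
        refine ⟨y * y', mul_mem hy hy', r * r', mul_mem hr hr', ?_⟩
        calc y * r * (y' * r') = y * (r * y') * r' := by group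
          _ = y * y' * (r * r') := by rw [← hcomm y' hy' r hr]; group
      inv_mem' := by
        rintro _ ⟨y, hy, r, hr, rfl⟩
        refine ⟨y⁻¹, inv_mem hy, r⁻¹, inv_mem hr, ?_⟩
        rw [mul_inv_rev, hcomm _ (inv_mem hy) _ (inv_mem hr)] }
  refine ⟨V, ?_, ?_, ?_, ?_⟩
  · rintro _ ⟨y, hy, r, hr, rfl⟩
    exact mul_mem (pP_le 2 _ (hCP hy)) (pR_le 2 _ hr)
  · rintro g hg _ ⟨y, hy, r, hr, rfl⟩
    refine ⟨g * y * g⁻¹, hCinv g hg y hy, g * r * g⁻¹, h.conj_pR_of_fix hg hr, ?_⟩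
    group
  · rintro _ ⟨y, hy, r, hr, rfl⟩ hvb
    have h1 : y * r ∈ X 2 U a b := h.mem_X_of_mem_U hab hX hab
      (mul_mem (pP_le 2 _ (hCP hy)) (pR_le 2 _ hr)) hvb
    have h2 : r ∈ P := by
      have h3 := mul_mem (inv_mem (hCP hy)) h1.1
      rwa [inv_mul_cancel_left] at h3
    have h3 : r = 1 := by
      obtain ⟨k, hk⟩ := ((mem_pP (h.nil a)).1 h2).2
      have h4 := ((mem_pR (h.nil a)).1 hr).2
      have h5 := orderOf_dvd_of_pow_eq_one hk
      exact orderOf_eq_one_iff.1 (Nat.Coprime.eq_one_of_dvd (Nat.Coprime.pow_right k h4) h5)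
    rw [h3, mul_one] at hvb ⊢
    exact hCsemi y hy hvb
  · intro u hu
    obtain ⟨y, hy, r, hr, rfl, -, -⟩ := exists_mul_parts (p := 2) hu
    by_cases hyC : y ∈ C
    · exact ⟨y * r, ⟨y, hyC, r, hr, rfl⟩, 1, one_mem _, one_smul G b, (mul_one _).symm⟩
    · refine ⟨y * x0 * r, ⟨y * x0, htwo y hy x0 hx0P hyC hx0C, r, hr, rfl⟩, x0, pP_le 2 _ hx0P, hx0b, ?_⟩
      have h1 := commute_parts (h.nil a) hx0P hr
      calc y * r = y * (x0 * x0) * r := by rw [hx0x0, mul_one]
        _ = y * x0 * (x0 * r) := by group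
        _ = y * x0 * r * x0 := by rw [h1]; group

/-- The affine case of the Kantor–Seitz theorem. -/
theorem affine_concl (h : KS U) (hWn : W.Normal) (hWc : ∀ x ∈ W, ∀ y ∈ W, x * y = y * x)
    (hWt : ∀ c d : Ω, ∃ w ∈ W, w • c = d) {a b : Ω} (hab : a ≠ b) : Concl U a b := by
  by_cases hall : ∀ x ∈ U a, x • b = b → x = 1
  · exact Or.inl hall
  · push Not at hall
    obtain ⟨x, hx, hxb, hx1⟩ := hall
    obtain ⟨p, hp, hXp⟩ := exists_X_ne_bot hx hxb hx1
    haveI : Fact p.Prime := ⟨hp⟩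
    by_cases hp2 : p = 2
    · subst hp2
      exact h.affine_concl_two hWn hWc hWt hab hXp
    · exact absurd (h.X_eq_bot_of_affine hWn hWc hWt hp2 hab) hXp

/-- The affine case of the Kantor–Seitz theorem in odd characteristic. -/
theorem affine_odd (h : KS U) (hWn : W.Normal) (hWc : ∀ x ∈ W, ∀ y ∈ W, x * y = y * x)
    (hWt : ∀ c d : Ω, ∃ w ∈ W, w • c = d) {a b : Ω} (hab : a ≠ b) (hodd : Odd (Nat.card (U a))) :
    ∀ x ∈ U a, x • b = b → x = 1 := by
  intro x hx hxb
  by_contra hx1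
  obtain ⟨p, hp, hXp⟩ := exists_X_ne_bot hx hxb hx1
  haveI : Fact p.Prime := ⟨hp⟩
  by_cases hp2 : p = 2
  · subst hp2
    apply hXp
    rw [eq_bot_iff_forall]
    intro y hy
    obtain ⟨k, hk⟩ := ((mem_pP (h.nil a)).1 hy.1).2
    have h1 := orderOf_dvd_of_pow_eq_one hk
    have h2 : orderOf y ∣ Nat.card (U a) := by
      have := orderOf_dvd_natCard (⟨y, pP_le 2 _ hy.1⟩ : U a)
      rwa [Subgroup.orderOf_mk] at this
    have h3 : (orderOf y).Coprime (2 ^ k) := by
      refine Nat.Coprime.pow_right k ?_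
      exact Nat.coprime_two_right.2 (Odd.of_dvd_nat hodd h2)
    exact orderOf_eq_one_iff.1 (Nat.Coprime.eq_one_of_dvd h3 h1)
  · exact hXp (h.X_eq_bot_of_affine hWn hWc hWt hp2 hab)

end KS

end Cfsg.Agent.KantorSeitz
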