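import Cfsg.Agent.KantorSeitz.Dilat

/-!
# Even degree: lifting from the group of a line; affine lines and lines of Ree type
-/

set_option autoImplicit false
set_option linter.unusedSectionVars false
set_option linter.style.haveILetI false

namespace Cfsg.Agent.KantorSeitz

open Subgroup MulAction
open scoped commutatorElement

theorem card_coprime_of_orderOf {G : Type*} [Group G] [Finite G] {p : ℕ} [hp : Fact p.Prime]
    {E : Subgroup G} (hE : ∀ x ∈ E, (orderOf x).Coprime p) : (Nat.card E).Coprime p := by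
  rw [Nat.coprime_comm, Nat.Prime.coprime_iff_not_dvd hp.out]
  intro h
  obtain ⟨⟨x, hx⟩, hx'⟩ := exists_prime_orderOf_dvd_card' p h
  have h1 := hE x hx
  rw [Subgroup.orderOf_mk] at hx'
  rw [hx', Nat.coprime_self] at h1
  exact hp.out.one_lt.ne' h1

namespace KS

section Lift

universe v

variable {G Ω : Type v} [Group G] [Finite G] [MulAction G Ω] [Finite Ω] [FaithfulSMul G Ω]
  {U : Ω → Subgroup G} {p : ℕ} [hp : Fact p.Prime] {a b : Ω}
  {H : Type v} [Group H] [Finite H] [MulAction H (L p U a b)] [FaithfulSMul H (L p U a b)]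
  {π : setStab (G := G) (L p U a b) →* H}

theorem pi_eq_one_iff
    (hsm : ∀ (g : setStab (G := G) (L p U a b)) (c : L p U a b), ((π g • c : L p U a b) : Ω) = g.1 • c.1)
    {g : setStab (G := G) (L p U a b)} : π g = 1 ↔ ∀ c ∈ L p U a b, g.1 • c = c := by
  constructor
  · intro hg c hc
    have := hsm g ⟨c, hc⟩
    rw [hg, one_smul] at this
    exact this.symm
  · intro hg
    apply FaithfulSMul.eq_of_smul_eq_smul (α := L p U a b)
    intro c
    apply Subtype.ext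
    rw [hsm, one_smul, hg c.1 c.2]

theorem pi_eq_iff
    (hsm : ∀ (g : setStab (G := G) (L p U a b)) (c : L p U a b), ((π g • c : L p U a b) : Ω) = g.1 • c.1)
    {g k : setStab (G := G) (L p U a b)} : π g = π k ↔ ∀ c ∈ L p U a b, g.1 • c = k.1 • c := by
  constructor
  · intro hg c hc
    have h1 := hsm g ⟨c, hc⟩
    rw [hg, hsm] at h1
    exact h1.symm
  · intro hg
    apply FaithfulSMul.eq_of_smul_eq_smul (α := L p U a b)
    intro c
    apply Subtype.ext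
    rw [hsm, hsm, hg c.1 c.2]

/-- lifting of a `p'`-subgroup of the image of `AL` -/
theorem exists_lift_group (h : KS U) (hab : a ≠ b)
    (hsm : ∀ (g : setStab (G := G) (L p U a b)) (c : L p U a b), ((π g • c : L p U a b) : Ω) = g.1 • c.1)
    {T : Subgroup H} (hT : (Nat.card T).Coprime p)
    (hTM : ∀ τ ∈ T, ∃ x : G, ∃ hx : x ∈ setStab (L p U a b), x ∈ AL p U a b ∧ π ⟨x, hx⟩ = τ) :
    ∃ S : Subgroup G, S ≤ AL p U a b ∧
      (∀ (x : G) (hx : x ∈ setStab (L p U a b)),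
        x ∈ S ↔ x ∈ AL p U a b ∧ π ⟨x, hx⟩ ∈ T ∧ (orderOf x).Coprime p) ∧
      ∀ τ ∈ T, ∃ s : G, ∃ hs : s ∈ setStab (L p U a b), s ∈ S ∧ π ⟨s, hs⟩ = τ := by
  let N : Subgroup G := setStab (L p U a b)
  let B : Subgroup G := AL p U a b ⊓ (T.comap π).map N.subtype
  have mB : ∀ (x : G) (hx : x ∈ N), x ∈ B ↔ x ∈ AL p U a b ∧ π ⟨x, hx⟩ ∈ T := by
    intro x hx
    constructor
    · rintro ⟨h1, y, hy, rfl⟩
      exact ⟨h1, hy⟩
    · rintro ⟨h1, h2⟩
      exact ⟨h1, ⟨x, hx⟩, h2, rfl⟩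
  have hBN : ∀ x ∈ B, x ∈ N := fun x hx => h.AL_le_setStab hab hx.1
  obtain ⟨S, hSB, hS, hSd⟩ := h.exists_lift_AL hab (B := B) inf_le_left (by
    intro x hx
    refine ⟨Nat.card T, hT, ?_⟩
    have h1 := ((mB x (hBN x hx)).1 hx).2
    have h2 : (π ⟨x, hBN x hx⟩) ^ Nat.card T = 1 := by
      have := pow_card_eq_one' (x := (⟨π ⟨x, hBN x hx⟩, h1⟩ : T))
      exact congrArg Subtype.val this
    rw [← map_pow, pi_eq_one_iff hsm] at h2
    exact h2)
  refine ⟨S, hSB.trans inf_le_left, fun x hx => ?_, fun τ hτ => ?_⟩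
  · rw [hS, mB x hx, and_assoc]
  · obtain ⟨x, hx, hxA, rfl⟩ := hTM τ hτ
    obtain ⟨s, hs, hsx⟩ := hSd x ((mB x hx).2 ⟨hxA, hτ⟩)
    refine ⟨s, hBN s (hSB hs), hs, ?_⟩
    rw [pi_eq_iff hsm]
    exact hsx

/-- the image of `AL` is a nontrivial normal subgroup -/
theorem mem_image_AL (h : KS U) (hab : a ≠ b) (hX : X p U a b ≠ ⊥) (hπ : Function.Surjective π)
    (hsm : ∀ (g : setStab (G := G) (L p U a b)) (c : L p U a b), ((π g • c : L p U a b) : Ω) = g.1 • c.1)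
    {τ : H} (hτ : ∀ M : Subgroup H, M.Normal → M ≠ ⊥ → τ ∈ M) :
    ∃ x : G, ∃ hx : x ∈ setStab (L p U a b), x ∈ AL p U a b ∧ π ⟨x, hx⟩ = τ := by
  let N : Subgroup G := setStab (L p U a b)
  have h1 := hτ (((AL p U a b).subgroupOf N).map π) ⟨by
    rintro _ ⟨x, hx, rfl⟩ k
    obtain ⟨g, rfl⟩ := hπ k
    refine ⟨g * x * g⁻¹, ?_, by rw [map_mul, map_mul, map_inv]⟩
    exact h.AL_conj g.2 hx⟩ (by
    intro hbot
    obtain ⟨z, hz, hz1⟩ : ∃ z ∈ Z p U a, z ≠ 1 := by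
      have h1 := Z_ne_bot (p := p) (h.nil a) (pP_ne_bot_of_X hX)
      by_contra hcon
      push Not at hcon
      exact h1 ((eq_bot_iff_forall _).2 hcon)
    have hzA : z ∈ AL p U a b := Z_le_AL (h.left_mem_L a b) hz
    have hzN : z ∈ N := h.AL_le_setStab hab hzA
    have h2 : π ⟨z, hzN⟩ ∈ ((AL p U a b).subgroupOf N).map π := ⟨⟨z, hzN⟩, hzA, rfl⟩
    rw [hbot, mem_bot, pi_eq_one_iff hsm] at h2
    exact hz1 (h.Z_semireg hab.symm hz (h2 b (right_mem_L a b))))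
  obtain ⟨x, hx, rfl⟩ := h1
  exact ⟨x.1, x.2, hx, rfl⟩

/-- affine lines -/
theorem case_aff (h : KS U) (hp2 : p ≠ 2) (hab : a ≠ b) (hX : X p U a b ≠ ⊥)
    (hπ : Function.Surjective π)
    (hsm : ∀ (g : setStab (G := G) (L p U a b)) (c : L p U a b), ((π g • c : L p U a b) : Ω) = g.1 • c.1)
    (hI : IAff H (L p U a b)) : ∃ E₀ : Subgroup G, IsTrans p U a b E₀ := by
  obtain ⟨E, hEn, hEsq, hEt⟩ := hI
  let N : Subgroup G := setStab (L p U a b)
  have haL := h.left_mem_L (p := p) a b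
  have hEc : ∀ x ∈ E, ∀ y ∈ E, x * y = y * x := by
    intro x hx y hy
    have h1 := hEsq _ (mul_mem hx hy)
    have hx1 : x⁻¹ = x := inv_eq_of_mul_eq_one_left (hEsq x hx)
    have hy1 : y⁻¹ = y := inv_eq_of_mul_eq_one_left (hEsq y hy)
    have h2 : x * y = (x * y)⁻¹ := eq_inv_of_mul_eq_one_left h1
    rw [h2, mul_inv_rev, hx1, hy1]
  obtain ⟨z, hz, hz1⟩ : ∃ z ∈ Z p U a, z ≠ 1 := by
    have h1 := Z_ne_bot (p := p) (h.nil a) (pP_ne_bot_of_X hX)
    by_contra hcon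
    push Not at hcon
    exact h1 ((eq_bot_iff_forall _).2 hcon)
  have hzA : z ∈ AL p U a b := Z_le_AL haL hz
  have hzN : z ∈ N := h.AL_le_setStab hab hzA
  set ζ : H := π ⟨z, hzN⟩ with hζ
  have hcop : (Nat.card E).Coprime p :=
    card_coprime_of_orderOf (fun x hx => orderOf_coprime_of_sq hp2 (hEsq x hx))
  obtain ⟨S, hSA, mS, hSE⟩ := h.exists_lift_group hab hsm hcop (by
    let φ : E → E := fun ε => ⟨ζ⁻¹ * (ε.1 * ζ * ε.1⁻¹), by
      have h2 : ζ⁻¹ * (ε.1 * ζ * ε.1⁻¹) = ζ⁻¹ * ε.1 * ζ⁻¹⁻¹ * ε.1⁻¹ := by group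
      rw [h2]
      exact mul_mem (hEn.conj_mem _ ε.2 _) (inv_mem ε.2)⟩
    have hinj : Function.Injective φ := by
      intro f g hfg
      have h1 : ζ⁻¹ * (f.1 * ζ * f.1⁻¹) = ζ⁻¹ * (g.1 * ζ * g.1⁻¹) := congrArg Subtype.val hfg
      have h2 : f.1 * ζ * f.1⁻¹ = g.1 * ζ * g.1⁻¹ := mul_left_cancel h1
      have h3 : (g.1⁻¹ * f.1) * ζ = ζ * (g.1⁻¹ * f.1) := by
        calc (g.1⁻¹ * f.1) * ζ = g.1⁻¹ * (f.1 * ζ * f.1⁻¹) * f.1 := by group
          _ = ζ * (g.1⁻¹ * f.1) := by rw [h2]; group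
      have hzc : ζ • (⟨a, haL⟩ : L p U a b) = ⟨a, haL⟩ := by
        apply Subtype.ext
        rw [hζ, hsm]
        exact h.Z_fix hz
      have h4 : ζ • ((g.1⁻¹ * f.1) • (⟨a, haL⟩ : L p U a b)) = (g.1⁻¹ * f.1) • (⟨a, haL⟩ : L p U a b) := by
        rw [← mul_smul, ← h3, mul_smul, hzc]
      have h5 : (g.1⁻¹ * f.1) • (⟨a, haL⟩ : L p U a b) = ⟨a, haL⟩ := by
        by_contra hne
        have h6 := congrArg Subtype.val h4
        rw [hζ, hsm] at h6
        exact hz1 (h.Z_semireg (fun e => hne (Subtype.ext e)) hz h6)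
      have h6 := W_reg hEc hEt (mul_mem (inv_mem g.2) f.2) h5
      rw [inv_mul_eq_one] at h6
      exact Subtype.ext h6.symm
    have hsurj := Finite.surjective_of_injective hinj
    intro τ hτ
    obtain ⟨ε, hε⟩ := hsurj ⟨τ, hτ⟩
    obtain ⟨g, hg⟩ := hπ ε.1
    have hgz : g.1 * z * g.1⁻¹ ∈ AL p U a b :=
      Z_le_AL ((g.2 a).1 haL) (h.conj_Z g.1 hz)
    refine ⟨z⁻¹ * (g.1 * z * g.1⁻¹), mul_mem (inv_mem hzN) (mul_mem (mul_mem g.2 hzN) (inv_mem g.2)),
      mul_mem (inv_mem hzA) hgz, ?_⟩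
    have h1 : ζ⁻¹ * (ε.1 * ζ * ε.1⁻¹) = τ := congrArg Subtype.val hε
    rw [← h1, ← hg, hζ, ← map_inv, ← map_inv, ← map_mul, ← map_mul, ← map_mul]
    rfl)
  have hSN : ∀ x ∈ S, x ∈ N := fun x hx => h.AL_le_setStab hab (hSA hx)
  refine ⟨S, hSA, ?_, ?_, ?_⟩
  · intro x hx
    have h1 := (mS x (hSN x hx)).1 hx
    have h2 := hEsq _ h1.2.1
    rw [← map_mul, pi_eq_one_iff hsm] at h2
    refine h.eq_one_of_fix_line hab (p := p) h2 (fun y hy => h.AL_comm_X hab hy (mul_mem h1.1 h1.1)) ?_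
    have h3 : orderOf (x * x) ∣ orderOf x := by
      rw [← pow_two]
      exact orderOf_pow_dvd 2
    exact Nat.Coprime.coprime_dvd_left h3 h1.2.2
  · intro e he f hf
    obtain ⟨τ, hτ, hτe⟩ := hEt ⟨e, he⟩ ⟨f, hf⟩
    obtain ⟨s, hs, hsS, hsτ⟩ := hSE τ hτ
    refine ⟨s, hsS, ?_⟩
    have h1 := hsm ⟨s, hs⟩ ⟨e, he⟩
    rw [hsτ, hτe] at h1
    exact h1.symm
  · intro g hg x hx
    have h1 := (mS x (hSN x hx)).1 hx
    have hgx : g * x * g⁻¹ ∈ N := mul_mem (mul_mem hg (hSN x hx)) (inv_mem hg)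
    rw [mS _ hgx]
    refine ⟨h.AL_conj hg h1.1, ?_, ?_⟩
    · have h2 : π ⟨g * x * g⁻¹, hgx⟩ = π ⟨g, hg⟩ * π ⟨x, hSN x hx⟩ * (π ⟨g, hg⟩)⁻¹ := by
        rw [← map_mul, ← map_inv, ← map_mul]
        rfl
      rw [h2]
      exact hEn.conj_mem _ h1.2.1 _
    · have : orderOf (g * x * g⁻¹) = orderOf x := orderOf_injective (MulAut.conj g).toMonoidHom
        (MulAut.conj g).injective x
      rw [this]
      exact h1.2.2

/-- lines of Ree type -/
theorem case_ree (h : KS U) (hp2 : p ≠ 2) (IH : EvenHyp.{v} (Nat.card Ω)) (hev : Even (Nat.card Ω))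
    (hab : a ≠ b) (hX : X p U a b ≠ ⊥) (hπ : Function.Surjective π)
    (hsm : ∀ (g : setStab (G := G) (L p U a b)) (c : L p U a b), ((π g • c : L p U a b) : Ω) = g.1 • c.1)
    (hevL : Even (Nat.card (L p U a b)))
    (hI : IRee (H := H) (⟨a, h.left_mem_L a b⟩ : L p U a b) ⟨b, right_mem_L a b⟩) : False := by
  haveI : Fact (Nat.Prime 2) := ⟨Nat.prime_two⟩
  obtain ⟨hfix, τ, hτ1, hττ, hτa, hτb, hτM⟩ := hI
  let N : Subgroup G := setStab (L p U a b)
  -- lift `τ`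
  obtain ⟨x, hxN, hxA, hxτ⟩ := h.mem_image_AL hab hX hπ hsm hτM
  obtain ⟨y, hy, w, hw, hyw, hyx, hwx⟩ := exists_mul_parts (p := 2) (H := zpowers x) (mem_zpowers x)
  have hxN' : zpowers x ≤ N := by rwa [zpowers_le]
  have hxA' : zpowers x ≤ AL p U a b := by rwa [zpowers_le]
  have hyN := hxN' hyx
  have hyA := hxA' hyx
  have hwo : (orderOf w).Coprime 2 := ((mem_pR (H := zpowers x) (isNilpotent_zpowers x)).1 hw).2
  obtain ⟨k, hk⟩ := ((mem_pP (H := zpowers x) (isNilpotent_zpowers x)).1 hy).2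
  have hπw : π ⟨w, hxN' hwx⟩ = 1 := by
    -- it is a power of `τ` of odd order
    have h1 : π ⟨w, hxN' hwx⟩ ∈ zpowers τ := by
      obtain ⟨i, hi⟩ := mem_zpowers_iff.1 hwx
      rw [← hxτ]
      refine mem_zpowers_iff.2 ⟨i, ?_⟩
      rw [← map_zpow]
      exact congrArg π (Subtype.ext hi)
    have h2 : orderOf (π ⟨w, hxN' hwx⟩) ∣ 2 := by
      have h3 : orderOf τ ∣ 2 := orderOf_dvd_of_pow_eq_one (by rw [pow_two, hττ])
      have h4 : orderOf (π ⟨w, hxN' hwx⟩) ∣ orderOf τ := by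
        have := orderOf_dvd_natCard (⟨_, h1⟩ : zpowers τ)
        rwa [Subgroup.orderOf_mk, Nat.card_zpowers] at this
      exact h4.trans h3
    have h3 : orderOf (π ⟨w, hxN' hwx⟩) ∣ orderOf w := by
      have := orderOf_map_dvd π (⟨w, hxN' hwx⟩ : N)
      rwa [Subgroup.orderOf_mk] at this
    exact orderOf_eq_one_iff.1 (Nat.Coprime.eq_one_of_dvd (Nat.Coprime.coprime_dvd_left h3 hwo) h2)
  have hπy : π ⟨y, hyN⟩ = τ := by
    have h1 : (⟨x, hxN⟩ : N) = ⟨y, hyN⟩ * ⟨w, hxN' hwx⟩ := Subtype.ext hyw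
    rw [← hxτ, h1, map_mul, hπw, mul_one]
  have hyy : y * y = 1 := by
    have h1 : π (⟨y, hyN⟩ * ⟨y, hyN⟩) = 1 := by rw [map_mul, hπy, hττ]
    rw [pi_eq_one_iff hsm] at h1
    refine h.eq_one_of_fix_line hab (p := p) h1 (fun u hu => h.AL_comm_X hab hu (mul_mem hyA hyA)) ?_
    have h2 : orderOf (y * y) ∣ 2 ^ k := by
      apply orderOf_dvd_of_pow_eq_one
      rw [← pow_two, ← pow_mul, mul_comm, pow_mul, hk, one_pow]
    refine Nat.Coprime.coprime_dvd_left h2 (Nat.Coprime.pow_left k ?_)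
    exact (Nat.coprime_primes Nat.prime_two hp.out).2 hp2.symm
  have hy1 : y ≠ 1 := by
    intro e
    apply hτ1
    rw [← hπy, pi_eq_one_iff hsm]
    intro c _
    change y • c = c
    rw [e, one_smul]
  have hya : y • a = a := by
    have h1 := hsm ⟨y, hyN⟩ ⟨a, h.left_mem_L a b⟩
    rw [hπy, hτa] at h1
    exact h1.symm
  have hyb : y • b = b := by
    have h1 := hsm ⟨y, hyN⟩ ⟨b, right_mem_L a b⟩
    rw [hπy, hτb] at h1
    exact h1.symm
  -- fixed points of `y` lie on the line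
  have hodd := h.odd_card hev a
  have hF : ∀ c : Ω, y • c = c → c ∈ L p U a b := by
    intro c hc
    have hst : ∀ d : Ω, y • d = d → ∀ u ∈ zpowers y, u • d = d := by
      intro d hd u hu
      have h1 : y ∈ stabilizer G d := hd
      have h2 : zpowers y ≤ stabilizer G d := by rwa [zpowers_le]
      exact h2 hu
    refine h.lemmaI (p := p) IH hev hab (Y := zpowers y) ?_ (hst a hya) (hst b hyb) ?_ ?_ (hst c hc)
    · intro e
      apply hy1
      have := mem_zpowers y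
      rwa [e, mem_bot] at this
    · intro u hu v hv
      have h1 : zpowers y ≤ AL p U a b := by rwa [zpowers_le]
      exact h.AL_comm_X hab hu (h1 hv)
    · rw [Nat.card_zpowers]
      have h2 : orderOf y ∣ 2 := orderOf_dvd_of_pow_eq_one (by rw [pow_two, hyy])
      exact Nat.Coprime.coprime_dvd_left h2 (Nat.coprime_two_left.2 hodd)
  -- a point off the line
  obtain ⟨c, hc⟩ := exists_not_mem_L (p := p) (U := U) hX
  have hyc : c ≠ y • c := fun e => hc (hF c e.symm)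
  obtain ⟨g, hga, hgb⟩ := h.two hab hyc
  have hyyc : y • y • c = c := by rw [← mul_smul, hyy, one_smul]
  set y' := g⁻¹ * y * g with hy'
  have hy'a : y' • a = b := by
    rw [hy', mul_smul, mul_smul, hga, inv_smul_eq_iff, hgb]
  have hy'b : y' • b = a := by
    rw [hy', mul_smul, mul_smul, hgb, inv_smul_eq_iff, hga, hyyc]
  have hy'N : y' ∈ N := by
    refine mem_setStab_of (fun e he => h.smul_mem_L hab hab (h.left_mem_L a b) (right_mem_L a b) ?_ ?_ he)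
    · rw [hy'a]; exact right_mem_L a b
    · rw [hy'b]; exact h.left_mem_L a b
  have hy'y' : y' * y' = 1 := by
    rw [hy']
    calc g⁻¹ * y * g * (g⁻¹ * y * g) = g⁻¹ * (y * y) * g := by group
      _ = 1 := by rw [hyy]; group
  -- the fixed points on the line
  set σ : H := π ⟨y', hy'N⟩ with hσ
  have hσσ : σ * σ = 1 := by
    rw [hσ, ← map_mul, ← map_one π]
    exact congrArg π (Subtype.ext hy'y')
  obtain ⟨e1, he1⟩ := hfix σ hσσ
  have hzp : IsPGroup 2 (zpowers σ) := by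
    rintro ⟨u, hu⟩
    obtain ⟨i, rfl⟩ := mem_zpowers_iff.1 hu
    refine ⟨1, Subtype.ext ?_⟩
    change (σ ^ i) ^ 2 ^ 1 = 1
    rw [pow_one, pow_two, ← (Commute.refl σ).mul_zpow, hσσ, one_zpow]
  have hmod := hzp.card_modEq_card_fixedPoints (L p U a b)
  have hev' : Even (Nat.card (fixedPoints (zpowers σ) (L p U a b))) := by
    rw [even_iff_two_dvd] at hevL ⊢
    exact (Nat.modEq_zero_iff_dvd.1 (hmod.symm.trans (Nat.modEq_zero_iff_dvd.2 hevL)))
  have hfixσ : ∀ e : L p U a b, σ • e = e → e ∈ fixedPoints (zpowers σ) (L p U a b) := by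
    intro e he u
    have h1 : σ ∈ stabilizer H e := he
    have h2 : zpowers σ ≤ stabilizer H e := by rwa [zpowers_le]
    exact h2 u.2
  have hpos : 0 < Nat.card (fixedPoints (zpowers σ) (L p U a b)) :=
    Nat.card_pos_iff.2 ⟨⟨⟨e1, hfixσ e1 he1⟩⟩, inferInstance⟩
  have h2 : 1 < Nat.card (fixedPoints (zpowers σ) (L p U a b)) := by
    obtain ⟨k, hk⟩ := hev'
    omega
  have := Finite.one_lt_card_iff_nontrivial.1 h2
  obtain ⟨⟨e2, he2⟩, hne⟩ := exists_ne (⟨e1, hfixσ e1 he1⟩ : fixedPoints (zpowers σ) (L p U a b))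
  have he2' : σ • e2 = e2 := he2 ⟨σ, mem_zpowers σ⟩
  have hne' : e2.1 ≠ e1.1 := fun k => hne (Subtype.ext (Subtype.ext k))
  -- move back
  have hback : ∀ e : L p U a b, σ • e = e → g • e.1 ∈ L p U a b ∧ g • e.1 ∈ L p U c (y • c) := by
    intro e he
    have h1 : y' • e.1 = e.1 := by
      have h3 := hsm ⟨y', hy'N⟩ e
      rw [← hσ, he] at h3
      exact h3.symm
    refine ⟨hF _ ?_, ?_⟩
    · rw [hy', mul_smul, mul_smul, inv_smul_eq_iff] at h1
      exact h1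
    · have := h.smul_mem_L' g e.2
      rwa [hga, hgb] at this
  obtain ⟨k1, k2⟩ := hback e1 he1
  obtain ⟨k3, k4⟩ := hback e2 he2'
  have hLL := h.L_eq_L hab hyc k1 k3 k2 k4 (fun k => hne' (MulAction.injective g k).symm)
  apply hc
  rw [hLL]
  exact h.left_mem_L c (y • c)

end Lift

end KS

end Cfsg.Agent.KantorSeitz
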