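import Cfsg.Agent.KantorSeitz.EvenTor

/-!
# The Kantor–Seitz theorem in even degree, from the Hering–Kantor–Seitz theorem in even degree
-/

set_option autoImplicit false
set_option linter.unusedSectionVars false
set_option linter.style.haveILetI false

namespace Cfsg.Agent.KantorSeitz

open Subgroup MulAction
open scoped commutatorElement

namespace KS

section Tor

universe v

variable {G Ω : Type v} [Group G] [Finite G] [MulAction G Ω] [Finite Ω] [FaithfulSMul G Ω]
  {U : Ω → Subgroup G} {p : ℕ} [hp : Fact p.Prime] {a b : Ω}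
  {H : Type v} [Group H] [Finite H] [MulAction H (L p U a b)] [FaithfulSMul H (L p U a b)]
  {π : setStab (G := G) (L p U a b) →* H}

theorem case_tor (HKS : HKSEven.{v}) (IH : EvenHyp.{v} (Nat.card Ω)) (h : KS U)
    (hev : Even (Nat.card Ω)) (hp2 : p ≠ 2) (hab : a ≠ b) (hX : X p U a b ≠ ⊥)
    (IH2 : ∀ W : Ω → Subgroup G, KS W → W a ≤ U a → W a ≠ U a → ∀ x ∈ W a, x • b = b → x = 1)
    (hπ : Function.Surjective π)
    (hsm : ∀ (g : setStab (G := G) (L p U a b)) (c : L p U a b), ((π g • c : L p U a b) : Ω) = g.1 • c.1)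
    (hV : KS (fun c : L p U a b => ((U c.1).subgroupOf (setStab (L p U a b))).map π))
    {q : ℕ} (hq : q.Prime) (hVq : IsPGroup q (((U a).subgroupOf (setStab (L p U a b))).map π))
    (hI : ITor (fun c : L p U a b => ((U c.1).subgroupOf (setStab (L p U a b))).map π) q
      ⟨a, h.left_mem_L a b⟩ ⟨b, right_mem_L a b⟩) : False := by
  let N : Subgroup G := setStab (L p U a b)
  have haL := h.left_mem_L (p := p) a b
  have hbL := right_mem_L (p := p) (U := U) a b
  let V : L p U a b → Subgroup H := fun c => ((U c.1).subgroupOf (setStab (L p U a b))).map π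
  let a' : L p U a b := ⟨a, haL⟩
  let b' : L p U a b := ⟨b, hbL⟩
  have hab' : a' ≠ b' := fun e => hab (congrArg Subtype.val e)
  have hin : ∀ {x : G}, x • a ∈ L p U a b → x • b ∈ L p U a b → x ∈ N := fun {x} h1 h2 =>
    mem_setStab_of (fun e he => h.smul_mem_L hab hab haL hbL h1 h2 he)
  have hDN : ∀ {x : G}, x • a = a → x • b = b → x ∈ N := fun {x} h1 h2 =>
    hin (by rw [h1]; exact haL) (by rw [h2]; exact hbL)
  have hUN : ∀ {x : G}, x ∈ U a → x • b ∈ L p U a b → x ∈ N := fun {x} h1 h2 =>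
    hin (by rw [h.fix h1]; exact haL) h2
  -- regularity
  have hreg : ∀ v ∈ V a', v • b' = b' → v = 1 := by
    rintro _ ⟨u, hu, rfl⟩ hvb
    rw [pi_eq_one_iff hsm]
    have h1 : u.1 • b = b := by
      have := hsm u b'
      rw [hvb] at this
      exact this.symm
    have h2 : u.1 ∈ X p U a b := h.mem_X_of_mem_U hab hX hab hu h1
    exact fun c hc => hc _ h2
  have hsma : ∀ {x : G} (hx : x ∈ N), x • a = a → π ⟨x, hx⟩ • a' = a' := by
    intro x hx hxa
    apply Subtype.ext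
    rw [hsm]
    exact hxa
  have hsmb : ∀ {x : G} (hx : x ∈ N), x • b = b → π ⟨x, hx⟩ • b' = b' := by
    intro x hx hxb
    apply Subtype.ext
    rw [hsm]
    exact hxb
  -- `q = p`
  obtain ⟨z, hz, hz1⟩ : ∃ z ∈ Z p U a, z ≠ 1 := by
    have h1 := Z_ne_bot (p := p) (h.nil a) (pP_ne_bot_of_X hX)
    by_contra hcon
    push Not at hcon
    exact h1 ((eq_bot_iff_forall _).2 hcon)
  have hZN : ∀ {z : G}, z ∈ Z p U a → z ∈ N := fun {z} hz => h.AL_le_setStab hab (Z_le_AL haL hz)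
  have hZU : Z p U a ≤ U a := Z_le.trans (pP_le p _)
  have hord : ∀ {x : G} (hx : x ∈ N), x ∈ U a → (orderOf x).Coprime q → ∀ c ∈ L p U a b, x • c = c := by
    intro x hx hxU hxq
    have h1 : π ⟨x, hx⟩ ∈ V a' := ⟨⟨x, hx⟩, hxU, rfl⟩
    obtain ⟨k, hk⟩ := hVq ⟨_, h1⟩
    have hk' : (π ⟨x, hx⟩) ^ q ^ k = 1 := congrArg Subtype.val hk
    have h2 := orderOf_dvd_of_pow_eq_one hk'
    have h3 : orderOf (π ⟨x, hx⟩) ∣ orderOf x := by
      have := orderOf_map_dvd π (⟨x, hx⟩ : N)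
      rwa [Subgroup.orderOf_mk] at this
    have h4 : π ⟨x, hx⟩ = 1 := orderOf_eq_one_iff.1 (Nat.Coprime.eq_one_of_dvd
      (Nat.Coprime.coprime_dvd_left h3 (Nat.Coprime.pow_right k hxq)) h2)
    rwa [pi_eq_one_iff hsm] at h4
  have hqp : q = p := by
    by_contra hne
    apply hz1
    have h1 : (orderOf z).Coprime q := by
      obtain ⟨k, hk⟩ := ((mem_pP (h.nil a)).1 (Z_le hz)).2
      refine Nat.Coprime.coprime_dvd_left (orderOf_dvd_of_pow_eq_one hk) (Nat.Coprime.pow_left k ?_)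
      exact (Nat.coprime_primes hp.out hq).2 (fun e => hne e.symm)
    exact h.Z_semireg hab.symm hz (hord (hZN hz) (hZU hz) h1 b hbL)
  subst hqp
  -- `U a` is a `p`-group
  have hUP : U a ≤ pP q (U a) := by
    intro x hx
    obtain ⟨y, hy, r, hr, rfl, -, -⟩ := exists_mul_parts (p := q) hx
    have hrX : ∀ x ∈ X q U a b, x * r = r * x := fun x hx => commute_parts (h.nil a) hx.1 hr
    have hrN : r ∈ N := by
      refine mem_setStab_of (fun e he => ?_)
      exact smul_mem_of_comm hrX he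
    have h1 := hord hrN (pR_le q _ hr) ((mem_pR (h.nil a)).1 hr).2 b hbL
    rw [h.pR_semireg hab hX hab hr h1, mul_one]
    exact hy
  have hodd := h.odd_card hev a
  have hPU : pP q (U a) = U a := le_antisymm (pP_le q _) hUP
  have hPp : IsPGroup q (pP q (U a)) := isPGroup_pP (h.nil a)
  obtain ⟨T, hTcop, hTfix, hTD, hTM, hTirr, hTnt, hTalt⟩ := hI
  change ∀ R : Subgroup H, R ≤ V a' → (∀ r ∈ R, ∀ v ∈ V a', r * v = v * r) →
      (∀ t ∈ T, ∀ r ∈ R, t * r * t⁻¹ ∈ R) → R ≠ ⊥ →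
      ∀ v ∈ V a', (∀ w ∈ V a', v * w = w * v) → v ∈ R at hTirr
  change ∃ t ∈ T, ∃ v ∈ V a', (∀ w ∈ V a', v * w = w * v) ∧ t * v ≠ v * t at hTnt
  change ((∀ v ∈ V a', ∀ w ∈ V a', v * w = w * v) ∨
      ∃ t ∈ T, t ≠ 1 ∧ t * t = 1 ∧ (∀ d : H, d • a' = a' → d • b' = b' → d * t = t * d) ∧
        ∀ v ∈ V a', t * v = v * t ↔ ∀ w ∈ V a', v * w = w * v) at hTalt
  -- lift `T`
  obtain ⟨S, hSA, mS, hST⟩ := h.exists_lift_group hab hsm hTcop
    (fun τ hτ => h.mem_image_AL hab hX hπ hsm (fun M h1 h2 => hTM M h1 h2 hτ))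
  have hSN : ∀ {s : G}, s ∈ S → s ∈ N := fun {s} hs => h.AL_le_setStab hab (hSA hs)
  have hSa : ∀ s ∈ S, s • a = a := by
    intro s hs
    have h1 := ((mS s (hSN hs)).1 hs).2.1
    have h2 := hsm ⟨s, hSN hs⟩ a'
    rw [(hTfix _ h1).1] at h2
    exact h2.symm
  have hSb : ∀ s ∈ S, s • b = b := by
    intro s hs
    have h1 := ((mS s (hSN hs)).1 hs).2.1
    have h2 := hsm ⟨s, hSN hs⟩ b'
    rw [(hTfix _ h1).2] at h2
    exact h2.symm
  have hSX : ∀ x ∈ X q U a b, ∀ s ∈ S, x * s = s * x := fun x hx s hs =>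
    h.AL_comm_X hab hx (hSA hs)
  have hSD : ∀ d : G, d • a = a → d • b = b → ∀ s ∈ S, d * s * d⁻¹ ∈ S := by
    intro d hda hdb s hs
    have hdN := hDN hda hdb
    have h1 := (mS s (hSN hs)).1 hs
    have hgx : d * s * d⁻¹ ∈ N := mul_mem (mul_mem hdN (hSN hs)) (inv_mem hdN)
    rw [mS _ hgx]
    refine ⟨h.AL_conj hdN h1.1, ?_, ?_⟩
    · have h2 : π ⟨d * s * d⁻¹, hgx⟩ = π ⟨d, hdN⟩ * π ⟨s, hSN hs⟩ * (π ⟨d, hdN⟩)⁻¹ := by
        rw [← map_mul, ← map_inv, ← map_mul]
        rfl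
      rw [h2]
      exact hTD _ (hsma hdN hda) (hsmb hdN hdb) _ h1.2.1
    · have : orderOf (d * s * d⁻¹) = orderOf s := orderOf_injective (MulAut.conj d).toMonoidHom
        (MulAut.conj d).injective s
      rw [this]
      exact h1.2.2
  have hScop : (Nat.card S).Coprime q :=
    card_coprime_of_orderOf (fun x hx => ((mS x (hSN hx)).1 hx).2.2)
  have hScopU : (Nat.card S).Coprime (Nat.card (U a)) := by
    have h1 : IsPGroup q (U a) := by rw [← hPU]; exact hPp
    obtain ⟨k, hk⟩ := IsPGroup.iff_card.1 h1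
    rw [hk]
    exact Nat.Coprime.pow_right k hScop
  have hS1 : S ≠ ⊥ := by
    intro e
    obtain ⟨t, ht, v, hv, hvc, htv⟩ := hTnt
    obtain ⟨s, hs, hsS, hst⟩ := hST t ht
    rw [e, mem_bot] at hsS
    apply htv
    have h1 : t = 1 := by
      rw [← hst, pi_eq_one_iff hsm]
      intro c _
      change s • c = c
      rw [hsS, one_smul]
    rw [h1, one_mul, mul_one]
  -- the centre of `V` is the image of `Z`
  have hcen : ∀ v ∈ V a', (∀ w ∈ V a', v * w = w * v) → ∃ z : G, ∃ hz : z ∈ N, z ∈ Z q U a ∧ π ⟨z, hz⟩ = v := by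
    intro v hv hvc
    have h1 := hTirr (((Z q U a).subgroupOf N).map π) (by
      rintro _ ⟨x, hx, rfl⟩
      exact ⟨x, hZU hx, rfl⟩) (by
      rintro _ ⟨x, hx, rfl⟩ _ ⟨u, hu, rfl⟩
      rw [← map_mul, ← map_mul]
      exact congrArg π (Subtype.ext (h.Z_comm hx hu).symm)) (by
      rintro t ht _ ⟨x, hx, rfl⟩
      obtain ⟨s, hs, hsS, rfl⟩ := hST t ht
      refine ⟨⟨s, hs⟩ * x * ⟨s, hs⟩⁻¹, ?_, by rw [map_mul, map_mul, map_inv]⟩
      have := h.conj_Z (p := q) s hx
      rw [hSa s hsS] at this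
      exact this) (by
      intro e
      apply hz1
      have h2 : π ⟨z, hZN hz⟩ ∈ ((Z q U a).subgroupOf N).map π := ⟨⟨z, hZN hz⟩, hz, rfl⟩
      rw [e, mem_bot, pi_eq_one_iff hsm] at h2
      exact h.Z_semireg hab.symm hz (h2 b hbL)) v hv hvc
    obtain ⟨x, hx, rfl⟩ := h1
    exact ⟨x.1, x.2, hx, rfl⟩
  -- fixed points of `T` on `V`
  have hstar : ∀ v ∈ V a', (∀ t ∈ T, t * v = v * t) → v = 1 := by
    intro v hv hvT
    have hvc : ∀ w ∈ V a', v * w = w * v := by
      rcases hTalt with hab | ⟨t, ht, -, -, -, htv⟩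
      · exact hab v hv
      · exact (htv v hv).1 (hvT t ht)
    by_contra hv1
    obtain ⟨t0, ht0, v0, hv0, hv0c, htv0⟩ := hTnt
    apply htv0
    have h1 := hTirr (V a' ⊓ centralizer ((V a' : Set H) ∪ (T : Set H))) inf_le_left (by
      rintro r ⟨-, hr⟩ w hw
      exact (mem_centralizer_iff.1 hr w (Or.inl hw)).symm) (by
      rintro t ht r ⟨hr, hr'⟩
      have h2 := mem_centralizer_iff.1 hr' t (Or.inr ht)
      have h3 : t * r * t⁻¹ = r := by rw [h2]; group
      rw [h3]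
      exact ⟨hr, hr'⟩) (by
      intro e
      have h2 : v ∈ V a' ⊓ centralizer ((V a' : Set H) ∪ (T : Set H)) := by
        refine ⟨hv, mem_centralizer_iff.2 ?_⟩
        rintro w (hw | hw)
        · exact (hvc w hw).symm
        · exact hvT w hw
      rw [e, mem_bot] at h2
      exact hv1 h2) v0 hv0 hv0c
    exact mem_centralizer_iff.1 h1.2 t0 (Or.inr ht0)
  have hVconj : ∀ t : H, t • a' = a' → ∀ v ∈ V a', t * v * t⁻¹ ∈ V a' := by
    intro t ht v hv
    have := hV.conj t (a := a') hv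
    rw [ht] at this
    exact this
  -- fixed points of `S`
  have hFS : ∀ c : Ω, (∀ s ∈ S, s • c = c) → c = a ∨ c = b := by
    intro c hc
    have hcL := h.lemmaI (p := q) IH hev hab hS1 hSa hSb hSX hScopU hc
    by_cases hca : c = a
    · exact Or.inl hca
    · right
      obtain ⟨v, hv, hvb⟩ := hV.trans (a := a') (b := b') (c := ⟨c, hcL⟩) hab'.symm
        (fun e => hca (congrArg Subtype.val e))
      have hv1 : v = 1 := by
        apply hstar v hv
        intro t ht
        obtain ⟨s, hs, hsS, rfl⟩ := hST t ht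
        have h1 : π ⟨s, hs⟩ • (⟨c, hcL⟩ : L q U a b) = ⟨c, hcL⟩ := by
          apply Subtype.ext
          rw [hsm]
          exact hc s hsS
        set t := π ⟨s, hs⟩ with ht'
        have hta := (hTfix t ht).1
        have htb := (hTfix t ht).2
        have htb' : t⁻¹ • b' = b' := by rw [inv_smul_eq_iff]; exact htb.symm
        have h2 : v⁻¹ * (t * v * t⁻¹) = 1 := by
          refine hreg _ (mul_mem (inv_mem hv) (hVconj t hta v hv)) ?_
          rw [mul_smul, mul_smul, mul_smul, htb', hvb, h1, ← hvb, inv_smul_smul]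
        have h3 : t * v * t⁻¹ = v := by
          rw [inv_mul_eq_one] at h2
          exact h2.symm
        calc t * v = (t * v * t⁻¹) * t := by group
          _ = v * t := by rw [h3]
      rw [hv1, one_smul] at hvb
      exact (congrArg Subtype.val hvb).symm
  have hCS : ∀ x ∈ U a, (∀ s ∈ S, s * x = x * s) → x ∈ X q U a b := by
    intro x hx hxs
    refine h.mem_X_of_mem_U hab hX hab hx ?_
    have h1 : x • b = a ∨ x • b = b := by
      apply hFS
      intro s hs
      rw [← mul_smul, hxs s hs, mul_smul, hSb s hs]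
    rcases h1 with h1 | h1
    · exfalso
      have h2 : x • b = x • a := by rw [h1, h.fix hx]
      exact hab (MulAction.injective x h2).symm
    · exact h1
  -- `[P, S]`
  set P : Subgroup G := pP q (U a) with hP
  have hSP : S ≤ normalizer (P : Set G) := by
    intro s hs
    rw [mem_normalizer_iff]
    intro x
    constructor
    · exact h.conj_pP_of_fix (hSa s hs)
    · intro hx
      have hsi : s⁻¹ • a = a := by rw [inv_smul_eq_iff, hSa s hs]
      have h1 := h.conj_pP_of_fix hsi hx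
      have h2 : s⁻¹ * (s * x * s⁻¹) * s⁻¹⁻¹ = x := by group
      rwa [h2] at h1
  have hN0P : (⁅P, S⁆ : Subgroup G) ≤ P := Cfsg.Agent.Lib.CoprimeCommutator.commutator_le_left hSP
  have hdec : ∀ x ∈ P, ∃ n ∈ (⁅P, S⁆ : Subgroup G), ∃ y ∈ X q U a b, x = n * y := by
    intro x hx
    have hcopP : (Nat.card S).Coprime (Nat.card P) := by rw [hPU]; exact hScopU
    have hsolv : Group.IsSolvable P := by
      have := hPp.isNilpotent
      infer_instance
    obtain ⟨n, hn, y, hy, hys, rfl⟩ := exists_commutator_mul hSP hcopP hsolv hx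
    exact ⟨n, hn, y, hCS y (pP_le q _ hy) hys, rfl⟩
  have hN0inv : ∀ g : G, g • a = a → ∀ x ∈ (⁅P, S⁆ : Subgroup G), g * x * g⁻¹ ∈ (⁅P, S⁆ : Subgroup G) := by
    intro g hg x hx
    -- `g = u d`
    have hgb : g • b ≠ a := by
      intro e
      have h2 : g • b = g • a := by rw [e, hg]
      exact hab (MulAction.injective g h2).symm
    obtain ⟨u, hu, hub⟩ := h.trans hab.symm hgb
    have hd1 : (u⁻¹ * g) • a = a := by
      rw [mul_smul, hg, inv_smul_eq_iff, h.fix hu]
    have hd2 : (u⁻¹ * g) • b = b := by rw [mul_smul, ← hub, inv_smul_smul]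
    set d := u⁻¹ * g with hd
    have h1 : d * x * d⁻¹ ∈ (⁅P, S⁆ : Subgroup G) := by
      have h2 : (⁅P, S⁆ : Subgroup G) ≤ (⁅P, S⁆ : Subgroup G).comap (MulAut.conj d).toMonoidHom := by
        conv_lhs => rw [Subgroup.commutator_def]
        rw [closure_le]
        rintro _ ⟨y, hy, s, hs, rfl⟩
        change d * ⁅y, s⁆ * d⁻¹ ∈ (⁅P, S⁆ : Subgroup G)
        have h3 : d * ⁅y, s⁆ * d⁻¹ = ⁅d * y * d⁻¹, d * s * d⁻¹⁆ := by
          rw [commutatorElement_def, commutatorElement_def]; group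
        rw [h3]
        exact Subgroup.commutator_mem_commutator (h.conj_pP_of_fix hd1 hy) (hSD d hd1 hd2 s hs)
      exact h2 hx
    have h4 := (mem_normalizer_iff.1
      (Cfsg.Agent.Lib.CoprimeCommutator.left_le_normalizer_commutator P S (hUP hu)) _).1 h1
    have h5 : u * (d * x * d⁻¹) * u⁻¹ = g * x * g⁻¹ := by rw [hd]; group
    rwa [h5] at h4
  have hN0tr : ∀ c : Ω, c ≠ a → ∃ n ∈ (⁅P, S⁆ : Subgroup G), n • b = c := by
    intro c hc
    obtain ⟨u, hu, hub⟩ := h.trans hab.symm hc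
    obtain ⟨n, hn, y, hy, rfl⟩ := hdec u (hUP hu)
    refine ⟨n, hn, ?_⟩
    rw [mul_smul, (mem_X.1 hy).2] at hub
    exact hub
  have hgen : P ≤ ⁅P, S⁆ := by
    by_contra hcon
    have hne : (⁅P, S⁆ : Subgroup G) ≠ U a := by
      intro e
      apply hcon
      rw [e]
      exact pP_le q _
    have hKW : KS (KantorSeitz.ofBase (⁅P, S⁆ : Subgroup G) a) := h.ofBase (hN0P.trans (pP_le q _)) hN0inv (by
      intro c d hc hd
      obtain ⟨n, hn, hnc⟩ := hN0tr c hc
      obtain ⟨m, hm, hmd⟩ := hN0tr d hd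
      exact ⟨m * n⁻¹, mul_mem hm (inv_mem hn), by rw [mul_smul, ← hnc, inv_smul_smul, hmd]⟩)
    have hWa := ofBase_self (Ω := Ω) hN0inv
    have hregb := IH2 _ hKW (by rw [hWa]; exact hN0P.trans (pP_le q _)) (by rw [hWa]; exact hne)
    rw [hWa] at hregb
    have hregall : ∀ c d : Ω, c ≠ d → ∀ x ∈ KantorSeitz.ofBase (⁅P, S⁆ : Subgroup G) a c, x • d = d → x = 1 := by
      intro c d hcd x hx hxd
      obtain ⟨g, rfl, rfl⟩ := h.two hab hcd
      have h1 := (mem_ofBase hN0inv rfl).1 hx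
      have h2 := hregb _ h1 (by rw [mul_smul, mul_smul, hxd, inv_smul_smul])
      have h3 : x = g * (g⁻¹ * x * g) * g⁻¹ := by group
      rw [h3, h2]
      group
    rcases HKS G Ω _ hKW hregall hev a b hab with hA | ⟨q', hq', hpq', hcore, -⟩
    · obtain ⟨E, hEn, hEsq, hEt⟩ := hA
      have hEc : ∀ x ∈ E, ∀ y ∈ E, x * y = y * x := by
        intro x hx y hy
        have h1 := hEsq _ (mul_mem hx hy)
        have hx1 : x⁻¹ = x := inv_eq_of_mul_eq_one_left (hEsq x hx)
        have hy1 : y⁻¹ = y := inv_eq_of_mul_eq_one_left (hEsq y hy)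
        have h2 : x * y = (x * y)⁻¹ := eq_inv_of_mul_eq_one_left h1
        rw [h2, mul_inv_rev, hx1, hy1]
      apply hX
      rw [eq_bot_iff_forall]
      intro x hx
      exact h.affine_odd hEn hEc hEt hab hodd x (pP_le q _ (mem_X.1 hx).1) (mem_X.1 hx).2
    · rw [hWa] at hpq'
      -- `q' = q`
      have hzb : z • b ≠ a := by
        intro e
        have h2 : z • b = z • a := by rw [e, h.Z_fix hz]
        exact hab (MulAction.injective z h2).symm
      obtain ⟨n, hn, hnb⟩ := hN0tr _ hzb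
      have hn1 : n ≠ 1 := by
        rintro rfl
        rw [one_smul] at hnb
        exact hz1 (h.Z_semireg hab.symm hz hnb.symm)
      have hqq : q' = q := by
        by_contra hne'
        apply hn1
        obtain ⟨k, hk⟩ := hpq' ⟨n, hn⟩
        obtain ⟨l, hl⟩ := hPp ⟨n, hN0P hn⟩
        have hk' := orderOf_dvd_of_pow_eq_one (congrArg Subtype.val hk : n ^ q' ^ k = 1)
        have hl' := orderOf_dvd_of_pow_eq_one (congrArg Subtype.val hl : n ^ q ^ l = 1)
        have h3 : (q' ^ k).Coprime (q ^ l) :=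
          Nat.Coprime.pow _ _ ((Nat.coprime_primes hq' hq).2 hne')
        exact orderOf_eq_one_iff.1 (Nat.Coprime.eq_one_of_dvd (Nat.Coprime.coprime_dvd_left hk' h3) hl')
      rw [hqq] at hcore
      apply hX
      refine hcore (X q U a b) (h.isPGroup_X a b) (fun r hr => ⟨h.fix (pP_le q _ hr.1), hr.2⟩) ?_
      intro d hda hdb r hr
      have := h.conj_X (p := q) d hr
      rwa [hda, hdb] at this
  -- `X ≤ [P, P]`
  have hXP : ∀ c, c ≠ a → X q U a c ≤ ⁅P, P⁆ := by
    have h1 : X q U a b ≤ ⁅P, P⁆ := fun x hx =>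
      mem_commutator_of_fixed hPp hScop hSP hgen hx.1 (fun s hs => (hSX x hx s hs).symm)
    intro c hc x hx
    obtain ⟨n, hn, hnb⟩ := hN0tr c hc
    have hnP := hN0P hn
    have hna : n • a = a := h.fix (pP_le q _ hnP)
    have h2 : n⁻¹ * x * n ∈ X q U a b := by
      have := h.conj_X (p := q) n⁻¹ hx
      have hna' : n⁻¹ • a = a := by rw [inv_smul_eq_iff, hna]
      rwa [hna', ← hnb, inv_smul_smul, inv_inv] at this
    have h3 : P ≤ normalizer ((⁅P, P⁆ : Subgroup G) : Set G) :=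
      Cfsg.Agent.Lib.CoprimeCommutator.left_le_normalizer_commutator P P
    have h4 := (mem_normalizer_iff.1 (h3 hnP) _).1 (h1 h2)
    have h5 : n * (n⁻¹ * x * n) * n⁻¹ = x := by group
    rwa [h5] at h4
  have hZP : Z q U a ≤ P := Z_le
  rcases hTalt with hVab | ⟨t, ht, ht1, htt, htc, htv⟩
  · -- `PSL(2,q)`-lines
    have hKZ : KK q U a ≤ Z q U a := by
      intro y hy
      have hyP := (mem_KK.1 hy).1
      have hyU := pP_le q _ hyP
      have hyN : y ∈ N := hUN hyU (KK_smul_mem hy)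
      have hyV : π ⟨y, hyN⟩ ∈ V a' := ⟨⟨y, hyN⟩, hyU, rfl⟩
      obtain ⟨w, hwN, hw, hwy⟩ := hcen _ hyV (hVab _ hyV)
      rw [pi_eq_iff hsm] at hwy
      have hwb : w • b = y • b := hwy b hbL
      have h1 : w⁻¹ * y ∈ X q U a b := mem_X.2 ⟨mul_mem (inv_mem (hZP hw)) hyP, by
        rw [mul_smul, ← hwb, inv_smul_smul]⟩
      have h2 : w ∈ KK q U a := KK_of_comm (hZP hw) (fun c _ x hx => (mem_Z.1 hw).2 x hx.1) h
      have h3 := h.KK_inf_X hab (mul_mem (inv_mem h2) hy) h1
      rw [inv_mul_eq_one] at h3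
      rw [← h3]
      exact hw
    have hPZ : P ≤ Z q U a := by
      by_contra hcon
      obtain ⟨y, hy, hyZ, hyc⟩ := exists_step (isNilpotent_of_le (pP_le q _) (h.nil a)) hcon
      exact hyZ (hKZ (h.second_centre_le hab hXP hy hyc))
    apply hX
    rw [eq_bot_iff_forall]
    intro x hx
    exact h.Z_semireg hab.symm (hPZ hx.1) hx.2
  · -- `PSU(3,q)`-lines
    obtain ⟨s0, hs0N, hs0S, hs0t⟩ := hST t ht
    have hs0A := hSA hs0S
    have hs0o := ((mS s0 hs0N).1 hs0S).2.2
    have hs0s0 : s0 * s0 = 1 := by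
      have h1 : π (⟨s0, hs0N⟩ * ⟨s0, hs0N⟩) = 1 := by rw [map_mul, hs0t, htt]
      rw [pi_eq_one_iff hsm] at h1
      refine h.eq_one_of_fix_line hab (p := q) h1 (fun y hy => h.AL_comm_X hab hy (mul_mem hs0A hs0A)) ?_
      have h3 : orderOf (s0 * s0) ∣ orderOf s0 := by
        rw [← pow_two]
        exact orderOf_pow_dvd 2
      exact Nat.Coprime.coprime_dvd_left h3 hs0o
    have hs01 : s0 ≠ 1 := by
      intro e
      apply ht1
      rw [← hs0t, pi_eq_one_iff hsm]
      intro c _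
      change s0 • c = c
      rw [e, one_smul]
    -- fixed points of `s0` lie on the line
    have hF : ∀ c : Ω, s0 • c = c → c ∈ L q U a b := by
      intro c hc
      have hst : ∀ d : Ω, s0 • d = d → ∀ u ∈ zpowers s0, u • d = d := by
        intro d hd u hu
        have h1 : s0 ∈ stabilizer G d := hd
        have h2 : zpowers s0 ≤ stabilizer G d := by rwa [zpowers_le]
        exact h2 hu
      refine h.lemmaI (p := q) IH hev hab (Y := zpowers s0) ?_ (hst a (hSa s0 hs0S))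
        (hst b (hSb s0 hs0S)) ?_ ?_ (hst c hc)
      · intro e
        apply hs01
        have := mem_zpowers s0
        rwa [e, mem_bot] at this
      · intro u hu v hv
        have h1 : zpowers s0 ≤ AL q U a b := by rwa [zpowers_le]
        exact h.AL_comm_X hab hu (h1 hv)
      · rw [Nat.card_zpowers]
        have h2 : orderOf s0 ∣ 2 := orderOf_dvd_of_pow_eq_one (by rw [pow_two, hs0s0])
        exact Nat.Coprime.coprime_dvd_left h2 (Nat.coprime_two_left.2 hodd)
    have hCt : ∀ y ∈ P, s0 * y = y * s0 → ∃ w ∈ Z q U a, ∃ x ∈ X q U a b, y = w * x := by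
      intro y hy hys
      have hyU := pP_le q _ hy
      have hyb : y • b ∈ L q U a b := by
        apply hF
        rw [← mul_smul, hys, mul_smul, hSb s0 hs0S]
      have hyN : y ∈ N := hUN hyU hyb
      have hyV : π ⟨y, hyN⟩ ∈ V a' := ⟨⟨y, hyN⟩, hyU, rfl⟩
      have hyt : t * π ⟨y, hyN⟩ = π ⟨y, hyN⟩ * t := by
        rw [← hs0t, ← map_mul, ← map_mul]
        exact congrArg π (Subtype.ext hys)
      obtain ⟨w, hwN, hw, hwy⟩ := hcen _ hyV ((htv _ hyV).1 hyt)
      rw [pi_eq_iff hsm] at hwy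
      have hwb : w • b = y • b := hwy b hbL
      refine ⟨w, hw, w⁻¹ * y, mem_X.2 ⟨mul_mem (inv_mem (hZP hw)) hy, by
        rw [mul_smul, ← hwb, inv_smul_smul]⟩, by group⟩
    exact h.unitary_end hab hX hodd (fun c hc => by
      obtain ⟨n, hn, hnb⟩ := hN0tr c hc
      exact ⟨n, hN0P hn, hnb⟩) hSa hSX hgen hXP hs0s0 (hSa s0 hs0S) hCt

/-- the inductive step -/
theorem even_step (HKS : HKSEven.{v}) (IH : EvenHyp.{v} (Nat.card Ω)) (h : KS U)
    (hev : Even (Nat.card Ω)) (hab : a ≠ b)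
    (IH2 : ∀ W : Ω → Subgroup G, KS W → W a ≤ U a → W a ≠ U a → ∀ x ∈ W a, x • b = b → x = 1) :
    ∀ x ∈ U a, x • b = b → x = 1 := by
  intro x hx hxb
  by_contra hx1
  obtain ⟨p, hp, hX⟩ := exists_X_ne_bot hx hxb hx1
  haveI : Fact p.Prime := ⟨hp⟩
  have hodd := h.odd_card hev a
  have hp2 : p ≠ 2 := by
    rintro rfl
    apply hX
    rw [eq_bot_iff_forall]
    intro y hy
    obtain ⟨k, hk⟩ := ((mem_pP (h.nil a)).1 hy.1).2
    have h1 := orderOf_dvd_of_pow_eq_one hk
    have h2 : orderOf y ∣ Nat.card (U a) := by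
      have := orderOf_dvd_natCard (⟨y, pP_le 2 _ hy.1⟩ : U a)
      rwa [Subgroup.orderOf_mk] at this
    have h3 : (orderOf y).Coprime (2 ^ k) := by
      refine Nat.Coprime.pow_right k ?_
      exact Nat.coprime_two_right.2 (Odd.of_dvd_nat hodd h2)
    exact orderOf_eq_one_iff.1 (Nat.Coprime.eq_one_of_dvd h3 h1)
  obtain ⟨H, i1, i2, i3, i4, π, hπ, hsm, hV⟩ := h.exists_line_group (p := p) hab (pP_ne_bot_of_X hX)
  let Λ : Type v := L p U a b
  let a' : L p U a b := ⟨a, h.left_mem_L a b⟩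
  let b' : L p U a b := ⟨b, right_mem_L a b⟩
  have hab' : a' ≠ b' := fun e => hab (congrArg Subtype.val e)
  -- regularity
  have hreg : ∀ c d : L p U a b, c ≠ d →
      ∀ v ∈ ((U c.1).subgroupOf (setStab (L p U a b))).map π, v • d = d → v = 1 := by
    rintro c d hcd _ ⟨u, hu, rfl⟩ hvb
    rw [pi_eq_one_iff hsm]
    have hcd' : c.1 ≠ d.1 := fun e => hcd (Subtype.ext e)
    have h1 : u.1 • d.1 = d.1 := by
      have := hsm u d
      rw [hvb] at this
      exact this.symm
    have h2 : u.1 ∈ X p U c.1 d.1 := h.mem_X_of_mem_U hab hX hcd' hu h1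
    rw [h.X_eq hab c.2 d.2 hcd'] at h2
    exact fun e he => he _ h2
  have hevL : Even (Nat.card (L p U a b)) := by
    refine hV.even_of_odd hab' ?_
    have h1 : Nat.card (((U a).subgroupOf (setStab (L p U a b))).map π) ∣
        Nat.card ((U a).subgroupOf (setStab (L p U a b))) :=
      Subgroup.card_dvd_of_surjective (π.subgroupMap _) (π.subgroupMap_surjective _)
    refine Odd.of_dvd_nat hodd (h1.trans ?_)
    have : Nat.card ((U a).subgroupOf (setStab (L p U a b))) =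
        Nat.card ((U a ⊓ (setStab (L p U a b)) : Subgroup G)) := by
      refine Nat.card_congr ⟨fun x => ⟨x.1.1, x.2, x.1.2⟩, fun x => ⟨⟨x.1, x.2.2⟩, x.2.1⟩,
        fun _ => rfl, fun _ => rfl⟩
    rw [this]
    exact Subgroup.card_dvd_of_le inf_le_left
  rcases HKS H (L p U a b) _ hV hreg hevL a' b' hab' with hA | ⟨q, hq, hpq, -, hT | hR⟩
  · obtain ⟨E₀, hE₀⟩ := h.case_aff hp2 hab hX hπ hsm hA
    obtain ⟨E, hEn, hEsq, hEt⟩ := h.affine_of_affine_lines hp2 hab hX hE₀
    have hEc : ∀ x ∈ E, ∀ y ∈ E, x * y = y * x := by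
      intro x hx y hy
      have h1 := hEsq _ (mul_mem hx hy)
      have hx1 : x⁻¹ = x := inv_eq_of_mul_eq_one_left (hEsq x hx)
      have hy1 : y⁻¹ = y := inv_eq_of_mul_eq_one_left (hEsq y hy)
      have h2 : x * y = (x * y)⁻¹ := eq_inv_of_mul_eq_one_left h1
      rw [h2, mul_inv_rev, hx1, hy1]
    exact hx1 (h.affine_odd hEn hEc hEt hab hodd x hx hxb)
  · exact h.case_tor HKS IH hev hp2 hab hX IH2 hπ hsm hV hq hpq hT
  · exact h.case_ree hp2 IH hev hab hX hπ hsm hevL hR

end Tor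

end KS

end Cfsg.Agent.KantorSeitz
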