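import Cfsg.Agent.KantorSeitz.OfBase

/-!
# Even degree: lines of type `PSL(2,q)` and `PSU(3,q)`
-/

set_option autoImplicit false
set_option linter.unusedSectionVars false
set_option linter.style.haveILetI false

namespace Cfsg.Agent.KantorSeitz

open Subgroup MulAction
open scoped commutatorElement

namespace KS

section Tor

universe v

variable {G Ω : Type v} [Group G] [Finite G] [MulAction G Ω] [Finite Ω] [FaithfulSMul G Ω]
  {U : Ω → Subgroup G} {p : ℕ} [hp : Fact p.Prime] {a b : Ω}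

/-- the part of the argument after `P = [P, S]`: the second centre consists of dilatations -/
theorem second_centre_le (h : KS U) (hab : a ≠ b)
    (hXP : ∀ c, c ≠ a → X p U a c ≤ ⁅pP p (U a), pP p (U a)⁆) {y : G} (hy : y ∈ pP p (U a))
    (hyc : ∀ u ∈ pP p (U a), y * u * y⁻¹ * u⁻¹ ∈ Z p U a) : y ∈ KK p U a := by
  refine KK_of_comm hy (fun c hc x hx => ?_) h
  refine comm_of_second hy (fun u hu v hv => ?_) x (hXP c hc hx)
  exact ((mem_Z.1 (hyc u hu)).2 v hv).symm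

/-- the argument for `PSU(3,q)`-lines -/
theorem unitary_end (h : KS U) (hab : a ≠ b) (hX : X p U a b ≠ ⊥) (hodd : Odd (Nat.card (U a)))
    (htr : ∀ c : Ω, c ≠ a → ∃ u ∈ pP p (U a), u • b = c)
    {S : Subgroup G} (hSa : ∀ s ∈ S, s • a = a) (hSX : ∀ x ∈ X p U a b, ∀ s ∈ S, x * s = s * x)
    (hgen : pP p (U a) ≤ ⁅pP p (U a), S⁆)
    (hXP : ∀ c, c ≠ a → X p U a c ≤ ⁅pP p (U a), pP p (U a)⁆)
    {t : G} (ht : t * t = 1) (hta : t • a = a)
    (hCt : ∀ y ∈ pP p (U a), t * y = y * t → ∃ z ∈ Z p U a, ∃ x ∈ X p U a b, y = z * x) :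
    False := by
  set P : Subgroup G := pP p (U a) with hP
  have hfixa : ∀ x ∈ P, x • a = a := fun x hx => h.fix (pP_le p _ hx)
  have hPconj : ∀ g : G, g • a = a → ∀ x, x ∈ P ↔ g * x * g⁻¹ ∈ P := by
    intro g hg x
    constructor
    · exact h.conj_pP_of_fix hg
    · intro hx
      have hgi : g⁻¹ • a = a := by rw [inv_smul_eq_iff, hg]
      have h1 := h.conj_pP_of_fix hgi hx
      have h2 : g⁻¹ * (g * x * g⁻¹) * g⁻¹⁻¹ = x := by group
      rwa [h2] at h1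
  have hZconj : ∀ g : G, g • a = a → ∀ x ∈ Z p U a, g * x * g⁻¹ ∈ Z p U a := by
    intro g hg x hx
    have := h.conj_Z (p := p) g hx
    rwa [hg] at this
  have hZP : Z p U a ≤ P := Z_le
  have hZc : ∀ z ∈ Z p U a, ∀ u ∈ P, u * z = z * u := fun z hz u hu => (mem_Z.1 hz).2 u hu
  -- the second and the third centre
  let A2 := up P (Z p U a) (fun u hu x hx => hZconj u (hfixa u hu) x hx)
  have hA2conj : ∀ g : G, g • a = a → ∀ x ∈ A2, g * x * g⁻¹ ∈ A2 := fun g hg x hx =>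
    up_conj (hPconj g hg) (hZconj g hg) hx
  let A3 := up P A2 (fun u hu x hx => hA2conj u (hfixa u hu) x hx)
  have hA3conj : ∀ g : G, g • a = a → ∀ x ∈ A3, g * x * g⁻¹ ∈ A3 := fun g hg x hx =>
    up_conj (hPconj g hg) (hA2conj g hg) hx
  have hA2K : A2 ≤ KK p U a := fun y hy => h.second_centre_le hab hXP hy.1 hy.2
  have hZA2 : Z p U a ≤ A2 := le_up hZP
  have hA2A3 : A2 ≤ A3 := le_up up_le
  have hoddP : Odd (Nat.card P) := Odd.of_dvd_nat hodd (Subgroup.card_dvd_of_le (pP_le p _))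
  have hoddA3 : Odd (Nat.card A3) := Odd.of_dvd_nat hoddP (Subgroup.card_dvd_of_le up_le)
  -- `A3 ∩ X = 1`
  have hA3X : ∀ x ∈ A3, x ∈ X p U a b → x = 1 := fun x hx hxX =>
    h.eq_one_of_step hab htr hxX (fun u hu => hA2K (hx.2 u hu))
  -- `t` inverts `A3 / Z`
  have hinv : ∀ y ∈ A3, (t * y * t⁻¹) * y ∈ Z p U a := by
    intro y hy
    obtain ⟨c, hc, k, hk, rfl, htc, htk⟩ := exists_decomp hoddA3 ht (hA3conj t hta) hy
    have hcZ : c ∈ Z p U a := by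
      obtain ⟨z, hz, x, hx, rfl⟩ := hCt c hc.1 htc
      have hxA : x ∈ A3 := by
        have h1 := mul_mem (inv_mem (hA2A3 (hZA2 hz))) hc
        rwa [inv_mul_cancel_left] at h1
      rw [hA3X x hxA hx, mul_one]
      exact hz
    have h1 : t * (c * k) * t⁻¹ * (c * k) = c * c := by
      calc t * (c * k) * t⁻¹ * (c * k) = (t * c) * t⁻¹ * (t * k * t⁻¹) * (c * k) := by group
        _ = (c * t) * t⁻¹ * k⁻¹ * (c * k) := by rw [htc, htk]
        _ = c * (k⁻¹ * c) * k := by group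
        _ = c * (c * k⁻¹) * k := by rw [hZc c hcZ _ (inv_mem hk.1)]
        _ = c * c := by group
    rw [h1]
    exact mul_mem hcZ hcZ
  -- the elements of `P` acting trivially on `A3 / Z`
  let C : Subgroup G :=
    { carrier := {u | u ∈ P ∧ ∀ y ∈ A3, y * u * y⁻¹ * u⁻¹ ∈ Z p U a}
      one_mem' := ⟨one_mem _, fun y _ => by
        have : y * 1 * y⁻¹ * 1⁻¹ = 1 := by group
        rw [this]; exact one_mem _⟩
      mul_mem' := by
        rintro u v ⟨hu, hu'⟩ ⟨hv, hv'⟩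
        refine ⟨mul_mem hu hv, fun y hy => ?_⟩
        have h1 : y * (u * v) * y⁻¹ * (u * v)⁻¹ = (y * u * y⁻¹ * u⁻¹) * (u * (y * v * y⁻¹ * v⁻¹) * u⁻¹) := by
          group
        rw [h1]
        exact mul_mem (hu' y hy) (hZconj u (hfixa u hu) _ (hv' y hy))
      inv_mem' := by
        rintro u ⟨hu, hu'⟩
        refine ⟨inv_mem hu, fun y hy => ?_⟩
        have h1 : y * u⁻¹ * y⁻¹ * u⁻¹⁻¹ = u⁻¹ * (y * u * y⁻¹ * u⁻¹)⁻¹ * u⁻¹⁻¹ := by group
        rw [h1]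
        exact hZconj _ (hfixa _ (inv_mem hu)) _ (inv_mem (hu' y hy)) }
  have mC : ∀ {u : G}, u ∈ C ↔ u ∈ P ∧ ∀ y ∈ A3, y * u * y⁻¹ * u⁻¹ ∈ Z p U a := Iff.rfl
  have hCconj : ∀ g : G, g • a = a → ∀ u ∈ C, g * u * g⁻¹ ∈ C := by
    intro g hg u hu
    rw [mC] at hu ⊢
    refine ⟨(hPconj g hg u).1 hu.1, fun y hy => ?_⟩
    have hgi : g⁻¹ • a = a := by rw [inv_smul_eq_iff, hg]
    have h1 := hA3conj g⁻¹ hgi y hy
    rw [inv_inv] at h1
    have h2 := hZconj g hg _ (hu.2 _ h1)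
    have h3 : g * (g⁻¹ * y * g * u * (g⁻¹ * y * g)⁻¹ * u⁻¹) * g⁻¹ =
        y * (g * u * g⁻¹) * y⁻¹ * (g * u * g⁻¹)⁻¹ := by group
    rwa [h3] at h2
  have hZC : Z p U a ≤ C := by
    intro z hz
    rw [mC]
    refine ⟨hZP hz, fun y hy => ?_⟩
    have h1 : y * z * y⁻¹ * z⁻¹ = 1 := by
      rw [hZc z hz y hy.1]; group
    rw [h1]
    exact one_mem _
  -- inverted elements lie in `C`
  have hinvC : ∀ i ∈ P, t * i * t⁻¹ = i⁻¹ → i ∈ C := by
    intro i hi hti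
    have hsq : i * i ∈ C := by
      rw [mC]
      refine ⟨mul_mem hi hi, fun y hy => ?_⟩
      have hz1 := hinv y hy
      have hy' : i * y * i⁻¹ ∈ A3 := hA3conj i (hfixa i hi) y hy
      have hz2 := hinv _ hy'
      set z1 := t * y * t⁻¹ * y with hz1d
      set z2 := t * (i * y * i⁻¹) * t⁻¹ * (i * y * i⁻¹) with hz2d
      have e1 : t * y * t⁻¹ = z1 * y⁻¹ := by rw [hz1d]; group
      have e2 : t * (i * y * i⁻¹) * t⁻¹ = z2 * (i * y⁻¹ * i⁻¹) := by rw [hz2d]; group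
      have e3 : t * (i * y * i⁻¹) * t⁻¹ = i⁻¹ * (z1 * y⁻¹) * i := by
        calc t * (i * y * i⁻¹) * t⁻¹ = (t * i * t⁻¹) * (t * y * t⁻¹) * (t * i * t⁻¹)⁻¹ := by group
          _ = i⁻¹ * (z1 * y⁻¹) * i⁻¹⁻¹ := by rw [hti, e1]
          _ = i⁻¹ * (z1 * y⁻¹) * i := by rw [inv_inv]
      have e4 : i⁻¹ * z1 = z1 * i⁻¹ := hZc z1 hz1 _ (inv_mem hi)
      have e5 : z1 * (i⁻¹ * y⁻¹ * i) = z2 * (i * y⁻¹ * i⁻¹) := by
        rw [← e2, e3]
        calc z1 * (i⁻¹ * y⁻¹ * i) = (z1 * i⁻¹) * y⁻¹ * i := by group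
          _ = i⁻¹ * (z1 * y⁻¹) * i := by rw [← e4]; group
      -- `y (i i) y⁻¹ (i i)⁻¹ = z2⁻¹ z1` up to conjugation by elements of `P`
      have e6 : y * (i * i) * y⁻¹ * (i * i)⁻¹ = y * i * (z2⁻¹ * z1) * (y * i)⁻¹ := by
        have e7 : i * y⁻¹ * i⁻¹ = z2⁻¹ * z1 * (i⁻¹ * y⁻¹ * i) := by
          rw [mul_assoc z2⁻¹ z1, e5, inv_mul_cancel_left]
        calc y * (i * i) * y⁻¹ * (i * i)⁻¹ = y * i * (i * y⁻¹ * i⁻¹) * i⁻¹ := by group
          _ = y * i * (z2⁻¹ * z1 * (i⁻¹ * y⁻¹ * i)) * i⁻¹ := by rw [e7]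
          _ = y * i * (z2⁻¹ * z1) * (y * i)⁻¹ := by group
      rw [e6]
      exact hZconj _ (hfixa _ (mul_mem hy.1 hi)) _ (mul_mem (inv_mem hz2) hz1)
    have hoi : Odd (orderOf i) := by
      have h2 : orderOf i ∣ Nat.card P := by
        have := orderOf_dvd_natCard (⟨i, hi⟩ : P)
        rwa [Subgroup.orderOf_mk] at this
      exact Odd.of_dvd_nat hoddP h2
    obtain ⟨m, hm⟩ := hoi
    have h1 : (i * i) ^ (m + 1) = i := by
      rw [← pow_two, ← pow_mul]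
      have : 2 * (m + 1) = (2 * m + 1) + 1 := by ring
      rw [this, pow_succ, ← hm, pow_orderOf_eq_one, one_mul]
    rw [← h1]
    exact pow_mem hsq _
  -- `P = X C`
  have hPXC : ∀ u ∈ P, ∃ x ∈ X p U a b, ∃ c ∈ C, u = x * c := by
    intro u hu
    obtain ⟨c, hc, k, hk, rfl, htc, htk⟩ := exists_decomp hoddP ht (fun x hx => (hPconj t hta x).1 hx) hu
    obtain ⟨z, hz, x, hx, rfl⟩ := hCt c hc htc
    refine ⟨x, hx, z * k, mul_mem (hZC hz) (hinvC k hk htk), ?_⟩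
    rw [← hZc z hz x hx.1, mul_assoc]
  have hPSC : (⁅P, S⁆ : Subgroup G) ≤ C := by
    rw [Subgroup.commutator_le]
    intro u hu s hs
    obtain ⟨x, hx, c, hc, rfl⟩ := hPXC u hu
    have h1 : s * x⁻¹ * s⁻¹ = x⁻¹ := by
      have h2 := hSX x hx s hs
      have h3 : x⁻¹ * s = s * x⁻¹ := by
        calc x⁻¹ * s = x⁻¹ * (s * x) * x⁻¹ := by group
          _ = s * x⁻¹ := by rw [← h2]; group
      rw [← h3]; group
    have h2 : ⁅x * c, s⁆ = x * (c * (s * c⁻¹ * s⁻¹)) * x⁻¹ := by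
      calc ⁅x * c, s⁆ = x * (c * (s * c⁻¹ * s⁻¹)) * (s * x⁻¹ * s⁻¹) := by
            rw [commutatorElement_def]; group
        _ = x * (c * (s * c⁻¹ * s⁻¹)) * x⁻¹ := by rw [h1]
    rw [h2]
    exact hCconj x (hfixa x hx.1) _ (mul_mem hc (hCconj s (hSa s hs) _ (inv_mem hc)))
  -- conclusion
  have hPA2 : P ≤ A2 := by
    by_contra hcon
    obtain ⟨y, hy, hyA, hyc⟩ := exists_step (isNilpotent_of_le (pP_le p _) (h.nil a)) hcon
    apply hyA
    have hyA3 : y ∈ A3 := ⟨hy, hyc⟩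
    refine ⟨hy, fun u hu => ?_⟩
    exact (mC.1 (hPSC (hgen hu))).2 y hyA3
  apply hX
  rw [eq_bot_iff_forall]
  intro x hx
  exact h.KK_inf_X hab (hA2K (hPA2 hx.1)) hx

end Tor

end KS

end Cfsg.Agent.KantorSeitz
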