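import Cfsg.Agent.KantorSeitz.AffLines
import Cfsg.Agent.KantorSeitz.Iface

/-!
# The group induced on a line
-/

set_option autoImplicit false
set_option linter.unusedSectionVars false
set_option linter.style.haveILetI false

namespace Cfsg.Agent.KantorSeitz

open Subgroup MulAction

theorem KS.map_of_surj {G H Ω : Type*} [Group G] [Group H] [MulAction G Ω] [MulAction H Ω]
    {U : Ω → Subgroup G} (h : KS U) (π : G →* H) (hπ : Function.Surjective π)
    (hsm : ∀ (g : G) (c : Ω), π g • c = g • c) : KS (fun c => (U c).map π) where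
  fix := by
    rintro a _ ⟨u, hu, rfl⟩
    rw [hsm, h.fix hu]
  conj := by
    rintro g a _ ⟨u, hu, rfl⟩
    obtain ⟨g', rfl⟩ := hπ g
    refine ⟨g' * u * g'⁻¹, ?_, by rw [map_mul, map_mul, map_inv]⟩
    rw [hsm]
    exact h.conj g' hu
  trans := by
    intro a b c hb hc
    obtain ⟨x, hx, hxb⟩ := h.trans hb hc
    exact ⟨π x, ⟨x, hx, rfl⟩, by rw [hsm, hxb]⟩
  nil := fun a => by
    have := h.nil a
    exact Group.nilpotent_of_surjective (π.subgroupMap (U a)) (π.subgroupMap_surjective (U a))
  tr := by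
    intro a b
    obtain ⟨g, hg⟩ := h.tr a b
    exact ⟨π g, by rw [hsm, hg]⟩

namespace KS

section LineGroup

universe v

variable {G Ω : Type v} [Group G] [Finite G] [MulAction G Ω] [Finite Ω] [FaithfulSMul G Ω]
  {U : Ω → Subgroup G} {p : ℕ} [hp : Fact p.Prime]

/-- The group induced on a line. -/
theorem exists_line_group (h : KS U) {a b : Ω} (hab : a ≠ b) (hP : pP p (U a) ≠ ⊥) :
    ∃ (H : Type v) (_ : Group H) (_ : Finite H) (_ : MulAction H (L p U a b))
      (_ : FaithfulSMul H (L p U a b)) (π : setStab (G := G) (L p U a b) →* H),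
      Function.Surjective π ∧
      (∀ (g : setStab (G := G) (L p U a b)) (c : L p U a b), ((π g • c : L p U a b) : Ω) = g.1 • c.1) ∧
      KS (fun c : L p U a b => ((U c.1).subgroupOf (setStab (L p U a b))).map π) := by
  set Δ : Set Ω := L p U a b with hΔ
  set N : Subgroup G := setStab Δ with hN
  have hND : ∀ g ∈ N, ∀ d ∈ Δ, g • d ∈ Δ := fun g hg d hd => (hg d).1 hd
  have hin : ∀ {c d : Ω}, c ≠ d → c ∈ Δ → d ∈ Δ → ∀ {x : G}, x • c ∈ Δ → x • d ∈ Δ → x ∈ N := by
    intro c d hcd hc hd x hx hx'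
    exact mem_setStab_of (fun e he => h.smul_mem_L hab hcd hc hd hx hx' he)
  letI := resAct N Δ hND
  have hKS : KS (fun c : Δ => (U c.1).subgroupOf N) := by
    refine restrict N Δ hND U (fun c _ x hx => h.fix hx) (fun g _ c _ x hx => h.conj g hx) ?_
      (fun a _ => h.nil a) ?_
    · intro c hc d hd e he hdc hec
      obtain ⟨x, hx, hxd⟩ := h.trans hdc hec
      refine ⟨x, hx, hin hdc.symm hc hd ?_ ?_, hxd⟩
      · rw [h.fix hx]; exact hc
      · rw [hxd]; exact he
    · intro c hc d hd
      obtain ⟨g, hg, hgc⟩ := h.exists_centralizing (p := p) hP (Y := X p U a b) (h.isPGroup_X a b)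
        (b := c) (c := d) (fun y hy => hc y hy) (fun y hy => hd y hy)
      refine ⟨g, mem_setStab_of (fun e he x hx => ?_), hgc⟩
      rw [← mul_smul, hg x hx, mul_smul, he x hx]
  let f := MulAction.toPermHom N Δ
  refine ⟨f.range, inferInstance, inferInstance, inferInstance, inferInstance, f.rangeRestrict,
    f.rangeRestrict_surjective, fun g c => rfl, ?_⟩
  exact hKS.map_of_surj f.rangeRestrict f.rangeRestrict_surjective (fun g c => rfl)

end LineGroup

end KS

end Cfsg.Agent.KantorSeitz
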