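import Cfsg.Agent.KantorSeitz.Lines
import Cfsg.Agent.Solvable.Glauberman

/-!
# Restriction to invariant subsets, the group of the line, Lemma I
-/

set_option autoImplicit false
set_option linter.unusedSectionVars false

namespace Cfsg.Agent.KantorSeitz

open Subgroup MulAction

/-! ### Restriction -/

section Restrict

variable {G Ω : Type*} [Group G] [MulAction G Ω]

/-- the action of `N` on the `N`-invariant set `Δ` -/
@[reducible] def resAct (N : Subgroup G) (Δ : Set Ω) (hΔ : ∀ g ∈ N, ∀ d ∈ Δ, g • d ∈ Δ) :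
    MulAction N Δ where
  smul g d := ⟨g.1 • d.1, hΔ g.1 g.2 d.1 d.2⟩
  one_smul d := Subtype.ext (one_smul G d.1)
  mul_smul x y d := Subtype.ext (mul_smul x.1 y.1 d.1)

theorem isNilpotent_subgroupOf {W N : Subgroup G} (hW : Group.IsNilpotent W) :
    Group.IsNilpotent (W.subgroupOf N) := by
  have := hW
  let f : W.subgroupOf N →* W :=
    { toFun := fun x => ⟨x.1.1, x.2⟩
      map_one' := rfl
      map_mul' := fun _ _ => rfl }
  have hf : Function.Injective f := by
    intro x y hxy
    have h1 : x.1.1 = y.1.1 := congrArg (fun z : W => z.1) hxy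
    exact Subtype.ext (Subtype.ext h1)
  exact Subgroup.isNilpotent_of_ker_le_center f (by rw [(MonoidHom.ker_eq_bot_iff f).2 hf]; exact bot_le)

theorem restrict (N : Subgroup G) (Δ : Set Ω) (hΔ : ∀ g ∈ N, ∀ d ∈ Δ, g • d ∈ Δ)
    (W : Ω → Subgroup G)
    (hfix : ∀ c ∈ Δ, ∀ x ∈ W c, x • c = c)
    (hconj : ∀ g ∈ N, ∀ c ∈ Δ, ∀ x ∈ W c, g * x * g⁻¹ ∈ W (g • c))
    (htrans : ∀ a ∈ Δ, ∀ b ∈ Δ, ∀ c ∈ Δ, b ≠ a → c ≠ a → ∃ x ∈ W a, x ∈ N ∧ x • b = c)
    (hnil : ∀ a ∈ Δ, Group.IsNilpotent (W a))
    (htr : ∀ a ∈ Δ, ∀ b ∈ Δ, ∃ g ∈ N, g • a = b) :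
    letI := resAct N Δ hΔ
    KS (fun c : Δ => (W c.1).subgroupOf N) := by
  letI := resAct N Δ hΔ
  exact
    { fix := fun {a x} hx => Subtype.ext (hfix a.1 a.2 x.1 hx)
      conj := fun g {a x} hx => hconj g.1 g.2 a.1 a.2 x.1 hx
      trans := fun {a b c} hb hc => by
        obtain ⟨x, hx, hxN, hxb⟩ := htrans a.1 a.2 b.1 b.2 c.1 c.2 (fun e => hb (Subtype.ext e))
          (fun e => hc (Subtype.ext e))
        exact ⟨⟨x, hxN⟩, hx, Subtype.ext hxb⟩
      nil := fun a => isNilpotent_subgroupOf (hnil a.1 a.2)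
      tr := fun a b => by
        obtain ⟨g, hg, hga⟩ := htr a.1 a.2 b.1 b.2
        exact ⟨⟨g, hg⟩, Subtype.ext hga⟩ }

end Restrict

/-- the induction hypothesis in even degree -/
def EvenHyp.{v} (n : ℕ) : Prop :=
  ∀ (G Ω : Type v) [Group G] [Finite G] [Finite Ω] [MulAction G Ω] (U : Ω → Subgroup G), KS U →
    Even (Nat.card Ω) → Nat.card Ω < n → ∀ a b : Ω, a ≠ b → ∀ x ∈ U a, x • b = b → ∀ c : Ω, x • c = c

namespace KS

section

variable {G Ω : Type*} [Group G] [Finite G] [MulAction G Ω] [Finite Ω] [FaithfulSMul G Ω]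
  {U : Ω → Subgroup G} {p : ℕ} [hp : Fact p.Prime]

/-- (A7) -/
theorem eq_one_of_fix_line (h : KS U) {a b : Ω} (hab : a ≠ b) {w : G}
    (hw : ∀ c ∈ L p U a b, w • c = c) (hwX : ∀ x ∈ X p U a b, x * w = w * x)
    (hwp : (orderOf w).Coprime p) : w = 1 := by
  -- `w` centralises `pP p (U c)` for `c` on the line
  have key : ∀ c ∈ L p U a b, ∀ d ∈ L p U a b, c ≠ d → ∀ y ∈ pP p (U c), y * w = w * y := by
    intro c hc d hd hcd
    have hXcd : X p U c d = X p U a b := h.X_eq hab hc hd hcd
    have hwc : w • c = c := hw c hc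
    -- `Q = N_P(X)` is centralised by `w`
    have hQ : ∀ y ∈ pP p (U c), (∀ e ∈ L p U a b, y • e ∈ L p U a b) → y * w = w * y := by
      intro y hy hyL
      let Q : Subgroup G :=
        { carrier := {u | u ∈ pP p (U c) ∧ ∀ e, e ∈ L p U a b ↔ u • e ∈ L p U a b}
          one_mem' := ⟨one_mem _, fun e => by rw [one_smul]⟩
          mul_mem' := by
            rintro u v ⟨hu, hu'⟩ ⟨hv, hv'⟩
            exact ⟨mul_mem hu hv, fun e => by rw [mul_smul, hv' e, hu' (v • e)]⟩
          inv_mem' := by
            rintro u ⟨hu, hu'⟩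
            exact ⟨inv_mem hu, fun e => by rw [hu' (u⁻¹ • e), smul_inv_smul]⟩ }
      have hQp : IsPGroup p Q := (isPGroup_pP (h.nil c)).to_le (fun u hu => hu.1)
      have hwQ : w ∈ normalizer (Q : Set G) := by
        have h0 : ∀ e, e ∈ L p U a b ↔ w • e ∈ L p U a b := by
          intro e
          constructor
          · intro he
            rw [hw e he]
            exact he
          · intro he
            have := hw _ he
            have h2 : w • e = e := MulAction.injective w this
            rwa [h2] at he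
        have h0' : ∀ e, e ∈ L p U a b ↔ w⁻¹ • e ∈ L p U a b := by
          intro e
          rw [h0 (w⁻¹ • e), smul_inv_smul]
        rw [mem_normalizer_iff]
        intro u
        constructor
        · rintro ⟨hu, hu'⟩
          refine ⟨h.conj_pP_of_fix hwc hu, fun e => ?_⟩
          rw [mul_smul, mul_smul, ← h0, ← hu', ← h0']
        · rintro ⟨hu, hu'⟩
          have hwc' : w⁻¹ • c = c := by rw [inv_smul_eq_iff, hwc]
          have h1 := h.conj_pP_of_fix hwc' hu
          have h2 : w⁻¹ * (w * u * w⁻¹) * w⁻¹⁻¹ = u := by group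
          rw [h2] at h1
          refine ⟨h1, fun e => ?_⟩
          have h3 := hu' (w • e)
          rw [mul_smul, mul_smul, inv_smul_smul, ← h0, ← h0] at h3
          exact h3
      have hyQ : y ∈ Q := by
        refine ⟨hy, fun e => ⟨hyL e, fun he => ?_⟩⟩
        have hfin : (L p U a b).Finite := Set.toFinite _
        have hsub : (fun e => y • e) '' (L p U a b) ⊆ L p U a b := by
          rintro _ ⟨f, hf, rfl⟩
          exact hyL f hf
        have heq : (fun e => y • e) '' (L p U a b) = L p U a b :=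
          Set.eq_of_subset_of_ncard_le hsub (by
            rw [Set.ncard_image_of_injective _ (MulAction.injective y)]) hfin
        have : y • e ∈ (fun e => y • e) '' (L p U a b) := by rw [heq]; exact he
        obtain ⟨f, hf, hfe⟩ := this
        have := MulAction.injective y hfe
        rwa [this] at hf
      have := Cfsg.Agent.Lib.ThompsonPQ.commute_of_commutator_commute (U := Q) (x := w) ?_ hwQ ?_ y hyQ
      · exact this.eq
      · obtain ⟨n, hn⟩ := IsPGroup.iff_card.1 hQp
        rw [hn]
        exact Nat.Coprime.pow_right n hwp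
      · -- commutators lie in `X`
        intro u hu
        have h1 : w⁻¹ * u * w * u⁻¹ ∈ X p U a b := by
          rw [← hXcd]
          refine mem_X.2 ⟨?_, ?_⟩
          · have hwc' : w⁻¹ • c = c := by rw [inv_smul_eq_iff, hwc]
            have h1 := h.conj_pP_of_fix hwc' hu.1
            rw [inv_inv] at h1
            exact mul_mem h1 (inv_mem hu.1)
          · have h2 : u⁻¹ • d ∈ L p U a b := ((inv_mem hu : u⁻¹ ∈ Q).2 d).1 hd
            rw [mul_smul, mul_smul, mul_smul, hw _ h2, smul_inv_smul, inv_smul_eq_iff, hw d hd]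
        exact hwX _ h1
    intro y hy
    have hmain := Cfsg.Agent.Lib.ThompsonPQ.thompson_p_times_q p (X p U a b) (zpowers w)
      (pP p (U c)) (h.isPGroup_X a b) (by rwa [Nat.card_zpowers]) (isPGroup_pP (h.nil c)) ?_ ?_ ?_ ?_
    · have := hmain (mem_zpowers w)
      exact mem_centralizer_iff.1 this y hy
    · intro x hx
      rw [mem_centralizer_iff]
      intro z hz
      obtain ⟨i, rfl⟩ := mem_zpowers_iff.1 hz
      exact ((show Commute w x from (hwX x hx).symm).zpow_left i).eq
    · rw [← hXcd]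
      intro x hx
      exact le_normalizer hx.1
    · rw [zpowers_le, mem_normalizer_iff]
      intro u
      constructor
      · exact h.conj_pP_of_fix hwc
      · intro hu
        have hwc' : w⁻¹ • c = c := by rw [inv_smul_eq_iff, hwc]
        have h1 := h.conj_pP_of_fix hwc' hu
        have h2 : w⁻¹ * (w * u * w⁻¹) * w⁻¹⁻¹ = u := by group
        rwa [h2] at h1
    · rintro u ⟨hu, huX⟩
      rw [mem_centralizer_iff]
      intro z hz
      have h1 : u * w = w * u := by
        apply hQ u hu
        intro e he x hx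
        have h2 := mem_centralizer_iff.1 huX x hx
        rw [← mul_smul, h2, mul_smul, he x hx]
      obtain ⟨i, rfl⟩ := mem_zpowers_iff.1 hz
      exact ((show Commute w u from h1.symm).zpow_left i).eq
  have ha := h.left_mem_L (p := p) a b
  have hb := right_mem_L (p := p) (U := U) a b
  apply eq_one_of_fix (Ω := Ω)
  intro c
  by_cases hc : c ∈ L p U a b
  · exact hw c hc
  · by_contra hne
    have hac : a ≠ c := fun e => hc (by rw [← e]; exact ha)
    have hbc : b ≠ c := fun e => hc (by rw [← e]; exact hb)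
    have h1 := smul_mem_of_comm (fun x hx => key a ha b hb hab x (mem_X.1 hx).1) (right_mem_L (p := p) (U := U) a c)
    have h2 := smul_mem_of_comm (fun x hx => key b hb a ha hab.symm x (mem_X.1 hx).1) (right_mem_L (p := p) (U := U) b c)
    have h3 := h.L_eq_L hac hbc h1 (right_mem_L a c) h2 (right_mem_L b c) hne
    apply hc
    have h4 : b ∈ L p U a c := by rw [h3]; exact h.left_mem_L b c
    rw [h.L_eq hac (h.left_mem_L a c) h4 hab]
    exact right_mem_L a c

end

end KS

end Cfsg.Agent.KantorSeitz
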