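import Cfsg.Agent.KantorSeitz.Lines2

/-!
# Parity, Lemma I, the group generated by the centres of a line, lifting
-/

set_option autoImplicit false
set_option linter.unusedSectionVars false

namespace Cfsg.Agent.KantorSeitz

open Subgroup MulAction

/-! ### Lifting -/

theorem isNilpotent_zpowers {G : Type*} [Group G] (x : G) : Group.IsNilpotent (zpowers x) := by
  letI := IsCyclic.commGroup (α := zpowers x)
  exact CommGroup.isNilpotent

/-- In a central extension of a `p'`-group by a `p`-group the `p'`-elements form a subgroup. -/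
theorem exists_lift {G : Type*} [Group G] [Finite G] {p : ℕ} [hp : Fact p.Prime] (B C : Subgroup G)
    (hCB : C ≤ B) (hCc : ∀ c ∈ C, ∀ x ∈ B, c * x = x * c) (hCp : IsPGroup p C)
    (hB : ∀ x ∈ B, ∃ m : ℕ, m.Coprime p ∧ x ^ m ∈ C) :
    ∃ S ≤ B, (∀ x, x ∈ S ↔ x ∈ B ∧ (orderOf x).Coprime p) ∧
      ∀ x ∈ B, ∃ c ∈ C, ∃ s ∈ S, x = c * s := by
  let C' : Subgroup B := C.subgroupOf B
  have hC'n : C'.Normal := ⟨by
    rintro ⟨c, hcB⟩ hc ⟨x, hx⟩
    change x * c * x⁻¹ ∈ C
    have hc' : c ∈ C := hc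
    rw [← hCc c hc' x hx, mul_assoc, mul_inv_cancel, mul_one]
    exact hc'⟩
  have hC'p : IsPGroup p C' := by
    rintro ⟨⟨c, hcB⟩, hc⟩
    obtain ⟨k, hk⟩ := hCp ⟨c, hc⟩
    have hk' : c ^ p ^ k = 1 := congrArg Subtype.val hk
    exact ⟨k, Subtype.ext (Subtype.ext hk')⟩
  have hidx : C'.index.Coprime p := by
    rw [Nat.coprime_comm, Nat.Prime.coprime_iff_not_dvd hp.out]
    intro hdvd
    rw [Subgroup.index_eq_card] at hdvd
    obtain ⟨y, hy⟩ := exists_prime_orderOf_dvd_card' p hdvd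
    obtain ⟨x, rfl⟩ := QuotientGroup.mk_surjective y
    obtain ⟨m, hm, hxm⟩ := hB x.1 x.2
    have h1 : (x : B ⧸ C') ^ m = 1 := by
      rw [← QuotientGroup.mk_pow, QuotientGroup.eq_one_iff]
      exact hxm
    have h2 := orderOf_dvd_of_pow_eq_one h1
    rw [hy] at h2
    exact hp.out.one_lt.ne' (Nat.Coprime.eq_one_of_dvd hm.symm h2)
  have hcop : (Nat.card C').Coprime C'.index := by
    obtain ⟨n, hn⟩ := IsPGroup.iff_card.1 hC'p
    rw [hn]
    exact Nat.Coprime.pow_left n hidx.symm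
  obtain ⟨K, hK⟩ := Subgroup.exists_right_complement'_of_coprime hcop
  have hKcard : Nat.card K = C'.index := hK.symm.index_eq_card.symm
  have hdec : ∀ x : B, ∃ c ∈ C', ∃ k ∈ K, x = c * k := by
    intro x
    obtain ⟨⟨c, k⟩, hck⟩ := hK.2 x
    exact ⟨c.1, c.2, k.1, k.2, hck.symm⟩
  have key : ∀ x : B, x ∈ K ↔ (orderOf x).Coprime p := by
    intro x
    constructor
    · intro hx
      have h1 : orderOf x ∣ Nat.card K := by
        have := orderOf_dvd_natCard (⟨x, hx⟩ : K)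
        rwa [Subgroup.orderOf_mk] at this
      rw [hKcard] at h1
      exact Nat.Coprime.coprime_dvd_left h1 hidx
    · intro hx
      obtain ⟨c, hc, k, hk, rfl⟩ := hdec x
      have hcomm : Commute c k := Subtype.ext (hCc c.1 hc k.1 k.2)
      set m := Nat.card K with hm
      have hk1 : k ^ m = 1 := by
        have := pow_card_eq_one' (x := (⟨k, hk⟩ : K))
        exact congrArg Subtype.val this
      have h1 : (c * k) ^ m = c ^ m := by
        rw [hcomm.mul_pow, hk1, mul_one]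
      obtain ⟨j, hj⟩ := hC'p ⟨c, hc⟩
      have hj' : c ^ p ^ j = 1 := congrArg Subtype.val hj
      have h2 : c ^ m = 1 := by
        have h3 : orderOf (c ^ m) ∣ p ^ j := by
          apply orderOf_dvd_of_pow_eq_one
          rw [← pow_mul, mul_comm, pow_mul, hj', one_pow]
        have h4 : orderOf (c ^ m) ∣ orderOf (c * k) := by
          rw [← h1]
          exact orderOf_pow_dvd m
        have h5 : (orderOf (c ^ m)).Coprime (p ^ j) :=
          Nat.Coprime.pow_right j (Nat.Coprime.coprime_dvd_left h4 hx)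
        exact orderOf_eq_one_iff.1 (Nat.Coprime.eq_one_of_dvd h5 h3)
      have h3 : c = 1 := by
        have h6 : orderOf c ∣ m := orderOf_dvd_of_pow_eq_one h2
        have h7 : orderOf c ∣ p ^ j := orderOf_dvd_of_pow_eq_one hj'
        have h8 : m.Coprime (p ^ j) := Nat.Coprime.pow_right j (by rw [hKcard]; exact hidx)
        exact orderOf_eq_one_iff.1 (Nat.Coprime.eq_one_of_dvd (Nat.Coprime.coprime_dvd_left h6 h8) h7)
      rw [h3, one_mul]
      exact hk
  refine ⟨K.map B.subtype, ?_, fun x => ⟨?_, ?_⟩, fun x hx => ?_⟩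
  · rintro _ ⟨k, -, rfl⟩
    exact k.2
  · rintro ⟨k, hk, rfl⟩
    refine ⟨k.2, ?_⟩
    have := (key k).1 hk
    rwa [← Subgroup.orderOf_coe] at this
  · rintro ⟨hx, hx'⟩
    refine ⟨⟨x, hx⟩, (key _).2 ?_, rfl⟩
    rwa [Subgroup.orderOf_mk]
  · obtain ⟨c, hc, k, hk, hck⟩ := hdec ⟨x, hx⟩
    exact ⟨c.1, hc, k.1, ⟨k, hk, rfl⟩, congrArg Subtype.val hck⟩

/-- the setwise stabiliser -/
def setStab {G Ω : Type*} [Group G] [MulAction G Ω] (Δ : Set Ω) : Subgroup G where
  carrier := {g | ∀ e, e ∈ Δ ↔ g • e ∈ Δ}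
  one_mem' := fun e => by rw [one_smul]
  mul_mem' := by
    rintro u v hu hv e
    rw [mul_smul, hv e, hu (v • e)]
  inv_mem' := by
    rintro u hu e
    rw [hu (u⁻¹ • e), smul_inv_smul]

theorem mem_setStab {G Ω : Type*} [Group G] [MulAction G Ω] {Δ : Set Ω} {g : G} :
    g ∈ setStab Δ ↔ ∀ e, e ∈ Δ ↔ g • e ∈ Δ := Iff.rfl

theorem mem_setStab_of {G Ω : Type*} [Group G] [MulAction G Ω] [Finite Ω] {Δ : Set Ω} {g : G}
    (hg : ∀ e ∈ Δ, g • e ∈ Δ) : g ∈ setStab Δ := by
  intro e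
  refine ⟨hg e, fun he => ?_⟩
  have hfin : Δ.Finite := Set.toFinite _
  have hsub : (fun e => g • e) '' Δ ⊆ Δ := by
    rintro _ ⟨f, hf, rfl⟩
    exact hg f hf
  have heq : (fun e => g • e) '' Δ = Δ :=
    Set.eq_of_subset_of_ncard_le hsub (by
      rw [Set.ncard_image_of_injective _ (MulAction.injective g)]) hfin
  have : g • e ∈ (fun e => g • e) '' Δ := by rw [heq]; exact he
  obtain ⟨f, hf, hfe⟩ := this
  have := MulAction.injective g hfe
  rwa [this] at hf

/-- the group generated by the centres of the `p`-parts for the points of a line -/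
def AL {G Ω : Type*} [Group G] [MulAction G Ω] (p : ℕ) (U : Ω → Subgroup G) (a b : Ω) : Subgroup G :=
  closure {z | ∃ c ∈ L p U a b, z ∈ Z p U c}

namespace KS

/-! ### Parity -/

section parity

variable {G Ω : Type*} [Group G] [Finite G] [MulAction G Ω] [Finite Ω] {U : Ω → Subgroup G}

theorem card_U (h : KS U) (a b : Ω) : Nat.card (U a) = Nat.card (U b) := by
  obtain ⟨g, rfl⟩ := h.tr a b
  refine Nat.card_congr ⟨fun x => ⟨g * x.1 * g⁻¹, h.conj g x.2⟩, fun x => ⟨g⁻¹ * x.1 * g, ?_⟩, ?_, ?_⟩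
  · have := h.conj g⁻¹ x.2
    rwa [inv_smul_smul, inv_inv] at this
  · intro x
    apply Subtype.ext
    change g⁻¹ * (g * x.1 * g⁻¹) * g = x.1
    group
  · intro x
    apply Subtype.ext
    change g * (g⁻¹ * x.1 * g) * g⁻¹ = x.1
    group

theorem even_of_odd (h : KS U) {a b : Ω} (hab : a ≠ b) (hodd : Odd (Nat.card (U a))) :
    Even (Nat.card Ω) := by
  have h1 := MulAction.index_stabilizer (U a) b
  have h2 : MulAction.orbit (U a) b = {a}ᶜ := by
    ext c
    rw [Set.mem_compl_iff, Set.mem_singleton_iff]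
    constructor
    · rintro ⟨x, rfl⟩ hc
      have h3 : x.1 • b = a := hc
      have h4 : x.1 • b = x.1 • a := by rw [h3, h.fix x.2]
      exact hab (MulAction.injective x.1 h4).symm
    · intro hc
      obtain ⟨x, hx, hxb⟩ := h.trans hab.symm hc
      exact ⟨⟨x, hx⟩, hxb⟩
  rw [h2, Set.ncard_compl, Set.ncard_singleton] at h1
  have h3 : (MulAction.stabilizer (U a) b).index ∣ Nat.card (U a) := Subgroup.index_dvd_card _
  rw [h1] at h3
  have h4 := Odd.of_dvd_nat hodd h3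
  have h5 : 0 < Nat.card Ω := Nat.card_pos_iff.2 ⟨⟨a⟩, inferInstance⟩
  obtain ⟨k, hk⟩ := h4
  exact ⟨k + 1, by omega⟩

theorem odd_card [FaithfulSMul G Ω] (h : KS U) (hev : Even (Nat.card Ω)) (a : Ω) :
    Odd (Nat.card (U a)) := by
  haveI : Fact (Nat.Prime 2) := ⟨Nat.prime_two⟩
  -- the `2`-part is trivial
  have h1 : pP 2 (U a) = ⊥ := by
    have hcard := (isPGroup_pP (p := 2) (h.nil a)).card_modEq_card_fixedPoints Ω
    have hev' : Even (Nat.card (fixedPoints (pP 2 (U a)) Ω)) := by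
      rw [even_iff_two_dvd] at hev ⊢
      exact (Nat.modEq_zero_iff_dvd.1 (hcard.symm.trans (Nat.modEq_zero_iff_dvd.2 hev)))
    have ha : a ∈ fixedPoints (pP 2 (U a)) Ω := fun x => h.fix (pP_le 2 _ x.2)
    have hpos : 0 < Nat.card (fixedPoints (pP 2 (U a)) Ω) := Nat.card_pos_iff.2 ⟨⟨⟨a, ha⟩⟩, inferInstance⟩
    have h2 : 1 < Nat.card (fixedPoints (pP 2 (U a)) Ω) := by
      obtain ⟨k, hk⟩ := hev'
      omega
    have := Finite.one_lt_card_iff_nontrivial.1 h2
    obtain ⟨⟨b, hb⟩, hba⟩ := exists_ne (⟨a, ha⟩ : fixedPoints (pP 2 (U a)) Ω)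
    have hba' : b ≠ a := fun e => hba (Subtype.ext e)
    rw [eq_bot_iff_forall]
    intro x hx
    apply eq_one_of_fix (Ω := Ω)
    intro c
    by_cases hca : c = a
    · rw [hca, h.fix (pP_le 2 _ hx)]
    · obtain ⟨y, hy, rfl⟩ := h.trans hba' hca
      have h3 := h.conj_pP_of_fix (p := 2) (g := y⁻¹) (a := a) (by rw [inv_smul_eq_iff, h.fix hy]) hx
      have h4 : (y⁻¹ * x * y⁻¹⁻¹) • b = b := hb ⟨_, h3⟩
      rw [inv_inv, mul_smul, mul_smul, inv_smul_eq_iff] at h4
      exact h4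
  rw [← Nat.not_even_iff_odd, even_iff_two_dvd]
  intro h2
  obtain ⟨⟨x, hx⟩, hx2⟩ := exists_prime_orderOf_dvd_card' 2 h2
  rw [Subgroup.orderOf_mk] at hx2
  have h3 : x ∈ pP 2 (U a) := mem_pP_of hx (k := 1) (by rw [pow_one, ← hx2, pow_orderOf_eq_one])
  rw [h1, mem_bot] at h3
  rw [h3, orderOf_one] at hx2
  omega

end parity

/-! ### Lemma I -/

section LemmaI

universe v

variable {G Ω : Type v} [Group G] [Finite G] [MulAction G Ω] [Finite Ω] [FaithfulSMul G Ω]
  {U : Ω → Subgroup G} {p : ℕ} [hp : Fact p.Prime]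

theorem lemmaI (h : KS U) (IH : EvenHyp.{v} (Nat.card Ω)) (hev : Even (Nat.card Ω)) {a b : Ω}
    (hab : a ≠ b) {Y : Subgroup G} (hY1 : Y ≠ ⊥) (hYa : ∀ y ∈ Y, y • a = a)
    (hYb : ∀ y ∈ Y, y • b = b) (hYX : ∀ x ∈ X p U a b, ∀ y ∈ Y, x * y = y * x)
    (hcop : (Nat.card Y).Coprime (Nat.card (U a))) {c : Ω} (hc : ∀ y ∈ Y, y • c = c) :
    c ∈ L p U a b := by
  by_cases hca : c = a
  · rw [hca]
    exact h.left_mem_L a b
  by_cases hcb : c = b
  · rw [hcb]
    exact right_mem_L a b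
  let Δ : Set Ω := {d | ∀ y ∈ Y, y • d = d}
  let N : Subgroup G := centralizer (Y : Set G)
  have hΔ : ∀ g ∈ N, ∀ d ∈ Δ, g • d ∈ Δ := by
    intro g hg d hd y hy
    rw [← mul_smul, mem_centralizer_iff.1 hg y hy, mul_smul, hd y hy]
  have htrans : ∀ d ∈ Δ, ∀ e ∈ Δ, ∀ f ∈ Δ, e ≠ d → f ≠ d → ∃ x ∈ U d, x ∈ N ∧ x • e = f := by
    intro d hd e he f hf hed hfd
    obtain ⟨x, hx, hxe⟩ := h.trans hed hfd
    obtain ⟨z, hz, hzY, hze⟩ := Cfsg.Agent.Solvable.Glauberman.exists_centralizer_smul Y (U d)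
      (fun y hy => by
        rw [mem_normalizer_iff]
        intro u
        have := h.conj_iff y (a := d) (x := u)
        rw [hd y hy] at this
        exact this.symm)
      (by rw [h.card_U d a]; exact hcop)
      (Or.inr (by have := h.nil d; exact inferInstance)) e f he hf hx hxe
    exact ⟨z, hz, hzY, hze⟩
  have hthird : ∀ d ∈ Δ, ∀ e ∈ Δ, ∃ f ∈ Δ, f ≠ d ∧ f ≠ e := by
    intro d _ e _
    by_cases h1 : a ≠ d ∧ a ≠ e
    · exact ⟨a, hYa, h1⟩
    by_cases h2 : b ≠ d ∧ b ≠ e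
    · exact ⟨b, hYb, h2⟩
    refine ⟨c, hc, ?_, ?_⟩
    · rintro rfl
      push Not at h1 h2
      exact hab ((h1 (Ne.symm hca)).trans (h2 (Ne.symm hcb)).symm)
    · rintro rfl
      apply hab
      have h3 : a = d := by
        by_contra h4
        exact hca (h1 ⟨h4, Ne.symm hca⟩).elim
      have h5 : b = d := by
        by_contra h4
        exact (h2 ⟨h4, Ne.symm hcb⟩).elim
      rw [h3, h5]
  have htr : ∀ d ∈ Δ, ∀ e ∈ Δ, ∃ g ∈ N, g • d = e := by
    intro d hd e he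
    obtain ⟨f, hf, hfd, hfe⟩ := hthird d hd e he
    obtain ⟨x, -, hxN, hxd⟩ := htrans f hf d hd e he (Ne.symm hfd) (Ne.symm hfe)
    exact ⟨x, hxN, hxd⟩
  letI := resAct N Δ hΔ
  have hKS : KS (fun c : Δ => (U c.1).subgroupOf N) :=
    restrict N Δ hΔ U (fun c _ x hx => h.fix hx) (fun g _ c _ x hx => h.conj g hx) htrans
      (fun a _ => h.nil a) htr
  have hodd := h.odd_card hev a
  have hodd' : Odd (Nat.card ((U a).subgroupOf N)) := by
    refine Odd.of_dvd_nat hodd ?_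
    have : Nat.card ((U a).subgroupOf N) = Nat.card ((U a ⊓ N : Subgroup G)) := by
      refine Nat.card_congr ⟨fun x => ⟨x.1.1, x.2, x.1.2⟩, fun x => ⟨⟨x.1, x.2.2⟩, x.2.1⟩, fun _ => rfl,
        fun _ => rfl⟩
    rw [this]
    exact Subgroup.card_dvd_of_le inf_le_left
  have hev' : Even (Nat.card Δ) := by
    refine hKS.even_of_odd (a := (⟨a, hYa⟩ : Δ)) (b := ⟨b, hYb⟩) (fun e => hab (congrArg Subtype.val e)) ?_
    exact hodd'
  have hlt : Nat.card Δ < Nat.card Ω := by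
    have hne : Δ ≠ Set.univ := by
      intro he
      apply hY1
      rw [eq_bot_iff_forall]
      intro y hy
      apply eq_one_of_fix (Ω := Ω)
      intro d
      have : d ∈ Δ := by rw [he]; trivial
      exact this y hy
    have := Set.ncard_lt_card hne
    rwa [← Nat.card_coe_set_eq] at this
  intro x hx
  have hxN : x ∈ N := by
    rw [mem_centralizer_iff]
    intro y hy
    exact (hYX x hx y hy).symm
  have := IH N Δ _ hKS hev' hlt ⟨a, hYa⟩ ⟨b, hYb⟩ (fun e => hab (congrArg Subtype.val e)) ⟨x, hxN⟩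
    (pP_le p (U a) (mem_X.1 hx).1) (Subtype.ext hx.2) ⟨c, hc⟩
  exact congrArg Subtype.val this

end LemmaI

/-! ### The group `AL` -/

section AL

variable {G Ω : Type*} [Group G] [Finite G] [MulAction G Ω] [Finite Ω] [FaithfulSMul G Ω]
  {U : Ω → Subgroup G} {p : ℕ} [hp : Fact p.Prime]

theorem Z_le_AL {a b c : Ω} (hc : c ∈ L p U a b) : Z p U c ≤ AL p U a b :=
  fun _ hz => subset_closure ⟨c, hc, hz⟩

theorem AL_comm_X (h : KS U) {a b : Ω} (hab : a ≠ b) {x : G} (hx : x ∈ X p U a b) {y : G}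
    (hy : y ∈ AL p U a b) : x * y = y * x := by
  have : AL p U a b ≤ centralizer ({x} : Set G) := by
    rw [AL, closure_le]
    rintro z ⟨c, hc, hz⟩
    rw [SetLike.mem_coe, mem_centralizer_iff]
    rintro _ rfl
    exact h.Z_comm_X hab hc hz hx
  exact mem_centralizer_iff.1 (this hy) x rfl

theorem AL_le_setStab (h : KS U) {a b : Ω} (hab : a ≠ b) : AL p U a b ≤ setStab (L p U a b) :=
  fun _ hy => mem_setStab_of (fun _ he => smul_mem_of_comm (fun _ hx => h.AL_comm_X hab hx hy) he)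

theorem AL_conj (h : KS U) {a b : Ω} {g : G} (hg : g ∈ setStab (L p U a b)) {y : G}
    (hy : y ∈ AL p U a b) : g * y * g⁻¹ ∈ AL p U a b := by
  have : AL p U a b ≤ (AL p U a b).comap (MulAut.conj g).toMonoidHom := by
    conv_lhs => rw [AL]
    rw [closure_le]
    rintro z ⟨c, hc, hz⟩
    exact subset_closure ⟨g • c, (hg c).1 hc, h.conj_Z g hz⟩
  exact this hy

/-- elements acting trivially on the line centralise `AL` -/
theorem AL_comm (h : KS U) {a b : Ω} (hab : a ≠ b) {w : G} (hw : ∀ c ∈ L p U a b, w • c = c) {y : G}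
    (hy : y ∈ AL p U a b) : w * y = y * w := by
  have : AL p U a b ≤ centralizer ({w} : Set G) := by
    rw [AL, closure_le]
    rintro z ⟨c, hc, hz⟩
    rw [SetLike.mem_coe, mem_centralizer_iff]
    intro w' hw'
    rw [Set.mem_singleton_iff] at hw'
    rw [hw']
    have hzS := h.AL_le_setStab hab (Z_le_AL hc hz)
    have hwc := hw c hc
    have h1 := h.conj_Z w hz
    rw [hwc] at h1
    have : ∃ d ∈ L p U a b, d ≠ c := by
      by_cases hca : c = a
      · exact ⟨b, right_mem_L a b, by rw [hca]; exact hab.symm⟩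
      · exact ⟨a, h.left_mem_L a b, Ne.symm hca⟩
    obtain ⟨d, hd, hdc⟩ := this
    have h2 : z⁻¹ * (w * z * w⁻¹) = 1 := by
      refine h.Z_semireg hdc (mul_mem (inv_mem hz) h1) ?_
      have hwd : w⁻¹ • d = d := by rw [inv_smul_eq_iff, hw d hd]
      rw [mul_smul, mul_smul, mul_smul, hwd, hw _ ((hzS d).1 hd), inv_smul_smul]
    have h3 : w * z * w⁻¹ = z := by
      rw [inv_mul_eq_one] at h2
      exact h2.symm
    calc w * z = w * z * w⁻¹ * w := by group
      _ = z * w := by rw [h3]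
  exact mem_centralizer_iff.1 (this hy) w rfl

/-- Lifting: given a subgroup `B` of `AL` modulo the kernel of `p'`-order, the `p'`-elements of `B` form a
subgroup. -/
theorem exists_lift_AL (h : KS U) {a b : Ω} (hab : a ≠ b) {B : Subgroup G} (hB : B ≤ AL p U a b)
    (hBm : ∀ x ∈ B, ∃ m : ℕ, m.Coprime p ∧ ∀ c ∈ L p U a b, x ^ m • c = c) :
    ∃ S ≤ B, (∀ x, x ∈ S ↔ x ∈ B ∧ (orderOf x).Coprime p) ∧
      ∀ x ∈ B, ∃ s ∈ S, ∀ c ∈ L p U a b, s • c = x • c := by
  let C : Subgroup G := B ⊓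
    { carrier := {g | ∀ c ∈ L p U a b, g • c = c}
      one_mem' := fun c _ => one_smul G c
      mul_mem' := by
        intro u v hu hv c hc
        rw [mul_smul, hv c hc, hu c hc]
      inv_mem' := by
        intro u hu c hc
        rw [inv_smul_eq_iff, hu c hc] }
  have hCc : ∀ c ∈ C, ∀ x ∈ B, c * x = x * c := fun c hc x hx => h.AL_comm hab hc.2 (hB hx)
  have hCp : IsPGroup p C := by
    rintro ⟨x, hx⟩
    obtain ⟨y, hy, z, hz, hyz, hyx, hzx⟩ := exists_mul_parts (p := p) (H := zpowers x) (mem_zpowers x)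
    have hzo : (orderOf z).Coprime p :=
      ((mem_pR (H := zpowers x) (isNilpotent_zpowers x)).1 hz).2
    have hzC : z ∈ C := by
      have : zpowers x ≤ C := by rwa [zpowers_le]
      exact this hzx
    have hz1 : z = 1 := h.eq_one_of_fix_line hab hzC.2
      (fun u hu => h.AL_comm_X hab hu (hB hzC.1)) hzo
    rw [hz1, mul_one] at hyz
    obtain ⟨k, hk⟩ := ((mem_pP (H := zpowers x) (isNilpotent_zpowers x)).1 hy).2
    rw [← hyz] at hk
    exact ⟨k, Subtype.ext hk⟩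
  obtain ⟨S, hSB, hS, hdec⟩ := exists_lift B C inf_le_left hCc hCp (fun x hx => by
    obtain ⟨m, hm, hxm⟩ := hBm x hx
    exact ⟨m, hm, pow_mem hx m, hxm⟩)
  refine ⟨S, hSB, hS, fun x hx => ?_⟩
  obtain ⟨c, hc, s, hs, rfl⟩ := hdec x hx
  refine ⟨s, hs, fun e he => ?_⟩
  rw [mul_smul, hc.2 _ ((h.AL_le_setStab hab (hB (hSB hs)) e).1 he)]

end AL

end KS

end Cfsg.Agent.KantorSeitz
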