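import Cfsg.Agent.KantorSeitz.Odd
import Cfsg.Agent.AschCrit.Final
import Cfsg.Agent.AschCrit.CommThree
import Cfsg.Agent.StrongEmb.Main

/-!
# The Kantor–Seitz theorem in odd degree, unconditional
-/

set_option autoImplicit false

universe u

namespace Cfsg.Agent.KantorSeitz

/-- Aschbacher's criterion: simple groups in the set-up have no bad involutions -/
theorem noBadBelow (N : ℕ) : AschCrit.BGroup.NoBadBelow.{u} N :=
  AschCrit.Frame.noBadBelow_of_step
    (AschCrit.Final.stepHolds (fun _ _ _ hK => S0205.result hK)
      (fun X _ _ => StrongEmb.Main.bender X) AschCrit.CommThree.caseThree) N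

/-- the odd degree case of the Kantor–Seitz theorem -/
theorem oddConcl_all : OddConcl.{u} :=
  oddConcl noBadBelow (fun X _ _ => StrongEmb.Main.bender X)

end Cfsg.Agent.KantorSeitz
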