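import Cfsg.Agent.KantorSeitz.RankOneMore
import Cfsg.Agent.S1122

/-!
# Involutory automorphisms of a simple rank-one set-up centralising the two-point stabiliser

`fix_all` : let `(L, Ω, a, t, Q)` be a simple faithful rank-one set-up of `2`-rank at least two, `x` a
permutation of `Ω` with `x² = 1` inducing the automorphism `σ` of `L`, `x` fixing `a` and `t a`, `σ` normalising
`Q` and centralising the two-point stabiliser. Then `x = 1`.
-/

set_option autoImplicit false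
set_option linter.unusedSectionVars false

open Cfsg

namespace Cfsg.Agent.KantorSeitz.OddX

open MulAction SuzukiRankOne LieRecognition

/-! ### Counting pairs -/

theorem card_pairs {H Ω : Type*} [Group H] [Finite H] [MulAction H Ω] [Finite Ω] {a b : Ω}
    (hab : a ≠ b) (S : Set Ω) (hinv : ∀ h : H, ∀ c ∈ S, h • c ∈ S) (ha : a ∈ S) (hb : b ∈ S)
    (htr : ∀ c ∈ S, ∀ d ∈ S, c ≠ d → ∃ h : H, h • a = c ∧ h • b = d) :
    Nat.card H = Nat.card ↥(stabilizer H a ⊓ stabilizer H b) * (S.ncard * S.ncard - S.ncard) := by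
  classical
  have h1 : orbit H ((a, b) : Ω × Ω) = S.offDiag := by
    ext ⟨c, d⟩
    rw [Set.mem_offDiag]
    constructor
    · rintro ⟨h, hh⟩
      have h2 : h • a = c := congrArg Prod.fst hh
      have h3 : h • b = d := congrArg Prod.snd hh
      exact ⟨by rw [← h2]; exact hinv h a ha, by rw [← h3]; exact hinv h b hb, fun e =>
        hab (smul_left_cancel h (by rw [h2, h3]; exact e))⟩
    · rintro ⟨hc, hd, hcd⟩
      obtain ⟨h, h2, h3⟩ := htr c hc d hd hcd
      exact ⟨h, Prod.ext h2 h3⟩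
  have h2 : stabilizer H ((a, b) : Ω × Ω) = stabilizer H a ⊓ stabilizer H b := by
    ext h
    rw [mem_stabilizer_iff, Subgroup.mem_inf, mem_stabilizer_iff, mem_stabilizer_iff]
    constructor
    · intro e
      exact ⟨congrArg Prod.fst e, congrArg Prod.snd e⟩
    · rintro ⟨e1, e2⟩
      exact Prod.ext e1 e2
  have h3 : S.offDiag.ncard = S.ncard * S.ncard - S.ncard := by
    have : Fintype Ω := Fintype.ofFinite Ω
    rw [Set.ncard_eq_toFinset_card', Set.toFinset_offDiag, Finset.offDiag_card,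
      ← Set.ncard_eq_toFinset_card']
  rw [← Subgroup.card_mul_index (stabilizer H ((a, b) : Ω × Ω)), index_stabilizer, h2, h1, h3]

/-! ### Arithmetic -/

theorem arith_two {k e : ℕ} (hk : k ≤ e) (he : e ≤ 2 * k) (h : 2 ^ e + 1 ∣ 2 ^ (2 * k) + 1) :
    e = 2 * k := by
  obtain ⟨r, hr⟩ := Nat.exists_eq_add_of_le he
  have h1 : 2 ^ e + 1 ∣ 2 ^ r - 1 := by
    have h2 : 2 ^ (2 * k) + 1 + (2 ^ r - 1) = 2 ^ r * (2 ^ e + 1) := by
      have h3 : 1 ≤ 2 ^ r := Nat.one_le_two_pow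
      rw [hr, pow_add, mul_add, mul_one, mul_comm (2 ^ r)]
      omega
    exact (Nat.dvd_add_right h).1 (by rw [h2]; exact dvd_mul_left _ _)
  by_contra hne
  have hr0 : 0 < r := by omega
  have h4 : 2 ≤ 2 ^ r := by
    calc 2 = 2 ^ 1 := by norm_num
      _ ≤ 2 ^ r := Nat.pow_le_pow_right (by norm_num) hr0
  have h5 := Nat.le_of_dvd (by omega) h1
  have h6 : 2 ^ r ≤ 2 ^ e := Nat.pow_le_pow_right (by norm_num) (by omega)
  omega

theorem arith_three {k e : ℕ} (hk : k ≤ e) (he : e ≤ 3 * k) (h : 2 ^ e + 1 ∣ 2 ^ (3 * k) + 1) :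
    e = 3 * k ∨ e = k := by
  obtain ⟨r, hr⟩ := Nat.exists_eq_add_of_le he
  have h1 : 2 ^ e + 1 ∣ 2 ^ r - 1 := by
    have h2 : 2 ^ (3 * k) + 1 + (2 ^ r - 1) = 2 ^ r * (2 ^ e + 1) := by
      have h3 : 1 ≤ 2 ^ r := Nat.one_le_two_pow
      rw [hr, pow_add, mul_add, mul_one, mul_comm (2 ^ r)]
      omega
    exact (Nat.dvd_add_right h).1 (by rw [h2]; exact dvd_mul_left _ _)
  by_cases hr0 : r = 0
  · left; omega
  right
  have h4 : 2 ≤ 2 ^ r := by
    calc 2 = 2 ^ 1 := by norm_num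
      _ ≤ 2 ^ r := Nat.pow_le_pow_right (by norm_num) (by omega)
  have h5 := Nat.le_of_dvd (by omega) h1
  have h6 : e < r := by
    by_contra hlt
    have : 2 ^ r ≤ 2 ^ e := Nat.pow_le_pow_right (by norm_num) (by omega)
    omega
  obtain ⟨s, hs⟩ := Nat.exists_eq_add_of_lt h6
  have h7 : 2 ^ e + 1 ∣ 2 ^ (s + 1) + 1 := by
    have h8 : (2 ^ r - 1) + (2 ^ (s + 1) + 1) = 2 ^ (s + 1) * (2 ^ e + 1) := by
      have h3 : 1 ≤ 2 ^ r := Nat.one_le_two_pow
      have h9 : 2 ^ r = 2 ^ (s + 1) * 2 ^ e := by rw [← pow_add]; congr 1; omega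
      rw [mul_add, mul_one, ← h9]
      omega
    exact (Nat.dvd_add_right h1).1 (by rw [h8]; exact dvd_mul_left _ _)
  have h10 := Nat.le_of_dvd (by positivity) h7
  have h11 : e ≤ s + 1 := by
    by_contra hlt
    have h12 : 2 ^ (s + 1) < 2 ^ e := Nat.pow_lt_pow_right (by norm_num) (by omega)
    omega
  omega

/-! ### Coprime action -/

theorem pow_of_conj {L : Type*} [Group L] {d v w : L} (h1 : d * v * d⁻¹ = v * w)
    (h2 : d * w = w * d) (n : ℕ) : d ^ n * v * (d ^ n)⁻¹ = v * w ^ n := by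
  induction n with
  | zero => simp
  | succ n ih =>
    have h3 : d * w ^ n = w ^ n * d := (Commute.pow_right (show Commute d w from h2) n).eq
    calc d ^ (n + 1) * v * (d ^ (n + 1))⁻¹ = d * (d ^ n * v * (d ^ n)⁻¹) * d⁻¹ := by
          rw [pow_succ']; group
      _ = d * v * w ^ n * d⁻¹ := by rw [ih]; group
      _ = d * v * (d⁻¹ * (d * w ^ n)) * d⁻¹ := by group
      _ = d * v * (d⁻¹ * (w ^ n * d)) * d⁻¹ := by rw [h3]
      _ = (d * v * d⁻¹) * w ^ n := by group
      _ = v * w ^ (n + 1) := by rw [h1, pow_succ']; group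

theorem eq_one_of_conj {L : Type*} [Group L] {d v w : L} (hd : Odd (orderOf d))
    (h1 : d * v * d⁻¹ = v * w) (h2 : d * w = w * d) (hw : w ^ 4 = 1) : w = 1 := by
  have h3 := pow_of_conj h1 h2 (orderOf d)
  rw [pow_orderOf_eq_one] at h3
  have h4 : w ^ orderOf d = 1 := by
    have : v * w ^ orderOf d = v * 1 := by rw [← h3]; group
    exact mul_left_cancel this
  have h5 : orderOf w ∣ 2 ^ 2 := orderOf_dvd_of_pow_eq_one (by norm_num; exact hw)
  have h6 : orderOf w ∣ orderOf d := orderOf_dvd_of_pow_eq_one h4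
  have h7 : Nat.Coprime (2 ^ 2) (orderOf d) := Nat.Coprime.pow_left 2 (Nat.coprime_two_left.2 hd)
  exact orderOf_eq_one_iff.1 (Nat.eq_one_of_dvd_coprimes h7 h5 h6)

/-- an involutory automorphism `σ` of a group `Q` of exponent four type, fixing exactly the elements of `Z0`,
and an element `d` of odd order centralising `Z0`, inducing an automorphism commuting with `σ`. -/
theorem centralises {L : Type*} [Group L] {Q Z0 : Subgroup L} (σ : L ≃* L) (hσσ : ∀ l, σ (σ l) = l)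
    (hσQ : ∀ q ∈ Q, σ q ∈ Q) (hZc : ∀ x ∈ Z0, ∀ y ∈ Q, x * y = y * x)
    (hZ2 : ∀ x ∈ Z0, x * x = 1)
    (hsq : ∀ x ∈ Q, x * x ∈ Z0) (hF : ∀ q ∈ Q, σ q = q → q ∈ Z0) {d : L} (hd : Odd (orderOf d))
    (hdQ : ∀ q ∈ Q, d * q * d⁻¹ ∈ Q) (hσd : σ d = d) (hdZ : ∀ s ∈ Z0, d * s = s * d) :
    ∀ v ∈ Q, d * v = v * d := by
  -- commutators
  have hcomm : ∀ w ∈ Q, ∀ y ∈ Q, w⁻¹ * y⁻¹ * w * y ∈ Z0 := by
    intro w hw y hy
    have h1 : w⁻¹ * y⁻¹ * w * y = (w⁻¹ * w⁻¹) * ((w * y⁻¹) * (w * y⁻¹)) * (y * y) := by group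
    rw [h1]
    exact mul_mem (mul_mem (hsq _ (inv_mem hw)) (hsq _ (mul_mem hw (inv_mem hy)))) (hsq _ hy)
  have hfour : ∀ w ∈ Q, w ^ 4 = 1 := by
    intro w hw
    have h1 : w ^ 4 = (w * w) * (w * w) := by
      rw [← pow_two w, ← pow_add]
    rw [h1]
    exact hZ2 _ (hsq w hw)
  -- elements moved by central elements
  have hR : ∀ v ∈ Q, v⁻¹ * σ v ∈ Z0 → d * v = v * d := by
    intro v hv hvR
    obtain ⟨w, hw⟩ : ∃ w, w = v⁻¹ * (d * v * d⁻¹) := ⟨_, rfl⟩
    have hwQ : w ∈ Q := by rw [hw]; exact mul_mem (inv_mem hv) (hdQ v hv)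
    have hvw : d * v * d⁻¹ = v * w := by rw [hw]; group
    obtain ⟨u, hu⟩ : ∃ u, u = v⁻¹ * σ v := ⟨_, rfl⟩
    rw [← hu] at hvR
    have hσv : σ v = v * u := by rw [hu]; group
    have hσw : σ w = w := by
      have h1 : σ (v * w) = v * w * u := by
        rw [← hvw, map_mul, map_mul, map_inv, hσd, hσv]
        calc d * (v * u) * d⁻¹ = (d * v * d⁻¹) * (d * u) * d⁻¹ := by group
          _ = (d * v * d⁻¹) * u := by rw [hdZ u hvR]; group
      rw [map_mul, hσv] at h1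
      have h2 : v * (u * σ w) = v * (w * u) := by rw [← mul_assoc, h1, mul_assoc]
      have h3 : u * σ w = w * u := mul_left_cancel h2
      rw [hZc u hvR (σ w) (hσQ w hwQ)] at h3
      exact mul_right_cancel h3
    have hwZ : w ∈ Z0 := hF w hwQ hσw
    have hw1 : w = 1 := eq_one_of_conj hd hvw (hdZ w hwZ) (hfour w hwQ)
    rw [hw1, mul_one, mul_inv_eq_iff_eq_mul] at hvw
    exact hvw
  intro v hv
  obtain ⟨w, hw⟩ : ∃ w, w = v⁻¹ * (d * v * d⁻¹) := ⟨_, rfl⟩
  have hwQ : w ∈ Q := by rw [hw]; exact mul_mem (inv_mem hv) (hdQ v hv)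
  have hvw : d * v * d⁻¹ = v * w := by rw [hw]; group
  obtain ⟨y, hy⟩ : ∃ y, y = v⁻¹ * σ v := ⟨_, rfl⟩
  have hyQ : y ∈ Q := by rw [hy]; exact mul_mem (inv_mem hv) (hσQ v hv)
  have hσv : σ v = v * y := by rw [hy]; group
  -- `y` is moved by a central element
  have hσy : σ y = y⁻¹ := by rw [hy, map_mul, hσσ, map_inv, mul_inv_rev, inv_inv]
  have hyc : d * y = y * d := by
    apply hR y hyQ
    rw [hσy]
    exact hsq _ (inv_mem hyQ)
  have h1 : σ (v * w) = v * w * y := by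
    rw [← hvw, map_mul, map_mul, map_inv, hσd, hσv]
    calc d * (v * y) * d⁻¹ = (d * v * d⁻¹) * (d * y) * d⁻¹ := by group
      _ = (d * v * d⁻¹) * y := by rw [hyc]; group
  rw [map_mul, hσv] at h1
  have h2 : v * (y * σ w) = v * (w * y) := by rw [← mul_assoc, h1, mul_assoc]
  have h3 : y * σ w = w * y := mul_left_cancel h2
  have h4 : w⁻¹ * σ w = w⁻¹ * y⁻¹ * w * y := by
    calc w⁻¹ * σ w = w⁻¹ * y⁻¹ * (y * σ w) := by group
      _ = w⁻¹ * y⁻¹ * w * y := by rw [h3]; group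
  have h5 : d * w = w * d := hR w hwQ (by rw [h4]; exact hcomm w hwQ y hyQ)
  have hw1 : w = 1 := eq_one_of_conj hd hvw h5 (hfour w hwQ)
  rw [hw1, mul_one, mul_inv_eq_iff_eq_mul] at hvw
  exact hvw

/-! ### The main statement -/

variable {L Ω : Type*} [Group L] [Finite L] [MulAction L Ω] {a : Ω} {t : L} {Q : Subgroup L}

/-- **An involutory automorphism fixing two points and centralising the two-point stabiliser is trivial.** -/
theorem fix_all [FaithfulSMul L Ω] [IsSimpleGroup L] (hS : IsRankOneSetup L Ω a t Q)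
    (h2 : ∃ x y : L, x ≠ 1 ∧ y ≠ 1 ∧ x ≠ y ∧ x * x = 1 ∧ y * y = 1 ∧ x * y = y * x)
    (σ : L ≃* L) (x : Ω → Ω) (hσx : ∀ (l : L) (c : Ω), σ l • x c = x (l • c))
    (hσσ : ∀ l, σ (σ l) = l) (hxa : x a = a) (hxb : x (t • a) = t • a)
    (hσQ : ∀ q ∈ Q, σ q ∈ Q)
    (hσD : ∀ d ∈ stabilizer L a ⊓ stabilizer L (t • a), σ d = d) : ∀ c, x c = c := by
  classical
  have hfinΩ := RankOneBasic.finite_points hS
  have : Fact (Nat.Prime 2) := ⟨Nat.prime_two⟩
  obtain ⟨Z0, k, hZ0, hZc, hk2, hcardZ, hQ2, hcases⟩ := RankOneMore.structure_Q hS h2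
  have hba : t • a ≠ a := RankOneBasic.t_smul_ne hS
  -- it suffices that `σ` centralises `Q`
  have hend : (∀ q ∈ Q, σ q = q) → ∀ c, x c = c := by
    intro hq c
    by_cases hc : c = a
    · rw [hc, hxa]
    · obtain ⟨q, hqQ, rfl⟩ := RankOneBasic.exists_smul_t_smul hS hc
      rw [← hσx, hxb, hq q hqQ]
  -- `σ t = t`
  have hσt : σ t = t := by
    have h1 : σ t • a = t • a := by
      have := hσx t a
      rwa [hxa, hxb] at this
    have h3 : σ t • (t • a) = a := by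
      have := hσx t (t • a)
      rwa [hxb, RankOneBasic.t_smul_t_smul hS, hxa] at this
    have h4 : t⁻¹ * σ t ∈ stabilizer L a ⊓ stabilizer L (t • a) := by
      refine ⟨mem_stabilizer_iff.2 ?_, mem_stabilizer_iff.2 ?_⟩
      · rw [mul_smul, h1, inv_smul_smul]
      · rw [mul_smul, h3, RankOneBasic.t_inv hS]
    have h5 := hσD _ h4
    rw [map_mul, map_inv, hσσ] at h5
    have h6 : (t⁻¹ * σ t) * (t⁻¹ * σ t) = 1 := by
      nth_rewrite 1 [← h5]
      group
    have h7 := RankOneBasic.eq_one_of_fixes_two hS hba h6 (mem_stabilizer_iff.1 h4.2)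
      (mem_stabilizer_iff.1 h4.1)
    exact (inv_mul_eq_one.1 h7).symm
  -- `σ` fixes an involution of `Q`
  obtain ⟨s, hsQ, hs1, hs2, hσs⟩ : ∃ s, s ∈ Q ∧ s ≠ 1 ∧ s * s = 1 ∧ σ s = s := by
    obtain ⟨s, hsQ, hs1, hs2⟩ := RankOneBasic.exists_involution hS
    by_cases h1 : s * σ s = 1
    · refine ⟨s, hsQ, hs1, hs2, ?_⟩
      have h3 : s * σ s = s * s := by rw [h1, hs2]
      exact mul_left_cancel h3
    · have hc : s * σ s = σ s * s := hZc s ((hZ0 s).2 ⟨hsQ, hs2⟩) _ (hσQ s hsQ)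
      refine ⟨s * σ s, mul_mem hsQ (hσQ s hsQ), h1, ?_, ?_⟩
      · calc s * σ s * (s * σ s) = s * σ s * (σ s * s) := by rw [hc]
          _ = s * (σ s * σ s) * s := by group
          _ = 1 := by rw [← map_mul, hs2, map_one, mul_one, hs2]
      · rw [map_mul, hσσ, hc]
  -- `σ` fixes `Z0`
  have hσZ : ∀ y ∈ Z0, σ y = y := by
    intro y hy
    by_cases hy1 : y = 1
    · rw [hy1, map_one]
    · obtain ⟨hyQ, hy2⟩ := (hZ0 y).1 hy
      obtain ⟨d, hd, hdy⟩ := (S1122.result hS).2 s ⟨hS.le hsQ, hs1, hs2⟩ y ⟨hS.le hyQ, hy1, hy2⟩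
      rw [← hdy, map_mul, map_mul, map_inv, hσs, hσD d hd.1]
  -- the fixed elements
  let F : Subgroup L :=
    { carrier := {q | q ∈ Q ∧ σ q = q}
      one_mem' := ⟨one_mem _, map_one σ⟩
      mul_mem' := by
        rintro p q ⟨hp, hp'⟩ ⟨hq, hq'⟩
        exact ⟨mul_mem hp hq, by rw [map_mul, hp', hq']⟩
      inv_mem' := by
        rintro p ⟨hp, hp'⟩
        exact ⟨inv_mem hp, by rw [map_inv, hp']⟩ }
  let C : Subgroup L :=
    { carrier := {q | σ q = q}
      one_mem' := map_one σ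
      mul_mem' := by
        intro p q hp hq
        change σ (p * q) = p * q
        rw [map_mul, show σ p = p from hp, show σ q = q from hq]
      inv_mem' := by
        intro p hp
        change σ p⁻¹ = p⁻¹
        rw [map_inv, show σ p = p from hp] }
  have hFQ : F ≤ Q := fun q hq => hq.1
  have hFC : F ≤ C := fun q hq => hq.2
  have hZF : Z0 ≤ F := fun q hq => ⟨((hZ0 q).1 hq).1, hσZ q hq⟩
  obtain ⟨e, he⟩ := IsPGroup.iff_card.1 (hQ2.to_le hFQ)
  have hke : k ≤ e := by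
    have h1 := Nat.le_of_dvd Nat.card_pos (Subgroup.card_dvd_of_le hZF)
    rw [hcardZ, he] at h1
    exact (Nat.pow_le_pow_iff_right (by norm_num)).1 h1
  -- fixed points
  let S : Set Ω := {c | x c = c}
  have hFS : ∀ c ∈ S, c ≠ a → ∃ q ∈ F, q • (t • a) = c := by
    intro c hc hca
    obtain ⟨q, hqQ, rfl⟩ := RankOneBasic.exists_smul_t_smul hS hca
    refine ⟨q, ⟨hqQ, ?_⟩, rfl⟩
    refine RankOneBasic.eq_of_smul_eq_smul hS (hσQ q hqQ) hqQ hba ?_
    have h1 := hσx q (t • a)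
    rw [hxb, show x (q • (t • a)) = q • (t • a) from hc] at h1
    exact h1
  have hCS : ∀ l ∈ C, ∀ c ∈ S, l • c ∈ S := by
    intro l hl c hc
    change x (l • c) = l • c
    rw [← hσx, show σ l = l from hl, show x c = c from hc]
  have haS : a ∈ S := hxa
  have hbS : t • a ∈ S := hxb
  have hScard : S.ncard = 2 ^ e + 1 := by
    have h1 : S = insert a ((fun q : L => q • (t • a)) '' (F : Set L)) := by
      ext c
      constructor
      · intro hc
        by_cases hca : c = a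
        · exact Or.inl hca
        · obtain ⟨q, hq, hqc⟩ := hFS c hc hca
          exact Or.inr ⟨q, hq, hqc⟩
      · rintro (rfl | ⟨q, hq, rfl⟩)
        · exact haS
        · exact hCS q (hFC hq) _ hbS
    rw [h1, Set.ncard_insert_of_notMem, Set.InjOn.ncard_image, ← he]
    · congr 1
    · intro p hp q hq hpq
      exact RankOneBasic.eq_of_smul_eq_smul hS (hFQ hp) (hFQ hq) hba hpq
    · rintro ⟨q, hq, hqa⟩
      exact RankOneBasic.smul_ne_of_mem (hS.le (hFQ hq)) hba hqa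
  -- count
  have hc1 := card_pairs (H := C) hba.symm S (fun h c hc => hCS h h.2 c hc) haS hbS (by
    have h0 : ∀ c ∈ S, ∃ g ∈ C, g • a = c := by
      intro c hc
      by_cases hca : c = a
      · exact ⟨1, one_mem _, by rw [hca, one_smul]⟩
      · obtain ⟨q, hq, hqc⟩ := hFS c hc hca
        exact ⟨q * t, mul_mem (hFC hq) hσt, by rw [mul_smul, hqc]⟩
    intro c hc d hd hcd
    obtain ⟨g, hg, hgc⟩ := h0 c hc
    have h1 : g⁻¹ • d ∈ S := hCS _ (inv_mem hg) d hd
    have h3 : g⁻¹ • d ≠ a := by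
      intro h
      rw [inv_smul_eq_iff, hgc] at h
      exact hcd h.symm
    obtain ⟨q, hq, hqd⟩ := hFS _ h1 h3
    refine ⟨⟨g * q, mul_mem hg (hFC hq)⟩, ?_, ?_⟩
    · change (g * q) • a = c
      rw [mul_smul, mem_stabilizer_iff.1 (hS.le (hFQ hq)), hgc]
    · change (g * q) • (t • a) = d
      rw [mul_smul, hqd, smul_inv_smul])
  have hc2 := card_pairs (H := L) hba.symm (Set.univ : Set Ω) (fun _ _ _ => Set.mem_univ _)
    (Set.mem_univ _) (Set.mem_univ _) (fun c _ d _ hcd =>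
      RankOneBasic.exists_smul_pair hS hba.symm hcd)
  have hstab : Nat.card ↥(stabilizer C a ⊓ stabilizer C (t • a)) =
      Nat.card ↥(stabilizer L a ⊓ stabilizer L (t • a)) := by
    refine Nat.card_congr
      { toFun := fun g => ⟨(g : C), ⟨g.2.1, g.2.2⟩⟩
        invFun := fun g => ⟨⟨g, hσD g g.2⟩, ⟨g.2.1, g.2.2⟩⟩
        left_inv := fun g => rfl
        right_inv := fun g => rfl }
  have hdvd : (2 ^ e + 1) ∣ Nat.card Q + 1 := by
    have h1 := Subgroup.card_subgroup_dvd_card C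
    rw [hc1, hc2, hstab, Set.ncard_univ, RankOneBasic.card_points hS, hScard] at h1
    have h3 := Nat.dvd_of_mul_dvd_mul_left Nat.card_pos h1
    have h4 : (2 ^ e + 1) * (2 ^ e + 1) - (2 ^ e + 1) = (2 ^ e + 1) * 2 ^ e := by
      rw [mul_add (2 ^ e + 1), mul_one, Nat.add_sub_cancel]
    have h5 : (Nat.card Q + 1) * (Nat.card Q + 1) - (Nat.card Q + 1) =
        (Nat.card Q + 1) * Nat.card Q := by
      rw [mul_add (Nat.card Q + 1), mul_one, Nat.add_sub_cancel]
    rw [h4, h5] at h3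
    have h6 : (2 ^ e + 1) ∣ (Nat.card Q + 1) * Nat.card Q := (dvd_mul_right _ _).trans h3
    refine Nat.Coprime.dvd_of_dvd_mul_right ?_ h6
    obtain ⟨m, hm⟩ := IsPGroup.iff_card.1 hQ2
    rw [hm]
    apply Nat.Coprime.pow_right
    rw [Nat.coprime_two_right]
    refine Even.add_one ?_
    rw [Nat.even_pow]
    exact ⟨even_two, by omega⟩
  have hFle : 2 ^ e ≤ Nat.card Q := by
    rw [← he]
    exact Nat.le_of_dvd Nat.card_pos (Subgroup.card_dvd_of_le hFQ)
  have hFtop : Nat.card Q = 2 ^ e → ∀ q ∈ Q, σ q = q := by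
    intro h q hq
    have h1 : F = Q := Subgroup.eq_of_le_of_card_ge hFQ (by rw [he, h])
    rw [← h1] at hq
    exact hq.2
  rcases hcases with h | h | ⟨h, hsq, d, hd, hd1, hdc⟩
  · exact hend (fun q hq => hσZ q (h ▸ hq))
  · rw [h, ← pow_mul, mul_comm k 2] at hdvd hFle
    have h3 := arith_two hke ((Nat.pow_le_pow_iff_right (by norm_num)).1 hFle) hdvd
    exact hend (hFtop (by rw [h, ← pow_mul, mul_comm k 2, h3]))
  · rw [h, ← pow_mul, mul_comm k 3] at hdvd hFle
    rcases arith_three hke ((Nat.pow_le_pow_iff_right (by norm_num)).1 hFle) hdvd with h3 | h3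
    · exact hend (hFtop (by rw [h, ← pow_mul, mul_comm k 3, h3]))
    · -- the unitary case
      exfalso
      have hFZ : Z0 = F := Subgroup.eq_of_le_of_card_ge hZF (by rw [he, hcardZ, h3])
      have hdodd : Odd (orderOf d) := by
        have h4 : orderOf (⟨d, hd⟩ : ↥(stabilizer L a ⊓ stabilizer L (t • a))) ∣
          Nat.card ↥(stabilizer L a ⊓ stabilizer L (t • a)) := orderOf_dvd_natCard _
        rw [Subgroup.orderOf_mk] at h4
        exact Odd.of_dvd_nat hS.odd_card h4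
      have h5 := centralises (Z0 := Z0) σ hσσ hσQ hZc (fun y hy => ((hZ0 y).1 hy).2) hsq
        (fun q hq hq' => by rw [hFZ]; exact ⟨hq, hq'⟩) hdodd (hS.conj_mem d hd.1) (hσD d hd) hdc
      apply hd1
      apply FaithfulSMul.eq_of_smul_eq_smul (α := Ω)
      intro c
      rw [one_smul]
      by_cases hca : c = a
      · rw [hca]; exact hd.1
      · obtain ⟨q, hqQ, rfl⟩ := RankOneBasic.exists_smul_t_smul hS hca
        rw [← mul_smul, h5 q hqQ, mul_smul, mem_stabilizer_iff.1 hd.2]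

end Cfsg.Agent.KantorSeitz.OddX
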