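import Cfsg.Agent.KantorSeitz.EvenCases
import Cfsg.Agent.S0026
import Cfsg.Agent.Lib.CoprimeCommutator

/-!
# Equivariant families from a subgroup invariant under a point stabiliser; the second centre
-/

set_option autoImplicit false
set_option linter.unusedSectionVars false
set_option linter.style.haveILetI false

namespace Cfsg.Agent.KantorSeitz

open Subgroup MulAction
open scoped commutatorElement

/-- the equivariant family with value `N` at `a` -/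
def ofBase {G Ω : Type*} [Group G] [MulAction G Ω] (N : Subgroup G) (a c : Ω) : Subgroup G where
  carrier := {x | ∀ g : G, g • a = c → g⁻¹ * x * g ∈ N}
  one_mem' := fun g _ => by rw [mul_one, inv_mul_cancel]; exact one_mem _
  mul_mem' := by
    intro x y hx hy g h1
    have h3 : g⁻¹ * (x * y) * g = (g⁻¹ * x * g) * (g⁻¹ * y * g) := by group
    rw [h3]
    exact mul_mem (hx g h1) (hy g h1)
  inv_mem' := by
    intro x hx g h1
    have h3 : g⁻¹ * x⁻¹ * g = (g⁻¹ * x * g)⁻¹ := by group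
    rw [h3]
    exact inv_mem (hx g h1)

section OfBase

variable {G Ω : Type*} [Group G] [MulAction G Ω] {U : Ω → Subgroup G}

theorem mem_ofBase {N : Subgroup G} {a : Ω} (hinv : ∀ g : G, g • a = a → ∀ x ∈ N, g * x * g⁻¹ ∈ N)
    {c : Ω} {g : G} (hg : g • a = c) {x : G} : x ∈ ofBase N a c ↔ g⁻¹ * x * g ∈ N := by
  constructor
  · intro hx
    exact hx g hg
  · intro hx k hk
    have h1 : (k⁻¹ * g) • a = a := by rw [mul_smul, hg, ← hk, inv_smul_smul]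
    have h2 := hinv _ h1 _ hx
    have h3 : k⁻¹ * g * (g⁻¹ * x * g) * (k⁻¹ * g)⁻¹ = k⁻¹ * x * k := by group
    rwa [h3] at h2

theorem ofBase_self {N : Subgroup G} {a : Ω}
    (hinv : ∀ g : G, g • a = a → ∀ x ∈ N, g * x * g⁻¹ ∈ N) : ofBase N a a = N := by
  ext x
  rw [mem_ofBase hinv (one_smul G a), inv_one, one_mul, mul_one]

theorem isNilpotent_of_le {A B : Subgroup G} (hAB : A ≤ B) (hB : Group.IsNilpotent B) :
    Group.IsNilpotent A := by
  have := hB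
  have hf : Function.Injective (Subgroup.inclusion hAB) := Subgroup.inclusion_injective hAB
  exact Subgroup.isNilpotent_of_ker_le_center (Subgroup.inclusion hAB) (by
    rw [(MonoidHom.ker_eq_bot_iff _).2 hf]; exact bot_le)

theorem KS.ofBase (h : KS U) {a : Ω} {N : Subgroup G} (hNU : N ≤ U a)
    (hinv : ∀ g : G, g • a = a → ∀ x ∈ N, g * x * g⁻¹ ∈ N)
    (htr : ∀ b c : Ω, b ≠ a → c ≠ a → ∃ x ∈ N, x • b = c) : KS (KantorSeitz.ofBase N a) := by
  have hle : ∀ c, KantorSeitz.ofBase N a c ≤ U c := by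
    intro c x hx
    obtain ⟨g, rfl⟩ := h.tr a c
    have h1 := hNU (hx g rfl)
    have h2 := h.conj g h1
    have h3 : g * (g⁻¹ * x * g) * g⁻¹ = x := by group
    rwa [h3] at h2
  exact
    { fix := fun hx => h.fix (hle _ hx)
      conj := by
        intro g c x hx k hk
        have h1 := hx (g⁻¹ * k) (by rw [mul_smul, hk, inv_smul_smul])
        have h2 : (g⁻¹ * k)⁻¹ * x * (g⁻¹ * k) = k⁻¹ * (g * x * g⁻¹) * k := by group
        rwa [h2] at h1
      trans := by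
        intro c d e hd he
        obtain ⟨g, rfl⟩ := h.tr a c
        obtain ⟨x, hx, hxd⟩ := htr (g⁻¹ • d) (g⁻¹ • e) (by rw [Ne, inv_smul_eq_iff]; exact hd)
          (by rw [Ne, inv_smul_eq_iff]; exact he)
        refine ⟨g * x * g⁻¹, ?_, ?_⟩
        · rw [mem_ofBase hinv rfl]
          have h3 : g⁻¹ * (g * x * g⁻¹) * g = x := by group
          rwa [h3]
        · rw [mul_smul, mul_smul, hxd, smul_inv_smul]
      nil := fun c => isNilpotent_of_le (hle c) (h.nil c)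
      tr := h.tr }

/-- the elements of `P` central modulo `B` -/
def up (P B : Subgroup G) (hB : ∀ u ∈ P, ∀ x ∈ B, u * x * u⁻¹ ∈ B) : Subgroup G where
  carrier := {y | y ∈ P ∧ ∀ u ∈ P, y * u * y⁻¹ * u⁻¹ ∈ B}
  one_mem' := ⟨one_mem _, fun u _ => by
    have : (1 : G) * u * 1⁻¹ * u⁻¹ = 1 := by group
    rw [this]; exact one_mem _⟩
  mul_mem' := by
    rintro y y' ⟨hy, hy'⟩ ⟨hz, hz'⟩
    refine ⟨mul_mem hy hz, fun u hu => ?_⟩
    have h1 : y * y' * u * (y * y')⁻¹ * u⁻¹ = y * (y' * u * y'⁻¹ * u⁻¹) * y⁻¹ * (y * u * y⁻¹ * u⁻¹) := by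
      group
    rw [h1]
    exact mul_mem (hB y hy _ (hz' u hu)) (hy' u hu)
  inv_mem' := by
    rintro y ⟨hy, hy'⟩
    refine ⟨inv_mem hy, fun u hu => ?_⟩
    have h1 : y⁻¹ * u * y⁻¹⁻¹ * u⁻¹ = y⁻¹ * (y * u * y⁻¹ * u⁻¹)⁻¹ * y⁻¹⁻¹ := by group
    rw [h1]
    exact hB _ (inv_mem hy) _ (inv_mem (hy' u hu))

theorem mem_up {P B : Subgroup G} {hB : ∀ u ∈ P, ∀ x ∈ B, u * x * u⁻¹ ∈ B} {y : G} :
    y ∈ up P B hB ↔ y ∈ P ∧ ∀ u ∈ P, y * u * y⁻¹ * u⁻¹ ∈ B := Iff.rfl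

theorem up_conj {P B : Subgroup G} {hB : ∀ u ∈ P, ∀ x ∈ B, u * x * u⁻¹ ∈ B} {g : G}
    (hP : ∀ x, x ∈ P ↔ g * x * g⁻¹ ∈ P) (hgB : ∀ x ∈ B, g * x * g⁻¹ ∈ B) {y : G}
    (hy : y ∈ up P B hB) : g * y * g⁻¹ ∈ up P B hB := by
  rw [mem_up] at hy ⊢
  refine ⟨(hP y).1 hy.1, fun u hu => ?_⟩
  have hu' : g⁻¹ * u * g ∈ P := by
    rw [hP]
    have : g * (g⁻¹ * u * g) * g⁻¹ = u := by group
    rwa [this]
  have h1 := hgB _ (hy.2 _ hu')
  have h2 : g * (y * (g⁻¹ * u * g) * y⁻¹ * (g⁻¹ * u * g)⁻¹) * g⁻¹ =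
      g * y * g⁻¹ * u * (g * y * g⁻¹)⁻¹ * u⁻¹ := by group
  rwa [h2] at h1

theorem up_le {P B : Subgroup G} {hB : ∀ u ∈ P, ∀ x ∈ B, u * x * u⁻¹ ∈ B} : up P B hB ≤ P :=
  fun _ hx => hx.1

theorem le_up {P B : Subgroup G} {hB : ∀ u ∈ P, ∀ x ∈ B, u * x * u⁻¹ ∈ B} (hBP : B ≤ P) :
    B ≤ up P B hB := by
  intro x hx
  refine ⟨hBP hx, fun u hu => ?_⟩
  have h1 : x * u * x⁻¹ * u⁻¹ = x * (u * x⁻¹ * u⁻¹) := by group
  rw [h1]
  exact mul_mem hx (hB u hu _ (inv_mem hx))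

/-- coprime action -/
theorem exists_commutator_mul [Finite G] {A K : Subgroup G} (hAK : A ≤ normalizer (K : Set G))
    (hcop : (Nat.card A).Coprime (Nat.card K)) (hsolv : Group.IsSolvable K) {x : G} (hx : x ∈ K) :
    ∃ n ∈ (⁅K, A⁆ : Subgroup G), ∃ c ∈ K, (∀ s ∈ A, s * c = c * s) ∧ x = n * c := by
  have h1 := Cfsg.Agent.S0026.result A K hAK hcop (Or.inr hsolv)
  have h2 : K ⊓ centralizer (A : Set G) ≤ normalizer ((⁅K, A⁆ : Subgroup G) : Set G) :=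
    inf_le_left.trans (Cfsg.Agent.Lib.CoprimeCommutator.left_le_normalizer_commutator K A)
  have h3 := Subgroup.coe_mul_of_right_le_normalizer_left _ _ h2
  have h4 : x ∈ ((⁅K, A⁆ ⊔ (K ⊓ centralizer (A : Set G)) : Subgroup G) : Set G) := by
    rw [h1]; exact hx
  rw [h3] at h4
  obtain ⟨n, hn, c, hc, rfl⟩ := h4
  exact ⟨n, hn, c, hc.1, fun s hs => mem_centralizer_iff.1 hc.2 s hs, rfl⟩

end OfBase

end Cfsg.Agent.KantorSeitz
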