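import Mathlib
import Cfsg.Prelude.Def_Classical

/-!
# Centralisers of root groups in `PSU(3, 2 ^ n)`

`exists_torus` : in `PSU 3 F (2 ^ n)`, `|F| = (2 ^ n) ^ 2`, `n ≥ 2`, there is a non-identity element of odd
order commuting with `2 ^ n - 1` pairwise commuting involutions.
-/

set_option autoImplicit false
set_option linter.unusedSimpArgs false

namespace Cfsg.Agent.KantorSeitz.PSUTorus

open Matrix Cfsg

variable {F : Type*} [Field F]

/-- the unitary transvections with centre `(1,1,0)` -/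
def tv (l : F) : Matrix (Fin 3) (Fin 3) F := !![1 + l, l, 0; l, 1 + l, 0; 0, 0, 1]

/-- the matrix `diag(a, a, b)` -/
def dg (a b : F) : Matrix (Fin 3) (Fin 3) F := !![a, 0, 0; 0, a, 0; 0, 0, b]

/-- exchange of the first and third coordinate -/
def sw : Matrix (Fin 3) (Fin 3) F := !![0, 0, 1; 0, 1, 0; 1, 0, 0]

theorem tv_mul [CharP F 2] (l m : F) : tv l * tv m = tv (l + m) := by
  have h2 : (2 : F) = 0 := CharP.cast_eq_zero F 2
  ext i j
  fin_cases i <;> fin_cases j <;> simp [tv, Matrix.mul_apply, Fin.sum_univ_three] <;>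
    linear_combination (l * m) * h2

theorem tv_zero : tv (0 : F) = 1 := by
  ext i j
  fin_cases i <;> fin_cases j <;> simp [tv]

theorem dg_mul_tv (a b l : F) : dg a b * tv l = tv l * dg a b := by
  ext i j
  fin_cases i <;> fin_cases j <;> simp [tv, dg, Matrix.mul_apply, Fin.sum_univ_three] <;> ring

theorem dg_mul (a b c d : F) : dg a b * dg c d = dg (a * c) (b * d) := by
  ext i j
  fin_cases i <;> fin_cases j <;> simp [dg, Matrix.mul_apply, Fin.sum_univ_three]

theorem dg_one : dg (1 : F) 1 = 1 := by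
  ext i j
  fin_cases i <;> fin_cases j <;> simp [dg]

theorem det_tv [CharP F 2] (l : F) : (tv l).det = 1 := by
  have h2 : (2 : F) = 0 := CharP.cast_eq_zero F 2
  rw [Matrix.det_fin_three]
  simp [tv]
  linear_combination l * h2

theorem det_dg (a b : F) : (dg a b).det = a * a * b := by
  rw [Matrix.det_fin_three]
  simp [dg]

theorem det_sw [CharP F 2] : (sw (F := F)).det = 1 := by
  rw [Matrix.det_fin_three]
  simp [sw, CharTwo.neg_eq]

theorem herm_three (q : ℕ) (u v : Fin 3 → F) :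
    hermForm 3 F q u v = u 0 * v 0 ^ q + u 1 * v 1 ^ q + u 2 * v 2 ^ q := by
  simp [hermForm, Fin.sum_univ_three]

theorem tv_mem [CharP F 2] (n : ℕ) {l : F} (hl : l ^ 2 ^ n = l) (h : (tv l).det = 1) :
    (⟨tv l, h⟩ : SpecialLinearGroup (Fin 3) F) ∈ SU 3 F (2 ^ n) := by
  intro u v
  have h2 : (2 : F) = 0 := CharP.cast_eq_zero F 2
  change hermForm 3 F (2 ^ n) (tv l *ᵥ u) (tv l *ᵥ v) = hermForm 3 F (2 ^ n) u v
  rw [herm_three, herm_three]
  simp only [tv, Matrix.mulVec, dotProduct, Fin.sum_univ_three]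
  simp only [Matrix.of_apply, Matrix.cons_val', Matrix.cons_val_zero, Matrix.cons_val_one,
    Matrix.cons_val_two, Matrix.head_cons, Matrix.tail_cons, Matrix.cons_val_fin_one,
    Matrix.head_fin_const, Matrix.cons_val]
  simp only [add_pow_char_pow, mul_pow, one_pow, hl, zero_mul, add_zero, zero_add, one_mul]
  linear_combination (l * u 0 * v 0 ^ 2 ^ n + l * l * u 0 * v 0 ^ 2 ^ n + l * u 0 * v 1 ^ 2 ^ n +
    l * l * u 0 * v 1 ^ 2 ^ n + l * u 1 * v 0 ^ 2 ^ n + l * l * u 1 * v 0 ^ 2 ^ n +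
    l * u 1 * v 1 ^ 2 ^ n + l * l * u 1 * v 1 ^ 2 ^ n) * h2

theorem dg_mem (q : ℕ) {a b : F} (ha : a * a ^ q = 1) (hb : b * b ^ q = 1)
    (h : (dg a b).det = 1) :
    (⟨dg a b, h⟩ : SpecialLinearGroup (Fin 3) F) ∈ SU 3 F q := by
  intro u v
  change hermForm 3 F q (dg a b *ᵥ u) (dg a b *ᵥ v) = hermForm 3 F q u v
  rw [herm_three, herm_three]
  simp only [dg, Matrix.mulVec, dotProduct, Fin.sum_univ_three]
  simp only [Matrix.of_apply, Matrix.cons_val', Matrix.cons_val_zero, Matrix.cons_val_one,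
    Matrix.cons_val_two, Matrix.head_cons, Matrix.tail_cons, Matrix.cons_val_fin_one,
    Matrix.head_fin_const, Matrix.cons_val, zero_mul, add_zero, zero_add, mul_pow]
  linear_combination (u 0 * v 0 ^ q + u 1 * v 1 ^ q) * ha + u 2 * v 2 ^ q * hb

theorem sw_mem [CharP F 2] (q : ℕ) (h : (sw (F := F)).det = 1) :
    (⟨sw, h⟩ : SpecialLinearGroup (Fin 3) F) ∈ SU 3 F q := by
  intro u v
  change hermForm 3 F q (sw *ᵥ u) (sw *ᵥ v) = hermForm 3 F q u v
  rw [herm_three, herm_three]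
  simp only [sw, Matrix.mulVec, dotProduct, Fin.sum_univ_three]
  simp only [Matrix.of_apply, Matrix.cons_val', Matrix.cons_val_zero, Matrix.cons_val_one,
    Matrix.cons_val_two, Matrix.head_cons, Matrix.tail_cons, Matrix.cons_val_fin_one,
    Matrix.head_fin_const, Matrix.cons_val, zero_mul, add_zero, zero_add, one_mul]
  ring

/-- elements of `SU` -/
def tvS [CharP F 2] (n : ℕ) (l : F) (hl : l ^ 2 ^ n = l) : SU 3 F (2 ^ n) :=
  ⟨⟨tv l, det_tv l⟩, tv_mem n hl _⟩

def swS [CharP F 2] (q : ℕ) : SU 3 F q := ⟨⟨sw, det_sw⟩, sw_mem q _⟩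

theorem tvS_not_mem [CharP F 2] (n : ℕ) {l : F} (hl : l ^ 2 ^ n = l) (hl0 : l ≠ 0) :
    tvS n l hl ∉ Subgroup.center (SU 3 F (2 ^ n)) := by
  intro h
  have h1 := Subgroup.mem_center_iff.1 h (swS (2 ^ n))
  have h2 : (sw * tv l : Matrix (Fin 3) (Fin 3) F) = tv l * sw :=
    congrArg (fun x : SU 3 F (2 ^ n) => ((x : SpecialLinearGroup (Fin 3) F) :
      Matrix (Fin 3) (Fin 3) F)) h1
  have h3 := congrFun (congrFun h2 0) 2
  simp [sw, tv, Matrix.mul_apply, Fin.sum_univ_three] at h3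
  exact hl0 h3

theorem tvS_mul [CharP F 2] (n : ℕ) {l m : F} (hl : l ^ 2 ^ n = l) (hm : m ^ 2 ^ n = m)
    (hlm : (l + m) ^ 2 ^ n = l + m) : tvS n l hl * tvS n m hm = tvS n (l + m) hlm :=
  Subtype.ext (Subtype.ext (tv_mul l m))

theorem tvS_sq [CharP F 2] (n : ℕ) {l : F} (hl : l ^ 2 ^ n = l) : tvS n l hl * tvS n l hl = 1 := by
  apply Subtype.ext
  apply Subtype.ext
  change tv l * tv l = 1
  rw [tv_mul, CharTwo.add_self_eq_zero, tv_zero]

theorem exists_torus {F : Type*} [Field F] [Fintype F] {n : ℕ} (hn : 2 ≤ n)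
    (hF : Fintype.card F = (2 ^ n) ^ 2) :
    ∃ (Λ : Set F) (e : Λ → PSU 3 F (2 ^ n)) (g : PSU 3 F (2 ^ n)), 2 ^ n - 1 ≤ Λ.ncard ∧
      Function.Injective e ∧ (∀ i, e i ≠ 1 ∧ e i * e i = 1 ∧ g * e i = e i * g) ∧
      (∀ i j, e i * e j = e j * e i) ∧ g ≠ 1 ∧ Odd (orderOf g) := by
  classical
  -- characteristic two
  have hchar : CharP F 2 := by
    obtain ⟨p, hp⟩ := CharP.exists F
    obtain ⟨m, hpp, hm⟩ := FiniteField.card F p
    have h2 : p ∣ 2 := by
      have h3 : p ∣ (2 ^ n) ^ 2 := by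
        rw [← hF, hm]
        exact dvd_pow_self p m.pos.ne'
      rw [← pow_mul] at h3
      exact hpp.dvd_of_dvd_pow h3
    have h3 := (Nat.prime_dvd_prime_iff_eq hpp Nat.prime_two).1 h2
    rw [← h3]
    exact hp
  set q := 2 ^ n with hq
  have hq4 : 4 ≤ q := by
    calc 4 = 2 ^ 2 := by norm_num
      _ ≤ 2 ^ n := Nat.pow_le_pow_right (by norm_num) hn
  have hcardU : Fintype.card Fˣ = (q + 1) * (q - 1) := by
    rw [Fintype.card_units, hF]
    have h1 : q ^ 2 = q * q := pow_two q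
    rw [h1, Nat.add_mul, Nat.mul_sub, one_mul, mul_one]
    have h2 : q ≤ q * q := Nat.le_mul_self q
    omega
  have hfrob : ∀ x : F, x ^ q ^ 2 = x := fun x => by rw [← hF]; exact FiniteField.pow_card x
  -- the set of nonzero elements of the small field
  let φ : Fˣ →* Fˣ := powMonoidHom (q + 1)
  have hker : Nat.card φ.ker ≤ q + 1 := by
    have h1 : (Finset.univ.filter (fun x : Fˣ => x ^ (q + 1) = 1)).card ≤ q + 1 :=
      IsCyclic.card_pow_eq_one_le (by omega)
    have h2 : Nat.card φ.ker = (Finset.univ.filter (fun x : Fˣ => x ^ (q + 1) = 1)).card := by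
      rw [Nat.card_eq_fintype_card, Fintype.card_subtype]
      congr 1
      ext x
      simp only [Finset.mem_filter, Finset.mem_univ, true_and]
      exact MonoidHom.mem_ker
    rw [h2]
    exact h1
  have hrange : q - 1 ≤ Nat.card φ.range := by
    have h1 : Nat.card φ.ker * Nat.card φ.range = (q + 1) * (q - 1) := by
      rw [← hcardU, ← Nat.card_eq_fintype_card, ← Subgroup.card_mul_index φ.ker,
        Subgroup.index_ker]
    by_contra hlt
    push Not at hlt
    have h2 : Nat.card φ.ker * Nat.card φ.range < (q + 1) * (q - 1) :=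
      Nat.mul_lt_mul_of_le_of_lt hker hlt (by positivity)
    omega
  let Λ : Set F := {l | l ≠ 0 ∧ l ^ q = l}
  have hΛ : q - 1 ≤ Λ.ncard := by
    refine hrange.trans ?_
    have h1 : ((fun x : Fˣ => (x : F)) '' (φ.range : Set Fˣ)) ⊆ Λ := by
      rintro _ ⟨x, ⟨y, rfl⟩, rfl⟩
      refine ⟨Units.ne_zero _, ?_⟩
      change ((y ^ (q + 1) : Fˣ) : F) ^ q = ((y ^ (q + 1) : Fˣ) : F)
      rw [Units.val_pow_eq_pow_val, ← pow_mul]
      have h2 : (q + 1) * q = q ^ 2 + q := by ring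
      rw [h2, pow_add, hfrob, pow_succ, mul_comm]
    have h2 := Set.ncard_le_ncard h1 (Set.toFinite _)
    rw [Set.ncard_image_of_injective _ Units.val_injective] at h2
    calc Nat.card φ.range = (φ.range : Set Fˣ).ncard := Nat.card_coe_set_eq _
      _ ≤ _ := h2
  -- an element of order `q + 1`
  obtain ⟨γ, hγ⟩ := IsCyclic.exists_ofOrder_eq_natCard (α := Fˣ)
  rw [Nat.card_eq_fintype_card, hcardU] at hγ
  let α : Fˣ := γ ^ (q - 1)
  have hα : orderOf α = q + 1 := by
    have h1 : orderOf (γ ^ (q - 1)) = orderOf γ / (q - 1) :=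
      orderOf_pow_of_dvd (by omega) (by rw [hγ]; exact dvd_mul_left _ _)
    rw [hγ, Nat.mul_div_cancel _ (by omega : 0 < q - 1)] at h1
    exact h1
  have hα1 : α ^ (q + 1) = 1 := by rw [← hα]; exact pow_orderOf_eq_one α
  have hα3 : α ^ 3 ≠ 1 := by
    intro h
    have h1 := orderOf_dvd_of_pow_eq_one h
    rw [hα] at h1
    have := Nat.le_of_dvd (by norm_num) h1
    omega
  have hα1' : (α : F) ^ (q + 1) = 1 := by
    have := congrArg (fun x : Fˣ => (x : F)) hα1
    simpa using this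
  set a : F := (α : F) with ha
  have ha0 : a ≠ 0 := Units.ne_zero α
  set b : F := (a⁻¹) ^ 2 with hb
  have hab : a * a * b = 1 := by
    rw [hb]
    field_simp
  have haq : a * a ^ q = 1 := by rw [← hα1', pow_succ, mul_comm]
  have hbq : b * b ^ q = 1 := by
    have h1 : b ^ (q + 1) = 1 := by
      rw [hb, ← pow_mul, mul_comm, pow_mul, inv_pow, hα1', inv_one, one_pow]
    rw [← h1, pow_succ, mul_comm]
  have hne : a ≠ b := by
    intro h
    apply hα3
    apply Units.ext
    have h1 : a * a * a = 1 := by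
      conv_lhs => rw [mul_assoc, mul_comm]
      rw [← hab]
      conv_rhs => rw [← h]
    change ((α ^ 3 : Fˣ) : F) = 1
    rw [Units.val_pow_eq_pow_val, ← ha, ← h1]
    ring
  let gS : SU 3 F q := ⟨⟨dg a b, by rw [det_dg, hab]⟩, dg_mem q haq hbq _⟩
  let π := QuotientGroup.mk' (Subgroup.center (SU 3 F q))
  refine ⟨Λ, fun l => π (tvS n l.1 l.2.2), π gS, hΛ, ?_, ?_, ?_, ?_, ?_⟩
  · intro l m hlm
    have h1 : (tvS n l.1 l.2.2)⁻¹ * tvS n m.1 m.2.2 ∈ Subgroup.center (SU 3 F q) :=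
      QuotientGroup.eq.1 hlm
    have h2 : (tvS n l.1 l.2.2)⁻¹ = tvS n l.1 l.2.2 := inv_eq_of_mul_eq_one_left (tvS_sq n l.2.2)
    have h3 : (l.1 + m.1) ^ 2 ^ n = l.1 + m.1 := by
      rw [add_pow_char_pow]
      exact congrArg₂ (· + ·) l.2.2 m.2.2
    rw [h2, tvS_mul n l.2.2 m.2.2 h3] at h1
    by_contra hne'
    refine tvS_not_mem n h3 (fun h0 => hne' (Subtype.ext ?_)) h1
    exact CharTwo.add_eq_zero.1 h0
  · intro l
    refine ⟨?_, ?_, ?_⟩
    · intro h
      exact tvS_not_mem n l.2.2 l.2.1 ((QuotientGroup.eq_one_iff _).1 h)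
    · rw [← map_mul, tvS_sq, map_one]
    · rw [← map_mul, ← map_mul]
      congr 1
      exact Subtype.ext (Subtype.ext (dg_mul_tv a b l.1))
  · intro l m
    rw [← map_mul, ← map_mul]
    congr 1
    apply Subtype.ext
    apply Subtype.ext
    change tv l.1 * tv m.1 = tv m.1 * tv l.1
    rw [tv_mul, tv_mul, add_comm]
  · intro h
    have h1 := (QuotientGroup.eq_one_iff _).1 h
    have h2 := Subgroup.mem_center_iff.1 h1 (swS q)
    have h3 : (sw * dg a b : Matrix (Fin 3) (Fin 3) F) = dg a b * sw :=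
      congrArg (fun x : SU 3 F q => ((x : SpecialLinearGroup (Fin 3) F) :
        Matrix (Fin 3) (Fin 3) F)) h2
    have h4 := congrFun (congrFun h3 0) 2
    simp [sw, dg, Matrix.mul_apply, Fin.sum_univ_three] at h4
    exact hne h4.symm
  · have h1 : gS ^ (q + 1) = 1 := by
      apply Subtype.ext
      apply Subtype.ext
      change ((gS : SpecialLinearGroup (Fin 3) F) ^ (q + 1) : SpecialLinearGroup (Fin 3) F).1 = 1
      rw [Matrix.SpecialLinearGroup.coe_pow]
      change (dg a b) ^ (q + 1) = 1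
      have h2 : ∀ m : ℕ, (dg a b) ^ m = dg (a ^ m) (b ^ m) := by
        intro m
        induction m with
        | zero => rw [pow_zero, pow_zero, pow_zero, dg_one]
        | succ m ih => rw [pow_succ, ih, dg_mul, pow_succ, pow_succ]
      rw [h2, hα1']
      have h3 : b ^ (q + 1) = 1 := by rw [pow_succ, mul_comm, hbq]
      rw [h3, dg_one]
    have h2 : (π gS) ^ (q + 1) = 1 := by rw [← map_pow, h1, map_one]
    have h3 := orderOf_dvd_of_pow_eq_one h2
    have h4 : Odd (q + 1) := by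
      refine Even.add_one ?_
      rw [hq]
      exact (Nat.even_pow.2 ⟨even_two, by omega⟩)
    exact h4.of_dvd_nat h3

end Cfsg.Agent.KantorSeitz.PSUTorus
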