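import Cfsg.Agent.KantorSeitz.PSUTorus
import Cfsg.Agent.SuzukiRankOne.Assembly
import Cfsg.Agent.S1121
import Cfsg.Agent.S1119
import Cfsg.Agent.S1141

/-!
# Structure of `Q` in a simple rank-one set-up

`structure_Q` : for a simple faithful rank-one set-up `(G, Ω, a, t, Q)` of `2`-rank at least two, with
`2 ^ k = 1 + |involutions of G_a|`, either `|Q| = 2 ^ k`, or `|Q| = (2 ^ k) ^ 2`, or `|Q| = (2 ^ k) ^ 3` and
some non-identity element of the two-point stabiliser centralises all involutions of `G_a`.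
-/

set_option autoImplicit false
set_option linter.unusedSectionVars false

open Cfsg

namespace Cfsg.Agent.KantorSeitz.RankOneMore

open MulAction SuzukiRankOne LieRecognition

variable {G Ω : Type*} [Group G] [Finite G] [MulAction G Ω] {a : Ω} {t : G} {Q : Subgroup G}

/-- the subgroup of the involutions of `G_a` and `1` -/
theorem exists_Z0 [FaithfulSMul G Ω] (hS : IsRankOneSetup G Ω a t Q)
    (h2 : ∃ x y : G, x ≠ 1 ∧ y ≠ 1 ∧ x ≠ y ∧ x * x = 1 ∧ y * y = 1 ∧ x * y = y * x) :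
    ∃ (Z0 : Subgroup G) (k : ℕ), (∀ x, x ∈ Z0 ↔ x ∈ Q ∧ x * x = 1) ∧
      (∀ x ∈ Z0, ∀ y ∈ Q, x * y = y * x) ∧ 2 ≤ k ∧ Nat.card Z0 = 2 ^ k ∧
      Nat.card (involutionsIn (stabilizer G a : Set G)) + 1 = 2 ^ k := by
  obtain ⟨hcen, hclosed⟩ := S1130.result hS h2
  have hc : ∀ x ∈ Q, x * x = 1 → ∀ y ∈ Q, x * y = y * x := by
    intro x hx hx2 y hy
    by_cases h1 : x = 1
    · rw [h1, one_mul, mul_one]
    · exact (hcen x ⟨hS.le hx, h1, hx2⟩).2 y hy
  let Z0 : Subgroup G :=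
    { carrier := {x | x ∈ Q ∧ x * x = 1}
      one_mem' := ⟨one_mem _, one_mul 1⟩
      mul_mem' := by
        rintro x y ⟨hx, hx2⟩ ⟨hy, hy2⟩
        refine ⟨mul_mem hx hy, ?_⟩
        calc x * y * (x * y) = x * (y * x) * y := by group
          _ = (x * x) * (y * y) := by rw [← hc x hx hx2 y hy]; group
          _ = 1 := by rw [hx2, hy2, one_mul]
      inv_mem' := by
        rintro x ⟨hx, hx2⟩
        refine ⟨inv_mem hx, ?_⟩
        rw [← mul_inv_rev, hx2, inv_one] }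
  have hZ0 : ∀ x, x ∈ Z0 ↔ x ∈ Q ∧ x * x = 1 := fun x => Iff.rfl
  have hset : (Z0 : Set G) = insert 1 (involutionsIn (stabilizer G a : Set G)) := by
    ext x
    constructor
    · rintro ⟨hx, hx2⟩
      by_cases h1 : x = 1
      · exact Or.inl h1
      · exact Or.inr ⟨hS.le hx, h1, hx2⟩
    · rintro (rfl | ⟨h1, h2, h3⟩)
      · exact one_mem Z0
      · exact ⟨(hcen x ⟨h1, h2, h3⟩).1, h3⟩
  have hcard : Nat.card Z0 = Nat.card (involutionsIn (stabilizer G a : Set G)) + 1 := by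
    have h1 : Nat.card Z0 = (Z0 : Set G).ncard := Nat.card_coe_set_eq _
    rw [h1, hset, Set.ncard_insert_of_notMem, ← Nat.card_coe_set_eq]
    rintro ⟨-, h, -⟩
    exact h rfl
  have : Fact (Nat.Prime 2) := ⟨Nat.prime_two⟩
  have hp : IsPGroup 2 Z0 := fun x => ⟨1, Subtype.ext (by
    change (x : G) ^ 2 ^ 1 = 1
    rw [pow_one, pow_two]
    exact x.2.2)⟩
  obtain ⟨k, hk⟩ := IsPGroup.iff_card.1 hp
  refine ⟨Z0, k, hZ0, fun x hx y hy => hc x hx.1 hx.2 y hy, ?_, hk, by rw [← hcard, hk]⟩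
  -- at least four elements
  obtain ⟨x, y, hx1, hy1, hxy, hx2, hy2, hxy'⟩ := h2
  obtain ⟨c, hcx⟩ := RankOneBasic.exists_fixed hS hx2
  have hcy : y • c = c := RankOneBasic.fixed_unique hS hx1 hx2
    (by rw [← mul_smul, hxy', mul_smul, hcx]) hcx
  obtain ⟨g, rfl⟩ := RankOneBasic.exists_smul_eq' hS a c
  have hmem : ∀ z : G, z * z = 1 → z • (g • a) = g • a → g⁻¹ * z * g ∈ Z0 := by
    intro z hz2 hz
    have h1 : g⁻¹ * z * g ∈ stabilizer G a := by
      rw [mem_stabilizer_iff, mul_smul, mul_smul, hz, inv_smul_smul]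
    have h2 : (g⁻¹ * z * g) * (g⁻¹ * z * g) = 1 := by
      calc (g⁻¹ * z * g) * (g⁻¹ * z * g) = g⁻¹ * (z * z) * g := by group
        _ = 1 := by rw [hz2]; group
    exact ⟨RankOneBasic.mem_of_mul_self hS h1 h2, h2⟩
  have hinj : ∀ z w : G, g⁻¹ * z * g = g⁻¹ * w * g → z = w := fun z w h =>
    mul_left_cancel (mul_right_cancel h)
  by_contra hk2
  have hk3 : Nat.card Z0 ≤ 2 := by
    rw [hk]
    calc 2 ^ k ≤ 2 ^ 1 := Nat.pow_le_pow_right (by norm_num) (by omega)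
      _ = 2 := by norm_num
  have h3 : ({(1 : G), g⁻¹ * x * g, g⁻¹ * y * g} : Set G) ⊆ (Z0 : Set G) := by
    rintro z (rfl | rfl | rfl)
    · exact one_mem _
    · exact hmem x hx2 hcx
    · exact hmem y hy2 hcy
  have h4 := Set.ncard_le_ncard h3 (Set.toFinite _)
  have h5 : (Z0 : Set G).ncard = Nat.card Z0 := (Nat.card_coe_set_eq _).symm
  rw [h5] at h4
  have h6 : ({(1 : G), g⁻¹ * x * g, g⁻¹ * y * g} : Set G).ncard = 3 := by
    rw [Set.ncard_eq_three]
    refine ⟨_, _, _, ?_, ?_, ?_, rfl⟩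
    · intro h
      exact hx1 (hinj _ _ (by rw [← h]; group))
    · intro h
      exact hy1 (hinj _ _ (by rw [← h]; group))
    · intro h
      exact hxy (hinj _ _ h)
  omega

/-- the torus of `PSU₃(q)` gives an element of the two-point stabiliser centralising the involutions of `G_a` -/
theorem exists_torus_elem [FaithfulSMul G Ω] (hS : IsRankOneSetup G Ω a t Q) (hQ2 : IsPGroup 2 Q)
    (hcen : ∀ s ∈ involutionsIn (stabilizer G a : Set G), s ∈ Q ∧ ∀ x ∈ Q, s * x = x * s)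
    {F : Type} [Field F] [Fintype F] {n : ℕ} (hn : 2 ≤ n) (hF : Fintype.card F = (2 ^ n) ^ 2)
    (φ : G ≃* PSU 3 F (2 ^ n))
    (hI : Nat.card (involutionsIn (stabilizer G a : Set G)) + 1 = 2 ^ n) :
    ∃ d ∈ stabilizer G a ⊓ stabilizer G (t • a), d ≠ 1 ∧
      ∀ s ∈ involutionsIn (stabilizer G a : Set G), d * s = s * d := by
  classical
  obtain ⟨Λ, e, g, hΛ, hinj, he, hcomm, hg1, hgodd⟩ := PSUTorus.exists_torus hn hF
  have h4 : 4 ≤ 2 ^ n := by
    calc 4 = 2 ^ 2 := by norm_num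
      _ ≤ 2 ^ n := Nat.pow_le_pow_right (by norm_num) hn
  have hΛ0 : Λ.Nonempty := by
    rw [Set.nonempty_iff_ne_empty]
    rintro rfl
    rw [Set.ncard_empty] at hΛ
    omega
  obtain ⟨l0, hl0⟩ := hΛ0
  -- pull back
  have hu2 : φ.symm (e ⟨l0, hl0⟩) * φ.symm (e ⟨l0, hl0⟩) = 1 := by
    rw [← map_mul, (he _).2.1, map_one]
  obtain ⟨b, hb⟩ := RankOneBasic.exists_fixed hS hu2
  obtain ⟨c, rfl⟩ := RankOneBasic.exists_smul_eq' hS a b
  let e' : Λ → G := fun i => c⁻¹ * φ.symm (e i) * c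
  let g' : G := c⁻¹ * φ.symm g * c
  have hinj' : Function.Injective e' := by
    intro i j hij
    exact hinj (φ.symm.injective (mul_left_cancel (mul_right_cancel hij)))
  have hmul : ∀ x y : PSU 3 F (2 ^ n), (c⁻¹ * φ.symm x * c) * (c⁻¹ * φ.symm y * c) =
      c⁻¹ * φ.symm (x * y) * c := by
    intro x y
    rw [map_mul]
    group
  have he1 : ∀ i, e' i ≠ 1 := by
    intro i h
    apply (he i).1
    apply φ.symm.injective
    rw [map_one]
    calc φ.symm (e i) = c * (c⁻¹ * φ.symm (e i) * c) * c⁻¹ := by group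
      _ = c * 1 * c⁻¹ := by rw [show c⁻¹ * φ.symm (e i) * c = 1 from h]
      _ = 1 := by group
  have he2 : ∀ i, e' i * e' i = 1 := by
    intro i
    change (c⁻¹ * φ.symm (e i) * c) * (c⁻¹ * φ.symm (e i) * c) = 1
    rw [hmul, (he i).2.1, map_one]
    group
  have heg : ∀ i, g' * e' i = e' i * g' := by
    intro i
    change (c⁻¹ * φ.symm g * c) * (c⁻¹ * φ.symm (e i) * c) =
      (c⁻¹ * φ.symm (e i) * c) * (c⁻¹ * φ.symm g * c)
    rw [hmul, hmul, (he i).2.2]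
  have hec : ∀ i j, e' i * e' j = e' j * e' i := by
    intro i j
    change (c⁻¹ * φ.symm (e i) * c) * (c⁻¹ * φ.symm (e j) * c) =
      (c⁻¹ * φ.symm (e j) * c) * (c⁻¹ * φ.symm (e i) * c)
    rw [hmul, hmul, hcomm]
  have h0 : e' ⟨l0, hl0⟩ • a = a := by
    change (c⁻¹ * φ.symm (e ⟨l0, hl0⟩) * c) • a = a
    rw [mul_smul, mul_smul, hb, inv_smul_smul]
  have hfix : ∀ i, e' i • a = a := by
    intro i
    refine RankOneBasic.fixed_unique hS (he1 ⟨l0, hl0⟩) (he2 ⟨l0, hl0⟩) ?_ h0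
    rw [← mul_smul, hec, mul_smul, h0]
  have hgfix : g' • a = a := by
    refine RankOneBasic.fixed_unique hS (he1 ⟨l0, hl0⟩) (he2 ⟨l0, hl0⟩) ?_ h0
    rw [← mul_smul, ← heg, mul_smul, h0]
  have hsub : Set.range e' ⊆ involutionsIn (stabilizer G a : Set G) := by
    rintro _ ⟨i, rfl⟩
    exact ⟨mem_stabilizer_iff.2 (hfix i), he1 i, he2 i⟩
  have hcardr : (Set.range e').ncard = Λ.ncard := by
    rw [← Set.image_univ, Set.ncard_image_of_injective _ hinj', Set.ncard_univ, Nat.card_coe_set_eq]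
  have heq : Set.range e' = involutionsIn (stabilizer G a : Set G) := by
    refine Set.eq_of_subset_of_ncard_le hsub ?_ (Set.toFinite _)
    rw [hcardr, ← Nat.card_coe_set_eq]
    omega
  have hgI : ∀ s ∈ involutionsIn (stabilizer G a : Set G), g' * s = s * g' := by
    intro s hs
    rw [← heq] at hs
    obtain ⟨i, rfl⟩ := hs
    exact heg i
  have hg1' : g' ≠ 1 := by
    intro h
    apply hg1
    apply φ.symm.injective
    rw [map_one]
    calc φ.symm g = c * (c⁻¹ * φ.symm g * c) * c⁻¹ := by group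
      _ = c * 1 * c⁻¹ := by rw [show c⁻¹ * φ.symm g * c = 1 from h]
      _ = 1 := by group
  obtain ⟨y, hy, d, hd, hyd⟩ := RankOneBasic.exists_mul_of_mem_stabilizer hS
    (mem_stabilizer_iff.2 hgfix)
  refine ⟨d, hd, ?_, ?_⟩
  · rintro rfl
    rw [mul_one] at hyd
    apply hg1'
    -- odd order in a two-group
    have h5 : g' ∈ Q := by rw [hyd]; exact hy
    obtain ⟨m, hm⟩ := hQ2 ⟨g', h5⟩
    have hm' : g' ^ 2 ^ m = 1 := congrArg Subtype.val hm
    have h6 : orderOf g' ∣ 2 ^ m := orderOf_dvd_of_pow_eq_one hm'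
    have h7 : orderOf g' ∣ orderOf g := by
      apply orderOf_dvd_of_pow_eq_one
      have h9 : ∀ j : ℕ, (c⁻¹ * φ.symm g * c) ^ j = c⁻¹ * φ.symm (g ^ j) * c := by
        intro j
        rw [map_pow]
        have := conj_pow (i := j) (a := c⁻¹) (b := φ.symm g)
        rwa [inv_inv] at this
      change (c⁻¹ * φ.symm g * c) ^ orderOf g = 1
      rw [h9, pow_orderOf_eq_one, map_one]
      group
    have h8 : Nat.Coprime (2 ^ m) (orderOf g) := Nat.Coprime.pow_left m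
      (Nat.coprime_two_left.2 hgodd)
    exact orderOf_eq_one_iff.1 (Nat.eq_one_of_dvd_coprimes h8 h6 h7)
  · intro s hs
    have h10 : d = y⁻¹ * g' := by rw [hyd]; group
    have h11 := (hcen s hs).2 y hy
    have h12 : s * y⁻¹ = y⁻¹ * s := by
      calc s * y⁻¹ = y⁻¹ * (y * s) * y⁻¹ := by group
        _ = y⁻¹ * s := by rw [← h11]; group
    rw [h10, mul_assoc, hgI s hs, ← mul_assoc, ← h12, mul_assoc]

/-- **Structure of `Q`.** -/
theorem structure_Q [FaithfulSMul G Ω] [IsSimpleGroup G] (hS : IsRankOneSetup G Ω a t Q)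
    (h2 : ∃ x y : G, x ≠ 1 ∧ y ≠ 1 ∧ x ≠ y ∧ x * x = 1 ∧ y * y = 1 ∧ x * y = y * x) :
    ∃ (Z0 : Subgroup G) (k : ℕ), (∀ x, x ∈ Z0 ↔ x ∈ Q ∧ x * x = 1) ∧
      (∀ x ∈ Z0, ∀ y ∈ Q, x * y = y * x) ∧ 2 ≤ k ∧ Nat.card Z0 = 2 ^ k ∧ IsPGroup 2 Q ∧
      (Q = Z0 ∨ Nat.card Q = (2 ^ k) ^ 2 ∨
        (Nat.card Q = (2 ^ k) ^ 3 ∧ (∀ x ∈ Q, x * x ∈ Z0) ∧
          ∃ d ∈ stabilizer G a ⊓ stabilizer G (t • a), d ≠ 1 ∧ ∀ s ∈ Z0, d * s = s * d)) := by
  obtain ⟨Z0, k, hZ0, hZc, hk2, hcardZ, hI⟩ := exists_Z0 hS h2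
  obtain ⟨hcen, hclosed⟩ := S1130.result hS h2
  have hK := S1131.result hS h2
  obtain ⟨C, hC, hCc, -⟩ := id hK
  obtain ⟨⟨s, r⟩, ⟨hs, hr, hsr⟩, -⟩ := S1123.result hS
  simp only at hs hr hsr
  have hgen := Generate.closure_eq_top hS
  have hQ2 := M1.isPGroup_Q hS h2
  refine ⟨Z0, k, hZ0, hZc, hk2, hcardZ, hQ2, ?_⟩
  by_cases hall : ∀ x ∈ Q, x * x = 1
  · left
    ext x
    rw [hZ0]
    exact ⟨fun h => ⟨h, hall x h⟩, fun h => h.1⟩
  right
  by_cases hrs : r = s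
  · right
    subst hrs
    have hinv : r⁻¹ = r := inv_eq_of_mul_eq_one_left hs.2.2
    rw [hinv] at hsr
    obtain ⟨F, iF, iFt, iFc, κ, iA, δ, T, hδ1⟩ :=
      SingerField.exists_torus hS hcen C hC hCc r hs
    obtain ⟨hsq, -, hcard⟩ := TranslationMain.main hS h2 T (by rw [hδ1]; exact hsr)
    have hcard' := hcard.resolve_left hall
    rw [UThreeMain.card_field hS T] at hcard'
    obtain ⟨L, iL, iLf, n, hn, hL, ⟨φ⟩⟩ := UThreeMain.nonempty_mulEquiv hS h2 hcen C hC hCc r hs hsr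
      hcard' (fun x hx => by
        by_cases h1 : x * x = 1
        · exact Or.inl h1
        · exact Or.inr ⟨hS.le (Q.mul_mem hx hx), h1, hsq x hx⟩) hgen
    -- the order of a Sylow subgroup
    obtain ⟨P, hP⟩ := (S1119.result hS).2.2.2.1
    have : Fact (Nat.Prime 2) := ⟨Nat.prime_two⟩
    have hPQ : (P : Subgroup G) = Q := (P.is_maximal' hQ2 hP).symm
    have h41 := (S1141.result hn hL default).1
    have hcardP : Nat.card P = (2 ^ n) ^ 3 := by
      rw [← h41, Sylow.card_eq_multiplicity, Sylow.card_eq_multiplicity, Nat.card_congr φ.toEquiv]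
    have hQn : Nat.card Q = (2 ^ n) ^ 3 := by
      rw [← hcardP, ← hPQ]
    have hkn : 2 ^ k = 2 ^ n := by
      have h3 : (2 ^ k) ^ 3 = (2 ^ n) ^ 3 := by rw [← hQn, hcard', hI]
      exact Nat.pow_left_injective (by norm_num : 3 ≠ 0) h3
    refine ⟨by rw [hcard', hI], fun x hx => (hZ0 _).2 ⟨mul_mem hx hx, hsq x hx⟩, ?_⟩
    obtain ⟨d, hd, hd1, hdc⟩ := exists_torus_elem hS hQ2 hcen hn hL φ (by rw [hI, hkn])
    refine ⟨d, hd, hd1, fun x hx => ?_⟩
    by_cases h1 : x = 1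
    · rw [h1, mul_one, one_mul]
    · exact hdc x ⟨hS.le ((hZ0 x).1 hx).1, h1, ((hZ0 x).1 hx).2⟩
  · left
    have : Fact (Nat.Prime 2) := ⟨Nat.prime_two⟩
    have hnab : ¬ ∀ x ∈ Q, ∀ y ∈ Q, x * y = y * x := fun h =>
      hrs (AbelianCase.r_eq_s hS h2 C hC hQ2 h s r hs hr hsr)
    let S : Sylow 2 Q := default
    have hST : (S : Subgroup Q) = ⊤ :=
      (S.is_maximal' (hQ2.of_equiv Subgroup.topEquiv.symm) le_top).symm
    have hSuz : IsSuzukiTwoGroup ↥(S : Subgroup Q) := by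
      rcases S1132.result hS h2 S with h | h
      · exfalso
        apply hnab
        intro x hx y hy
        have hmem : ∀ x : Q, x ∈ (S : Subgroup Q) := fun x => by
          rw [hST]
          exact Subgroup.mem_top x
        have h3 := h.is_comm.comm (⟨⟨x, hx⟩, hmem _⟩ : (S : Subgroup Q)) ⟨⟨y, hy⟩, hmem _⟩
        exact congrArg (fun z : (S : Subgroup Q) => ((z : Q) : G)) h3
      · exact h
    obtain ⟨h4, hcard, n, hn⟩ := Assembly.of_suzuki hS hcen S hST hSuz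
    have hr2 : r * r = s := OrderFive.sq_eq hS hcen hclosed hs hr hsr hrs (h4 r hr)
    have hcard' : Nat.card Q = (Nat.card (involutionsIn (stabilizer G a : Set G)) + 1) ^ 2 := by
      refine hcard.resolve_right ?_
      rw [hn]
      exact OrderFive.card_ne_cube hS hcen hclosed hC hs hr hsr hrs (h4 r hr) hn
    rw [hcard', hI]

end Cfsg.Agent.KantorSeitz.RankOneMore
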